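import Groth.Agent.Cyc90.Dev.OnePoint

/-! Families of comparisons at points of top dimension. -/

set_option autoImplicit false
set_option backward.isDefEq.respectTransparency.types false
set_option linter.style.haveILetI false
universe u

open CategoryTheory CategoryTheory.Limits AlgebraicGeometry TopologicalSpace IsLocalRing

namespace Groth.Agent.Cyc90.Dev

open QC70

variable {X : Scheme.{u}} {δ : X → ℤ} {k : ℤ} {κ : Type u}

/-- The classes of two families of sheaves differ by the sum of their divisors. -/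
theorem toK_family (hX : Cyc.IsSetup X δ) (ξ : κ → X)
    (hlf : ∀ x : X, ∃ U : Set X, IsOpen U ∧ x ∈ U ∧ {i | (closure {ξ i} ∩ U).Nonempty}.Finite)
    (E G : κ → X.Modules) (hE : ∀ i, IsOne δ k (E i) (ξ i)) (hG : ∀ i, IsOne δ k (G i) (ξ i))
    (c : ∀ i, ∀ η : X, δ η = k + 1 →
      ((E i).presheaf.stalk η →ₗ[X.presheaf.stalk η] (G i).presheaf.stalk η))
    (hc : ∀ i, Function.Bijective (c i (ξ i) (hE i).dim))
    (d : κ → X → ℤ) (hd0 : ∀ i x, (δ x ≠ k ∨ ¬ ξ i ⤳ x) → d i x = 0)
    (hd : ∀ i x, δ x = k → ξ i ⤳ x →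
      Cyc.sheafFun δ k (cokernel (graphSnd (c i))) x - Cyc.sheafFun δ k (cokernel (graphFst (c i))) x = d i x)
    {γ : X → ℤ} (hγ : IsCycFun δ k γ) (hsum : ∀ x, γ x = ∑ᶠ i, d i x) :
    Cyc.toK0CohQuot δ (k + 1) (k - 1) (∐ G) - Cyc.toK0CohQuot δ (k + 1) (k - 1) (∐ E) =
      Cyc.toK0CohQuot δ (k + 1) (k - 1) (Cyc.cycleSheafPos γ) -
        Cyc.toK0CohQuot δ (k + 1) (k - 1) (Cyc.cycleSheafNeg γ) := by
  have := hX.1
  have hlE : LocFin E := LocFin.of_closure ξ (fun i => (hE i).supp) hlf
  have hlG : LocFin G := LocFin.of_closure ξ (fun i => (hG i).supp) hlf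
  haveI := fun i => mono_graphFst (c i) hX (hE i) (hG i) (hc i)
  haveI := fun i => mono_graphSnd (c i) hX (hE i) (hG i) (hc i)
  let Su : κ → ShortComplex X.Modules := fun i =>
    ShortComplex.mk (graphFst (c i)) (cokernel.π (graphFst (c i))) (cokernel.condition _)
  let Sv : κ → ShortComplex X.Modules := fun i =>
    ShortComplex.mk (graphSnd (c i)) (cokernel.π (graphSnd (c i))) (cokernel.condition _)
  have hu : ∀ i, (Su i).ShortExact := fun i =>
    { exact := ShortComplex.exact_of_g_is_cokernel _ (cokernelIsCokernel _)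
      mono_f := by dsimp [Su]; infer_instance
      epi_g := by dsimp [Su]; infer_instance }
  have hv : ∀ i, (Sv i).ShortExact := fun i =>
    { exact := ShortComplex.exact_of_g_is_cokernel _ (cokernelIsCokernel _)
      mono_f := by dsimp [Sv]; infer_instance
      epi_g := by dsimp [Sv]; infer_instance }
  have hlP : LocFin fun i => graph (c i) := hlE.mono fun i => mem_support_of_mono (graphFst (c i))
  have hlC : LocFin fun i => cokernel (graphFst (c i)) :=
    hlE.mono fun i => mem_support_of_epi (cokernel.π (graphFst (c i)))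
  have hlD : LocFin fun i => cokernel (graphSnd (c i)) :=
    hlG.mono fun i => mem_support_of_epi (cokernel.π (graphSnd (c i)))
  have hP := cohLe_coprod (fun i => cohLe_graph (c i) hX (hE i).cohLe (hG i).cohLe) hlP
  have hE' := cohLe_coprod (fun i => (hE i).cohLe) hlE
  have hG' := cohLe_coprod (fun i => (hG i).cohLe) hlG
  have hCk := fun i => cohLe_cokernel_fst (c i) hX (hE i) (hG i) (hc i)
  have hDk := fun i => cohLe_cokernel_snd (c i) hX (hE i) (hG i) (hc i)
  have hC := cohLe_coprod hCk hlC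
  have hD := cohLe_coprod hDk hlD
  have e1 := toK_add (b := k - 1) (sumMap_shortExact Su hu) hP hE' (cohLe_mono hC (by omega))
  have e2 := toK_add (b := k - 1) (sumMap_shortExact Sv hv) hP hG' (cohLe_mono hD (by omega))
  change Cyc.toK0CohQuot δ (k + 1) (k - 1) (∐ E) = Cyc.toK0CohQuot δ (k + 1) (k - 1) (∐ fun i => graph (c i)) +
    Cyc.toK0CohQuot δ (k + 1) (k - 1) (∐ fun i => cokernel (graphFst (c i))) at e1
  change Cyc.toK0CohQuot δ (k + 1) (k - 1) (∐ G) = Cyc.toK0CohQuot δ (k + 1) (k - 1) (∐ fun i => graph (c i)) +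
    Cyc.toK0CohQuot δ (k + 1) (k - 1) (∐ fun i => cokernel (graphSnd (c i))) at e2
  rw [e1, e2, add_sub_add_left_eq_sub]
  refine toK_sub_eq hX hD hC hγ (fun x => ?_) (by omega)
  have hfin : ∀ {M : κ → X.Modules}, LocFin M →
      (Function.support fun i => Cyc.sheafFun δ k (M i) x).Finite := fun {M} hM =>
    (hM.finite x).subset fun i hi => by
      by_contra h
      exact hi (sheafFun_eq_zero (not_nontrivial_iff_subsingleton.1 h))
  rw [sheafFun_coprod hX hDk hlD, sheafFun_coprod hX hCk hlC, hsum,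
    ← finsum_sub_distrib (hfin hlD) (hfin hlC)]
  refine finsum_congr fun i => ?_
  by_cases hx : δ x = k ∧ ξ i ⤳ x
  · exact hd i x hx.1 hx.2
  rw [hd0 i x (not_and_or.1 hx)]
  rcases not_and_or.1 hx with hx | hx
  · simp [Cyc.sheafFun, hx]
  · have h1 := notMem_support_iff.1 fun h => hx
      (specializes_iff_mem_closure.2 ((hE i).supp (mem_support_of_epi (cokernel.π (graphFst (c i))) h)))
    have h2 := notMem_support_iff.1 fun h => hx
      (specializes_iff_mem_closure.2 ((hG i).supp (mem_support_of_epi (cokernel.π (graphSnd (c i))) h)))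
    rw [sheafFun_eq_zero h1, sheafFun_eq_zero h2, sub_zero]

open Classical in
/-- A family of scalars extending one scalar. -/
noncomputable def scalarFun (ξ : X) (w : X.presheaf.stalk ξ) (η : X) : X.presheaf.stalk η :=
  if h : ξ = η then h ▸ w else 1

lemma scalarFun_self (ξ : X) (w : X.presheaf.stalk ξ) : scalarFun ξ w ξ = w := by
  rw [scalarFun, dif_pos rfl]

lemma isUnit_of_residue_ne_zero {ξ : X} {w : X.presheaf.stalk ξ} (hw : X.residue ξ w ≠ 0) : IsUnit w := by
  by_contra h
  exact hw ((IsLocalRing.residue_eq_zero_iff _).2 h)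

theorem toK_pos_eq_neg (hX : Cyc.IsSetup X δ) {α : AlgebraicCycle X ℤ} (hα : α ∈ Cyc.Zk X δ k)
    (h0 : Cyc.RatEquivZero δ k α) :
    Cyc.toK0CohQuot δ (k + 1) (k - 1) (Cyc.cycleSheafPos ⇑α) =
      Cyc.toK0CohQuot δ (k + 1) (k - 1) (Cyc.cycleSheafNeg ⇑α) := by
  obtain ⟨κ, ξ, f, hξ, hf, hlf, hsum⟩ := h0
  choose w hw using fun i => X.residue_surjective (ξ i) (f i)
  let E : κ → X.Modules := fun i => tf δ k (Cyc.closureStructureSheaf (ξ i))
  have hE : ∀ i, IsOne δ k (E i) (ξ i) := fun i => isOne_tf hX _ (hξ i)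
  let c : ∀ i, ∀ η : X, δ η = k + 1 →
      ((E i).presheaf.stalk η →ₗ[X.presheaf.stalk η] (E i).presheaf.stalk η) :=
    fun i η _ => scalarFun (ξ i) (w i) η • LinearMap.id
  have hwne : ∀ i, X.residue (ξ i) (w i) ≠ 0 := fun i => (hw i).symm ▸ hf i
  have hc : ∀ i, Function.Bijective (c i (ξ i) (hE i).dim) := fun i => by
    obtain ⟨v, hv⟩ := isUnit_of_residue_ne_zero (hwne i)
    have e : ⇑(c i (ξ i) (hE i).dim) = fun z : (E i).presheaf.stalk (ξ i) => (v : X.presheaf.stalk (ξ i)) • z := by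
      funext z
      change scalarFun (ξ i) (w i) (ξ i) • z = _
      rw [scalarFun_self, hv]
    rw [e]
    exact MulAction.bijective v
  have key := toK_family hX ξ hlf E E hE hE c hc (fun i x => Cyc.divFun δ (ξ i) (f i) x)
    (fun i x h => dif_neg fun h' => by
      rcases h with h | h
      · exact h (by have := h'.2; rw [hξ i] at this; omega)
      · exact h h'.1)
    (fun i x hx h => ?_) (isCycFun_of_cycle hα) hsum
  · rw [sub_self] at key
    exact sub_eq_zero.1 key.symm
  · rw [sheafFun_sub_eq_ordAt (c i) hX (hE i) (hE i) (hc i) hx h LinearMap.id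
      Function.surjective_id (w i) (hwne i) (fun m => ?_), hw i, Cyc.divFun,
      dif_pos ⟨h, by rw [hx, hξ i]⟩]
    change scalarFun (ξ i) (w i) (ξ i) • (show (E i).presheaf.stalk (ξ i) from (E i).presheaf.stalkSpecializes h m) = _
    rw [scalarFun_self]
    rfl

end Groth.Agent.Cyc90.Dev
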