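import Groth.Agent.Cyc90.Dev.TensorStalk
import Groth.Agent.Cyc90.Dev.FamilyK
import Groth.Agent.Cyc90.C1Tensor
import Groth.Agent.Amp73.GlobGen

/-! The action of an invertible module on K₀. -/

set_option autoImplicit false
set_option backward.isDefEq.respectTransparency.types false
set_option linter.style.haveILetI false
universe u

open CategoryTheory CategoryTheory.Limits AlgebraicGeometry TopologicalSpace IsLocalRing

namespace Groth.Agent.Cyc90.Dev

open QC70 (stalkMapM stalkLinear germM)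

variable {X : Scheme.{u}} {δ : X → ℤ} {k : ℤ} {L : X.Modules}

section Twist

variable (hL : PicF.IsInvertible L)
include hL

lemma cohLe_twist {a : ℤ} {F : X.Modules} (hF : Cyc.CohLe δ a F) :
    Cyc.CohLe δ a (CohB1.tensorMod F L) :=
  ⟨isCoh_twist hF.1 (Amp73.isCoh_of_isInvertible hL), fun x hx => hF.2 x
    ((nonempty_stalk_equiv hL F x).some.toEquiv.nontrivial)⟩

lemma support_twist (F : X.Modules) : CohB1.support (CohB1.tensorMod F L) ⊆ CohB1.support F :=
  fun x hx h => hx (@Equiv.subsingleton _ _ (nonempty_stalk_equiv hL F x).some.symm.toEquiv h)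

lemma toK_twist_add {a b : ℤ} {S : ShortComplex X.Modules} (hS : S.ShortExact)
    (h1 : Cyc.CohLe δ a S.X₁) (h2 : Cyc.CohLe δ a S.X₂) (h3 : Cyc.CohLe δ a S.X₃) :
    Cyc.toK0CohQuot δ a b (CohB1.tensorMod S.X₂ L) =
      Cyc.toK0CohQuot δ a b (CohB1.tensorMod S.X₁ L) + Cyc.toK0CohQuot δ a b (CohB1.tensorMod S.X₃ L) := by
  obtain ⟨T, hT, e1, e2, e3⟩ :=
    Crv77.shortExact_twist (Mero90.isFinLocFreeOfRank_of_isInvertible hL) hS
  rw [← e1, ← e2, ← e3]
  exact toK_add hT (e1 ▸ cohLe_twist hL h1) (e2 ▸ cohLe_twist hL h2) (e3 ▸ cohLe_twist hL h3)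

variable (hX : Cyc.IsSetup X δ) (k)
include hX

/-- The difference of a twist and the identity, on K₀. -/
noncomputable def twK0 : KZero.K0sub (Cyc.CohLe δ (k + 1)) →+ Cyc.K0CohQuot δ (k + 1) (k - 1) :=
  QuotientAddGroup.lift _ (FreeAbelianGroup.lift fun F =>
    Cyc.toK0CohQuot δ (k + 1) (k - 1) (CohB1.tensorMod F.1 L) - Cyc.toK0CohQuot δ (k + 1) (k - 1) F.1) (by
    refine (AddSubgroup.closure_le _).2 ?_
    rintro _ ⟨S, h1, h2, h3, hS, rfl⟩
    rw [SetLike.mem_coe, AddMonoidHom.mem_ker, map_sub, map_sub, FreeAbelianGroup.lift_apply_of,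
      FreeAbelianGroup.lift_apply_of, FreeAbelianGroup.lift_apply_of, toK_twist_add hL hS h1 h2 h3,
      toK_add hS h1 h2 h3]
    abel)

lemma twK0_clSub {F : X.Modules} (hF : Cyc.CohLe δ (k + 1) F) :
    twK0 k hL (KZero.clSub (Cyc.CohLe δ (k + 1)) F) =
      Cyc.toK0CohQuot δ (k + 1) (k - 1) (CohB1.tensorMod F L) - Cyc.toK0CohQuot δ (k + 1) (k - 1) F := by
  rw [KCohDev46.clSub_eq _ hF]
  exact FreeAbelianGroup.lift_apply_of _ _

/-- The difference of a twist and the identity, modulo small modules. -/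
noncomputable def twQuot : Cyc.K0CohQuot δ (k + 1) (k + 1 - 1) →+ Cyc.K0CohQuot δ (k + 1) (k - 1) :=
  QuotientAddGroup.lift _ (twK0 k hL) (by
    refine (AddSubgroup.closure_le _).2 ?_
    rintro _ ⟨D, hD, rfl⟩
    rw [add_sub_cancel_right] at hD
    rw [SetLike.mem_coe, AddMonoidHom.mem_ker, twK0_clSub k hL hX (cohLe_mono hD (by omega)), sub_eq_zero]
    exact toK_eq_of_stalk_equiv hX (cohLe_twist hL hD) hD (by omega) fun η _ =>
      ⟨(nonempty_stalk_equiv hL D η).some.symm⟩)

/-- The difference of a twist only depends on the cycle. -/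
theorem toK_twist_sub_congr {F G : X.Modules} (hF : Cyc.CohLe δ (k + 1) F) (hG : Cyc.CohLe δ (k + 1) G)
    (h : Cyc.sheafFun δ (k + 1) F = Cyc.sheafFun δ (k + 1) G) :
    Cyc.toK0CohQuot δ (k + 1) (k - 1) (CohB1.tensorMod F L) - Cyc.toK0CohQuot δ (k + 1) (k - 1) F =
      Cyc.toK0CohQuot δ (k + 1) (k - 1) (CohB1.tensorMod G L) - Cyc.toK0CohQuot δ (k + 1) (k - 1) G := by
  have key := congrArg (twQuot k hL hX) (toK_eq_of_sheafFun_eq (a := k + 1) hX hF hG h le_rfl)
  rw [← twK0_clSub k hL hX hF, ← twK0_clSub k hL hX hG]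
  exact key

omit hX in
/-- A twist commutes with sums. -/
theorem nonempty_coprod_twist_iso {κ : Type u} (E : κ → X.Modules) :
    Nonempty ((∐ fun i => CohB1.tensorMod (E i) L) ≅ CohB1.tensorMod (∐ E) L) := by
  let ψ : (∐ fun i => CohB1.tensorMod (E i) L) ⟶ CohB1.tensorMod (∐ E) L :=
    Sigma.desc fun i => twMap (Sigma.ι E i) L
  have hψ : ∀ x, Function.Bijective (stalkMapM ψ x) := fun x => by
    classical
    obtain ⟨U, hx, e, he⟩ := Mero90.exists_frame' hL x
    refine ⟨?_, fun z => ?_⟩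
    · suffices h : ∀ j, ψ ≫ twMap (QC70.coprojection E j) L =
          QC70.coprojection (fun i => CohB1.tensorMod (E i) L) j by
        intro a b hab
        refine stalk_coprod_ext _ x fun j => ?_
        rw [← h j, QC70.stalkMapM_comp, QC70.stalkMapM_comp, hab]
      intro j
      refine Sigma.hom_ext _ _ fun i => ?_
      rw [Sigma.ι_desc_assoc]
      change (Crv77.twist L).map (Sigma.ι E i) ≫ (Crv77.twist L).map (QC70.coprojection E j) = _
      rw [← Functor.map_comp]
      by_cases h : i = j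
      · subst h
        rw [QC70.ι_coprojection_self E]
        exact ((Crv77.twist L).map_id (E i)).trans
          (QC70.ι_coprojection_self (fun i => CohB1.tensorMod (E i) L) i).symm
      · rw [QC70.ι_coprojection_ne E h, QC70.ι_coprojection_ne (fun i => CohB1.tensorMod (E i) L) h]
        refine Scheme.Modules.hom_ext _ _ fun V => ?_
        ext z
        refine Var76.ZeroScheme.eq_of_locally _ _ _ fun y hy => ?_
        obtain ⟨W, hyW, e', he'⟩ := Mero90.exists_frame' hL y
        refine ⟨V ⊓ W, inf_le_left, ⟨hy, hyW⟩, ?_⟩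
        obtain ⟨m, hm⟩ := Amp73.exists_eq_tm_frame he' (inf_le_right : V ⊓ W ≤ W)
          (Var76.LineBundle.res (CohB1.tensorMod (E i) L) inf_le_left z)
        change Var76.LineBundle.res _ inf_le_left ((twMap (0 : E i ⟶ E j) L).app V z) = _
        rw [← Mero90.app_res, ← hm, twMap_tm]
        change Amp73.tm (E j) L 0 _ = _
        rw [Amp73.tm_zero_left]
        exact (map_zero _).symm
    · obtain ⟨d, rfl⟩ := (bijective_tmLin (F := ∐ E) e hx he).2 z
      obtain ⟨v, rfl⟩ := QC70.surjective_coprodStalkMap E x d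
      induction v using DirectSum.induction_on with
      | zero => exact ⟨0, (map_zero (stalkLinear ψ x)).trans (by rw [map_zero, map_zero])⟩
      | of i m =>
        refine ⟨stalkMapM (Sigma.ι (fun i => CohB1.tensorMod (E i) L) i) x (tmLin e hx m), ?_⟩
        rw [← QC70.stalkMapM_comp, Sigma.ι_desc, twMap_tmLin, ← DirectSum.lof_eq_of (X.presheaf.stalk x),
          QC70.coprodStalkMap_lof]
      | add v w hv hw =>
        obtain ⟨a, ha⟩ := hv
        obtain ⟨b, hb⟩ := hw
        refine ⟨a + b, ?_⟩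
        change stalkLinear ψ x (a + b) = _
        rw [map_add, map_add, map_add]
        exact congrArg₂ (· + ·) ha hb
  haveI := QC70.isIso_of_bijective_stalkMapM ψ hψ
  exact ⟨asIso ψ⟩

end Twist

lemma toK_congr_iso {a b : ℤ} {A B : X.Modules} (i : A ≅ B) (hA : Cyc.CohLe δ a A) (hB : Cyc.CohLe δ a B) :
    Cyc.toK0CohQuot δ a b A = Cyc.toK0CohQuot δ a b B := by
  obtain ⟨Z, hZ⟩ := HasZeroObject.zero (C := X.Modules)
  have hS : (ShortComplex.mk i.hom (0 : B ⟶ Z) comp_zero).ShortExact :=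
    ShortComplex.Splitting.shortExact
      { r := i.inv
        s := 0
        f_r := i.hom_inv_id
        s_g := hZ.eq_of_src _ _
        id := by simp }
  have := toK_add (b := b) hS hA hB (cohLe_of_isZero hZ)
  simp only at this
  rw [this, toK_small (cohLe_of_isZero hZ), add_zero]

end Groth.Agent.Cyc90.Dev
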