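import Groth.Agent.Cyc90.Dev.Euler
import Groth.Agent.EGA73.Invertible
import Groth.Agent.Inv57.OfTensor
import Groth.Agent.S6469
import Groth.Agent.Cyc90.C1Push

/-! Intersection numbers through Euler characteristics are degrees of iterated caps. -/

set_option autoImplicit false
set_option backward.isDefEq.respectTransparency.types false
set_option linter.style.haveILetI false
universe u

open CategoryTheory CategoryTheory.Limits AlgebraicGeometry TopologicalSpace

namespace Groth.Agent.Cyc90.Dev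

variable {X : Scheme.{u}} {δ : X → ℤ}

/-- The tensor product of the members of a family over a finite set, in increasing order. -/
noncomputable def famTensor {r : ℕ} (M : Fin r → X.Modules) (I : Finset (Fin r)) : X.Modules :=
  FGA.tensorList ((I.sort (· ≤ ·)).map M)

lemma isInvertible_tensorList : ∀ l : List X.Modules, (∀ M ∈ l, PicF.IsInvertible M) →
    PicF.IsInvertible (FGA.tensorList l)
  | [], _ => EGA73.isInvertible_structureModule
  | M :: l, h => EGA73.isInvertible_tensorMod (h M List.mem_cons_self)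
      (isInvertible_tensorList l fun N hN => h N (List.mem_cons_of_mem _ hN))

lemma isInvertible_famTensor {r : ℕ} {M : Fin r → X.Modules} (hM : ∀ i, PicF.IsInvertible (M i))
    (I : Finset (Fin r)) : PicF.IsInvertible (famTensor M I) :=
  isInvertible_tensorList _ fun N hN => by
    obtain ⟨i, -, rfl⟩ := List.mem_map.1 hN
    exact hM i

lemma sort_map_succ {r : ℕ} (I : Finset (Fin r)) :
    (I.map (Fin.succEmb r)).sort (· ≤ ·) = (I.sort (· ≤ ·)).map Fin.succ := by
  refine List.Perm.eq_of_pairwise (le := (· ≤ ·)) (fun a b _ _ => le_antisymm)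
    (Finset.pairwise_sort _ _) ?_ ?_
  · rw [List.pairwise_map]
    exact (Finset.pairwise_sort I (· ≤ ·)).imp fun h => Fin.succ_le_succ_iff.2 h
  · refine (List.perm_ext_iff_of_nodup (Finset.sort_nodup _ _)
      ((Finset.sort_nodup _ _).map (Fin.succ_injective r))).2 fun a => ?_
    simp

lemma famTensor_map_succ {r : ℕ} (M : Fin (r + 1) → X.Modules) (I : Finset (Fin r)) :
    famTensor M (I.map (Fin.succEmb r)) = famTensor (fun i => M i.succ) I := by
  rw [famTensor, famTensor, sort_map_succ, List.map_map]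
  rfl

lemma famTensor_insert_zero {r : ℕ} (M : Fin (r + 1) → X.Modules) (I : Finset (Fin r)) :
    famTensor M (insert 0 (I.map (Fin.succEmb r))) =
      CohB1.tensorMod (M 0) (famTensor (fun i => M i.succ) I) := by
  rw [famTensor, Finset.sort_insert (h₁ := fun b _ => Fin.zero_le b) (h₂ := by simp), List.map_cons,
    FGA.tensorList, ← famTensor, famTensor_map_succ]

lemma notMem_zero_map_succ {r : ℕ} (I : Finset (Fin r)) : (0 : Fin (r + 1)) ∉ I.map (Fin.succEmb r) := by
  simp

lemma sum_finset_fin_succ {r : ℕ} (f : Finset (Fin (r + 1)) → ℤ) :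
    ∑ I : Finset (Fin (r + 1)), f I = (∑ I : Finset (Fin r), f (I.map (Fin.succEmb r))) +
      ∑ I : Finset (Fin r), f (insert 0 (I.map (Fin.succEmb r))) := by
  classical
  have hu : (Finset.univ : Finset (Fin (r + 1))) = insert 0 (Finset.univ.map (Fin.succEmb r)) := by
    ext a
    simp [em]
  rw [← Finset.powerset_univ, hu, Finset.sum_powerset_insert (notMem_zero_map_succ _),
    Finset.map_eq_image, Finset.powerset_image, Finset.sum_image, Finset.sum_image,
    Finset.powerset_univ]
  · simp only [← Finset.map_eq_image]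
  · exact fun a _ b _ h => Finset.image_injective (Fin.succEmb r).injective h
  · exact fun a _ b _ h => Finset.image_injective (Fin.succEmb r).injective h

section Cap

/-- Iterated caps from a coefficient function. -/
noncomputable def capIter (δ : X → ℤ) {r : ℕ} (L : Fin r → X.Modules)
    (s : (i : Fin r) → (ξ : X) → Cyc.secFibre (L i) ξ) (α : X → ℤ) : ℕ → X → ℤ
  | 0 => α
  | i + 1 => if h : i < r then Cyc.c1CapFun δ (L ⟨i, h⟩) (capIter δ L s α i) (s ⟨i, h⟩) else 0

lemma capIter_succ_eq {r : ℕ} (L : Fin (r + 1) → X.Modules)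
    (s : (i : Fin (r + 1)) → (ξ : X) → Cyc.secFibre (L i) ξ) (α : X → ℤ) :
    ∀ i, i ≤ r → capIter δ L s α (i + 1) = capIter δ (fun j => L j.succ) (fun j => s j.succ)
      (Cyc.c1CapFun δ (L 0) α (s 0)) i
  | 0, _ => by
    simp [capIter]
  | i + 1, h => by
    rw [capIter, dif_pos (show i + 1 < r + 1 by omega), capIter_succ_eq L s α i (by omega)]
    conv_rhs => rw [capIter, dif_pos (show i < r by omega)]
    rfl

variable (k : Type u) [Field k] [X.Over (Spec (CommRingCat.of k))]
  [IsProper (X ↘ Spec (CommRingCat.of k))]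

include k in
lemma finite_support_secDiv (hX : Cyc.IsSetup X δ) {L : X.Modules} (hL : PicF.IsInvertible L) (ξ : X)
    (s : Cyc.secFibre L ξ) (hs : s ≠ 0) : (Function.support (Cyc.secDivFun δ L ξ s)).Finite := by
  have := compactSpace_of_proper k (X := X)
  choose N hN hf using secDivFun_locallyFinite hX hL ξ s hs
  choose U hUN hU hxU using fun x => mem_nhds_iff.1 (hN x)
  obtain ⟨t, ht⟩ := isCompact_univ.elim_finite_subcover U hU fun x _ => Set.mem_iUnion.2 ⟨x, hxU x⟩
  refine (t.finite_toSet.biUnion fun x _ => hf x).subset fun ζ hζ => ?_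
  obtain ⟨x, hx, hζx⟩ := Set.mem_iUnion₂.1 (ht (Set.mem_univ ζ))
  exact Set.mem_biUnion hx ⟨hUN x hζx, hζ⟩

include k in
lemma finite_support_c1Cap (hX : Cyc.IsSetup X δ) {L : X.Modules} (hL : PicF.IsInvertible L)
    {α : X → ℤ} (hα : (Function.support α).Finite) (s : (ξ : X) → Cyc.secFibre L ξ) (hs : ∀ ξ, s ξ ≠ 0) :
    (Function.support (Cyc.c1CapFun δ L α s)).Finite := by
  refine (hα.biUnion fun ξ _ => finite_support_secDiv k hX hL ξ (s ξ) (hs ξ)).subset fun x hx => ?_
  obtain ⟨ξ, hξ⟩ : ∃ ξ, α ξ * Cyc.secDivFun δ L ξ (s ξ) x ≠ 0 := by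
    by_contra hall
    push Not at hall
    exact hx (finsum_eq_zero_of_forall_eq_zero hall)
  exact Set.mem_biUnion (left_ne_zero_of_mul hξ) (right_ne_zero_of_mul hξ)

omit [X.Over (Spec (CommRingCat.of k))] [IsProper (X ↘ Spec (CommRingCat.of k))] in
lemma c1Cap_add (L : X.Modules) {α β : X → ℤ} (hα : (Function.support α).Finite)
    (hβ : (Function.support β).Finite) (s : (ξ : X) → Cyc.secFibre L ξ) :
    Cyc.c1CapFun δ L (α + β) s = Cyc.c1CapFun δ L α s + Cyc.c1CapFun δ L β s := by
  funext x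
  show ∑ᶠ ξ, (α + β) ξ * Cyc.secDivFun δ L ξ (s ξ) x =
    (∑ᶠ ξ, α ξ * Cyc.secDivFun δ L ξ (s ξ) x) + ∑ᶠ ξ, β ξ * Cyc.secDivFun δ L ξ (s ξ) x
  rw [← finsum_add_distrib]
  · exact finsum_congr fun ξ => by rw [Pi.add_apply, add_mul]
  · exact hα.subset fun ξ h => left_ne_zero_of_mul (Function.mem_support.1 h)
  · exact hβ.subset fun ξ h => left_ne_zero_of_mul (Function.mem_support.1 h)

include k in
lemma finite_capIter (hX : Cyc.IsSetup X δ) {r : ℕ} {L : Fin r → X.Modules}
    (hL : ∀ i, PicF.IsInvertible (L i)) {α : X → ℤ} (hα : (Function.support α).Finite)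
    (s : (i : Fin r) → (ξ : X) → Cyc.secFibre (L i) ξ) (hs : ∀ i ξ, s i ξ ≠ 0) :
    ∀ i, (Function.support (capIter δ L s α i)).Finite
  | 0 => hα
  | i + 1 => by
    rw [capIter]
    split_ifs with h
    · exact finite_support_c1Cap k hX (hL _) (finite_capIter hX hL hα s hs i) _ (hs _)
    · simp

include k in
lemma capIter_add (hX : Cyc.IsSetup X δ) {r : ℕ} {L : Fin r → X.Modules}
    (hL : ∀ i, PicF.IsInvertible (L i)) {α β : X → ℤ} (hα : (Function.support α).Finite)
    (hβ : (Function.support β).Finite)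
    (s : (i : Fin r) → (ξ : X) → Cyc.secFibre (L i) ξ) (hs : ∀ i ξ, s i ξ ≠ 0) :
    ∀ i, capIter δ L s (α + β) i = capIter δ L s α i + capIter δ L s β i
  | 0 => rfl
  | i + 1 => by
    simp only [capIter]
    split_ifs with h
    · rw [capIter_add hX hL hα hβ s hs i]
      exact c1Cap_add _ (finite_capIter k hX hL hα s hs i) (finite_capIter k hX hL hβ s hs i) _
    · simp

omit [X.Over (Spec (CommRingCat.of k))] [IsProper (X ↘ Spec (CommRingCat.of k))] in
lemma capIter_zero {r : ℕ} (L : Fin r → X.Modules)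
    (s : (i : Fin r) → (ξ : X) → Cyc.secFibre (L i) ξ) : ∀ i, capIter δ L s 0 i = 0
  | 0 => rfl
  | i + 1 => by
    rw [capIter, capIter_zero L s i]
    split_ifs with h
    · funext x
      exact finsum_eq_zero_of_forall_eq_zero fun ξ => zero_mul _
    · rfl

end Cap

variable (k : Type u) [Field k] [X.Over (Spec (CommRingCat.of k))]
  [IsProper (X ↘ Spec (CommRingCat.of k))]

/-- Intersection numbers computed with full Euler characteristics. -/
noncomputable def intE {r : ℕ} (M : Fin r → X.Modules) (F : X.Modules) : ℤ :=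
  ∑ I : Finset (Fin r), (-1 : ℤ) ^ I.card * Curv2.euler k X (CohB1.tensorMod (famTensor M I) F)

omit [IsProper (X ↘ Spec (CommRingCat.of k))] in
lemma intE_congr {r : ℕ} (M : Fin r → X.Modules) {F G : X.Modules} (e : F ≅ G) :
    intE k M F = intE k M G :=
  Finset.sum_congr rfl fun I _ => by rw [Crv77.euler_congr (EGA73.tensIso (Iso.refl _) e)]

omit [IsProper (X ↘ Spec (CommRingCat.of k))] in
lemma intE_succ {r : ℕ} (M : Fin (r + 1) → X.Modules) (F : X.Modules) :
    intE k M F = intE k (fun i => M i.succ) F -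
      intE k (fun i => M i.succ) (CohB1.tensorMod F (M 0)) := by
  rw [intE, sum_finset_fin_succ, sub_eq_add_neg]
  refine congrArg₂ (· + ·) (Finset.sum_congr rfl fun I _ => ?_) ?_
  · rw [Finset.card_map, famTensor_map_succ]
  · rw [intE, ← Finset.sum_neg_distrib]
    refine Finset.sum_congr rfl fun I _ => ?_
    rw [Finset.card_insert_of_notMem (notMem_zero_map_succ I), Finset.card_map,
      famTensor_insert_zero,
      Crv77.euler_congr (EGA73.tensIso (EGA73.tensComm _ _) (Iso.refl F) ≪≫ EGA73.tensAssoc' _ (M 0) F ≪≫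
        EGA73.tensIso (Iso.refl _) (EGA73.tensComm (M 0) F))]
    ring

variable (hδ : Cyc.DeltaCompat (X ↘ Spec (CommRingCat.of k)) δ (fun _ => 0))
  (hX : Cyc.IsSetup X δ)
include hδ hX

omit [X.Over (Spec (CommRingCat.of k))] [IsProper (X ↘ Spec (CommRingCat.of k))] hδ in
lemma cohLe_tensor_left {a : ℤ} {T F : X.Modules} (hT : PicF.IsInvertible T) (hF : Cyc.CohLe δ a F) :
    Cyc.CohLe δ a (CohB1.tensorMod T F) := by
  have := hX.1
  have h := cohLe_twist hT hF
  refine ⟨QC70.isCoh_of_iso (EGA73.tensComm F T) h.1, fun x hx => h.2 x ?_⟩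
  by_contra hn
  haveI := not_nontrivial_iff_subsingleton.1 hn
  have : Function.Surjective (QC70.stalkMapM (EGA73.tensComm F T).hom x) :=
    QC70.surjective_stalkMapM_of_epi _ x
  exact not_subsingleton_iff_nontrivial.2 hx this.subsingleton

lemma intE_add {r : ℕ} {M : Fin r → X.Modules} (hM : ∀ i, PicF.IsInvertible (M i)) {a : ℤ}
    {S : ShortComplex X.Modules} (hS : S.ShortExact) (h1 : Cyc.CohLe δ a S.X₁)
    (h2 : Cyc.CohLe δ a S.X₂) (h3 : Cyc.CohLe δ a S.X₃) :
    intE k M S.X₂ = intE k M S.X₁ + intE k M S.X₃ := by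
  rw [intE, intE, intE, ← Finset.sum_add_distrib]
  refine Finset.sum_congr rfl fun I _ => ?_
  have hT := isInvertible_famTensor hM I
  obtain ⟨T', hT', e1, e2, e3⟩ :=
    Crv77.shortExact_twist (Mero90.isFinLocFreeOfRank_of_isInvertible hT) hS
  rw [← mul_add, Crv77.euler_congr (EGA73.tensComm _ S.X₂), Crv77.euler_congr (EGA73.tensComm _ S.X₁),
    Crv77.euler_congr (EGA73.tensComm _ S.X₃), ← e1, ← e2, ← e3,
    euler_shortExact k hδ hX hT' (e1 ▸ cohLe_twist hT h1) (e2 ▸ cohLe_twist hT h2)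
      (e3 ▸ cohLe_twist hT h3)]

/-- The intersection number is the degree of the iterated cap. -/
theorem intE_eq_degFun : ∀ {r : ℕ} (L M : Fin r → X.Modules) (_ : ∀ i, PicF.IsInvertible (L i))
    (_ : ∀ i, Nonempty (CohB1.tensorMod (M i) (L i) ≅ Coh.structureModule X))
    (s : (i : Fin r) → (ξ : X) → Cyc.secFibre (L i) ξ) (_ : ∀ i ξ, s i ξ ≠ 0) (F : X.Modules),
    Cyc.CohLe δ (r : ℤ) F →
    intE k M F = degFun k (capIter δ L s (Cyc.sheafFun δ (r : ℤ) F) r) := by
  intro r
  induction r with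
  | zero =>
    intro L M _ _ s _ F hF
    rw [intE, Fintype.sum_subsingleton _ (∅ : Finset (Fin 0)), Finset.card_empty, pow_zero, one_mul,
      famTensor, Finset.sort_empty, List.map_nil, FGA.tensorList,
      Crv77.euler_congr (EGA73.tensUnitLeft F)]
    exact euler_eq_degFun k hδ hX (by simpa using hF)
  | succ r ih =>
    intro L M hL hM s hs F hF
    rw [intE_succ, capIter_succ_eq L s _ r le_rfl]
    rw [Nat.cast_succ] at hF ⊢
    have hM0 : PicF.IsInvertible (M 0) := (hM 0).elim Inv57.isInvertible_of_tensorMod_iso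
    have hMi : ∀ i, PicF.IsInvertible (M i) := fun i => (hM i).elim Inv57.isInvertible_of_tensorMod_iso
    let L' : Fin r → X.Modules := fun i => L i.succ
    let M' : Fin r → X.Modules := fun i => M i.succ
    let s' : (i : Fin r) → (ξ : X) → Cyc.secFibre (L' i) ξ := fun i => s i.succ
    have hIH := ih L' M' (fun i => hL _) (fun i => hM _) s' (fun i => hs _)
    have hzero : ∀ G, Cyc.CohLe δ ((r : ℤ) + 1) G → Cyc.CohLe δ ((r : ℤ) - 1) G → intE k M' G = 0 := by
      intro G _ hG
      rw [hIH G (cohLe_mono hG (by omega)),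
        show Cyc.sheafFun δ (r : ℤ) G = 0 from funext fun x => ?_, capIter_zero, degFun]
      · simp
      · by_cases hx : δ x = r
        · exact sheafFun_eq_zero (not_nontrivial_iff_subsingleton.1 fun h => by
            have := hG.2 x h
            omega)
        · exact if_neg hx
    let φ : Cyc.K0CohQuot δ ((r : ℤ) + 1) ((r : ℤ) - 1) →+ ℤ :=
      quotHom (fun G => intE k M' G) (fun S hS => intE_add k hδ hX (fun i => hMi _) hS) hzero
    have hφ : ∀ G, Cyc.CohLe δ ((r : ℤ) + 1) G →
        φ (Cyc.toK0CohQuot δ ((r : ℤ) + 1) ((r : ℤ) - 1) G) = intE k M' G :=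
      fun G hG => quotHom_apply _ _ _ hG
    let F' := CohB1.tensorMod F (M 0)
    have hF' : Cyc.CohLe δ ((r : ℤ) + 1) F' := cohLe_twist hM0 hF
    have hfun : Cyc.sheafFun δ ((r : ℤ) + 1) F' = Cyc.sheafFun δ ((r : ℤ) + 1) F := funext fun x => by
      simp only [Cyc.sheafFun]
      rw [(nonempty_stalk_equiv hM0 F x).some.length_eq]
    have hαc := isCycFun_sheafFun hX hF
    let α : AlgebraicCycle X ℤ :=
      { toFun := Cyc.sheafFun δ ((r : ℤ) + 1) F
        supportWithinDomain' := Set.subset_univ _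
        supportLocallyFiniteWithinDomain' := fun x _ =>
          ⟨Set.univ, Filter.univ_mem, (IsCycFun.finite_support k hαc).subset fun y hy => hy.2⟩ }
    obtain ⟨γ, hγ⟩ := exists_c1CapCycle hX (hL 0) α (s 0) (hs 0)
    have hγk : γ ∈ Cyc.Zk X δ r := fun x hx => by
      rw [hγ]
      refine finsum_eq_zero_of_forall_eq_zero fun ξ => ?_
      by_contra h
      have h1 : Cyc.sheafFun δ ((r : ℤ) + 1) F ξ ≠ 0 := left_ne_zero_of_mul h
      have h2 : Cyc.secDivFun δ (L 0) ξ (s 0 ξ) x ≠ 0 := right_ne_zero_of_mul h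
      unfold Cyc.secDivFun at h2
      split_ifs at h2 with hc
      · have := hαc.dim ξ h1
        omega
      · exact h2 rfl
    have key := S6469.result X δ hX (r : ℤ) (L 0) (hL 0) F' hF'.1 hF'.2 (s 0) (hs 0) γ hγk
      (by rw [hfun]; exact hγ)
    obtain ⟨e0⟩ := hM 0
    let eF : CohB1.tensorMod F' (L 0) ≅ F :=
      EGA73.tensAssoc' F (M 0) (L 0) ≪≫ EGA73.tensIso (Iso.refl F) e0 ≪≫ EGA73.tensUnitRight F
    have hc := isCycFun_of_cycle hγk
    have hP := hc.cohLe_pos hX
    have hN : Cyc.CohLe δ (r : ℤ) (Cyc.cycleSheafNeg ⇑γ) := hc.neg.cohLe_pos hX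
    rw [toK_congr_iso eF (cohLe_twist (hL 0) hF') hF] at key
    have key2 := congrArg φ key
    rw [map_sub, map_sub, hφ _ hF, hφ _ hF', hφ _ (cohLe_mono hP (by omega)),
      hφ _ (cohLe_mono hN (by omega)), hIH _ hP, hIH _ hN] at key2
    have hneg : Cyc.sheafFun δ (r : ℤ) (Cyc.cycleSheafNeg ⇑γ) = fun x => if 0 < -γ x then -γ x else 0 :=
      funext (hc.neg.sheafFun_pos hX)
    have hsplit : Cyc.sheafFun δ (r : ℤ) (Cyc.cycleSheafPos ⇑γ) =
        ⇑γ + Cyc.sheafFun δ (r : ℤ) (Cyc.cycleSheafNeg ⇑γ) := funext fun x => by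
      rw [Pi.add_apply, hc.sheafFun_pos hX x, hneg]
      dsimp only
      split_ifs <;> omega
    have f1 := IsCycFun.finite_support k hc
    have f2 := IsCycFun.finite_support k (isCycFun_sheafFun hX hN)
    rw [hsplit, capIter_add k hX (fun i => hL _) f1 f2 s' (fun i => hs _),
      degFun_add k (finite_capIter k hX (fun i => hL _) f1 s' (fun i => hs _) r)
        (finite_capIter k hX (fun i => hL _) f2 s' (fun i => hs _) r),
      add_sub_cancel_right] at key2
    rw [key2, hγ]
    rfl

/-- The definition with bounded Euler characteristics agrees. -/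
theorem intNum_eq_degFun {r D : ℕ} (L M : Fin r → X.Modules) (hL : ∀ i, PicF.IsInvertible (L i))
    (hM : ∀ i, Nonempty (CohB1.tensorMod (M i) (L i) ≅ Coh.structureModule X))
    (s : (i : Fin r) → (ξ : X) → Cyc.secFibre (L i) ξ) (hs : ∀ i ξ, s i ξ ≠ 0) (F : X.Modules)
    (hF : Cyc.CohLe δ (r : ℤ) F) (hD : r ≤ D) (γ : ℕ → X → ℤ) (hγ0 : γ 0 = Cyc.sheafFun δ (r : ℤ) F)
    (hγs : ∀ (i : ℕ) (h : i < r), γ (i + 1) = Cyc.c1CapFun δ (L ⟨i, h⟩) (γ i) (s ⟨i, h⟩)) :
    FGA.intNum k X D M F = degFun k (γ r) := by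
  have hγ : ∀ i, i ≤ r → γ i = capIter δ L s (Cyc.sheafFun δ (r : ℤ) F) i := by
    intro i
    induction i with
    | zero => exact fun _ => hγ0
    | succ i ih => intro h; rw [capIter, dif_pos (show i < r by omega), hγs i h, ih (by omega)]
  rw [hγ r le_rfl, ← intE_eq_degFun k hδ hX L M hL hM s hs F hF]
  refine Finset.sum_congr rfl fun I _ => ?_
  exact congrArg _ (eulerCharLE_eq k hδ hX (cohLe_tensor_left hX
    (isInvertible_famTensor (fun i => (hM i).elim Inv57.isInvertible_of_tensorMod_iso) I) hF)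
    (by exact_mod_cast hD : (r : ℤ) ≤ (D : ℤ)))

end Groth.Agent.Cyc90.Dev
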