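import Groth.Agent.Formal27.QuasiAffine
import Groth.Agent.Pinch99.Faithful

/-! Inverse images of duals of finite locally free modules. -/

set_option autoImplicit false
set_option backward.isDefEq.respectTransparency.types false
set_option synthInstance.maxHeartbeats 200000
universe u

open CategoryTheory CategoryTheory.Limits AlgebraicGeometry TopologicalSpace Opposite

noncomputable section

namespace Groth.Agent.Cyc90.Dev

open QC70 Props58.LocFree
open Amp73 (pullS)

variable {X Y : Scheme.{u}} (f : X ⟶ Y) {E : Y.Modules}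

/-- A section of the structure module, pulled back. -/
def pullO {U : Y.Opens} (a : Γ(unitMod Y, U)) : Γ(unitMod X, f ⁻¹ᵁ U) :=
  (f.app U (toO a) : Γ(X, f ⁻¹ᵁ U))

lemma pullO_res {U V : Y.Opens} (h : V ≤ U) (a : Γ(unitMod Y, U)) :
    res (unitMod X) (f.preimage_mono h) (pullO f a) = pullO f (res (unitMod Y) h a) :=
  (ConcreteCategory.congr_hom (f.naturality (homOfLE h).op) (toO a)).symm

/-- `ψ` is the inverse image of the linear form `φ`. -/
def IsPullForm {U : Y.Opens} (φ : HomOn E (unitMod Y) U)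
    (ψ : HomOn ((Scheme.Modules.pullback f).obj E) (unitMod X) (f ⁻¹ᵁ U)) : Prop :=
  ∀ (W : Y.Opens) (hW : W ≤ U) (e : Γ(E, W)),
    ψ.app (f ⁻¹ᵁ W) (f.preimage_mono hW) (pullS f E W e) = pullO f (φ.app W hW e)

variable {f}

lemma IsPullForm.mono {U V : Y.Opens} (h : V ≤ U) {φ : HomOn E (unitMod Y) U}
    {ψ : HomOn ((Scheme.Modules.pullback f).obj E) (unitMod X) (f ⁻¹ᵁ U)} (hψ : IsPullForm f φ ψ) :
    IsPullForm f (φ.mono h) (ψ.mono (f.preimage_mono h)) := fun W hW e => hψ W (hW.trans h) e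

lemma IsPullForm.unique (hE : FlatMod.IsFinLocFree E) {U : Y.Opens} {φ : HomOn E (unitMod Y) U}
    {ψ ψ' : HomOn ((Scheme.Modules.pullback f).obj E) (unitMod X) (f ⁻¹ᵁ U)}
    (h : IsPullForm f φ ψ) (h' : IsPullForm f φ ψ') : ψ = ψ' := by
  refine HomOn.ext' fun Z hZ z => section_ext _ _ _ fun p hp => ?_
  obtain ⟨U₁, n, s, hp₁, hs⟩ := isFinLocFree_iff.mp hE (f p)
  let W : Y.Opens := U ⊓ U₁
  have hb := Pinch99.stalkBasis_pullS f (hs.restrict (inf_le_right : W ≤ U₁))
  have he : ψ.mono (f.preimage_mono (inf_le_left : W ≤ U)) = ψ'.mono (f.preimage_mono inf_le_left) :=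
    Formal27.homOn_ext_basis hb le_rfl fun i => by
      rw [res_self]
      exact (h W inf_le_left _).trans (h' W inf_le_left _).symm
  refine ⟨Z ⊓ f ⁻¹ᵁ W, inf_le_left, ⟨hp, hZ hp, hp₁⟩, ?_⟩
  rw [← ψ.app_res hZ inf_le_left, ← ψ'.app_res hZ inf_le_left]
  exact congrArg (fun χ : HomOn _ _ (f ⁻¹ᵁ W) => χ.app (Z ⊓ f ⁻¹ᵁ W) inf_le_right
    (res _ inf_le_left z)) he

variable (f)

lemma exists_isPullForm_of_basis {U : Y.Opens} {n : ℕ} {s : Fin n → Γ(E, U)} (hs : StalkBasis s)
    (φ : HomOn E (unitMod Y) U) : ∃ ψ, IsPullForm f φ ψ := by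
  refine ⟨HomOn.ofBasis (Pinch99.stalkBasis_pullS f hs) fun i => pullO f (φ.app U le_rfl (s i)),
    fun W hW e => ?_⟩
  obtain ⟨a, rfl⟩ := hs.exists_comb hW e
  rw [Pinch99.pullS_comb, HomOn.ofBasis_app_comb, map_sum]
  refine Eq.trans ?_ (map_sum (f.app W).hom _ _).symm
  refine Finset.sum_congr rfl fun i _ => ?_
  rw [map_smul, φ.app_res le_rfl hW, pullO_res f hW]
  exact ((f.app W).hom.map_mul _ _).symm

theorem existsUnique_isPullForm (hE : FlatMod.IsFinLocFree E) {U : Y.Opens} (φ : HomOn E (unitMod Y) U) :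
    ∃! ψ, IsPullForm f φ ψ := by
  choose U₁ n s hy hs using fun y : Y => isFinLocFree_iff.mp hE y
  choose ψ hψ using fun y : Y =>
    exists_isPullForm_of_basis f ((hs y).restrict (inf_le_right : U ⊓ U₁ y ≤ U₁ y))
      (φ.mono (inf_le_left : U ⊓ U₁ y ≤ U))
  have hc : HomOn.Compatible ψ := fun i j V hi hj z => by
    let W : Y.Opens := (U ⊓ U₁ i) ⊓ (U ⊓ U₁ j)
    have e := IsPullForm.unique hE ((hψ i).mono (inf_le_left : W ≤ _))
      (show IsPullForm f ((φ.mono inf_le_left).mono inf_le_left) ((ψ j).mono (f.preimage_mono (inf_le_right : W ≤ _))) from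
        fun W' hW' e => hψ j W' (hW'.trans inf_le_right) e)
    exact congrArg (fun χ : HomOn _ _ (f ⁻¹ᵁ W) => χ.app V (le_inf hi hj) z) e
  have hcov : f ⁻¹ᵁ U ≤ ⨆ y, f ⁻¹ᵁ (U ⊓ U₁ y) := fun p hp => Opens.mem_iSup.2 ⟨f p, hp, hy (f p)⟩
  have hg : IsPullForm f φ (HomOn.glue hc hcov) := fun W hW e => by
    refine section_ext' _ (fun y => f ⁻¹ᵁ (W ⊓ U₁ y)) (fun y => f.preimage_mono inf_le_left)
      (fun p hp => Opens.mem_iSup.2 ⟨f p, hp, hy (f p)⟩) _ _ fun y => ?_
    have h1 : W ⊓ U₁ y ≤ W := inf_le_left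
    rw [← (HomOn.glue hc hcov).app_res (f.preimage_mono hW) (f.preimage_mono h1),
      Pinch99.pullS_res f E h1, pullO_res f h1, ← φ.app_res hW h1,
      HomOn.glue_app hc hcov _ y (f.preimage_mono (inf_le_inf_right _ hW))]
    exact hψ y _ (inf_le_inf_right _ hW) _
  exact ⟨_, hg, fun χ hχ => IsPullForm.unique hE hχ hg⟩

/-- The inverse image of a linear form. -/
def pullForm (hE : FlatMod.IsFinLocFree E) {U : Y.Opens} (φ : HomOn E (unitMod Y) U) :
    HomOn ((Scheme.Modules.pullback f).obj E) (unitMod X) (f ⁻¹ᵁ U) :=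
  (existsUnique_isPullForm f hE φ).exists.choose

lemma isPullForm_pullForm (hE : FlatMod.IsFinLocFree E) {U : Y.Opens} (φ : HomOn E (unitMod Y) U) :
    IsPullForm f φ (pullForm f hE φ) :=
  (existsUnique_isPullForm f hE φ).exists.choose_spec

lemma pullForm_eq (hE : FlatMod.IsFinLocFree E) {U : Y.Opens} {φ : HomOn E (unitMod Y) U}
    {ψ : HomOn ((Scheme.Modules.pullback f).obj E) (unitMod X) (f ⁻¹ᵁ U)} (h : IsPullForm f φ ψ) :
    pullForm f hE φ = ψ :=
  IsPullForm.unique hE (isPullForm_pullForm f hE φ) h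

/-- Linear forms pull back linearly. -/
def pullFormHom (hE : FlatMod.IsFinLocFree E) :
    dualMod E ⟶ (Scheme.Modules.pushforward f).obj (dualMod ((Scheme.Modules.pullback f).obj E)) :=
  HomOn.toHom
    { app := fun W _ =>
        { toFun := fun φ => (pullForm f hE (ofSec φ)).toSec
          map_add' := fun φ φ' => pullForm_eq f hE fun V hV e => by
            show (pullForm f hE (ofSec φ) + pullForm f hE (ofSec φ')).app _ _ _ = _
            rw [HomOn.add_app, LinearMap.add_apply, isPullForm_pullForm f hE (ofSec φ) V hV e,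
              isPullForm_pullForm f hE (ofSec φ') V hV e]
            exact (map_add (f.app V).hom _ _).symm
          map_smul' := fun a φ => pullForm_eq f hE fun V hV e => by
            show (f.app W a • pullForm f hE (ofSec φ)).app _ _ _ = pullO f ((a • ofSec φ).app V hV e)
            rw [HomOn.smul_app, HomOn.smul_app, isPullForm_pullForm f hE (ofSec φ) V hV e]
            refine (congrArg (· * (f.app V (toO ((ofSec φ).app V hV e)))) ?_).trans
              ((f.app V).hom.map_mul _ _).symm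
            exact (ConcreteCategory.congr_hom (f.naturality (homOfLE hV).op) a).symm }
      app_res := fun {W W'} _ h φ =>
        pullForm_eq f hE ((isPullForm_pullForm f hE (ofSec φ)).mono h) }

/-- The comparison `f^*(E^∨) ⟶ (f^*E)^∨`. -/
def dualPullHom (hE : FlatMod.IsFinLocFree E) :
    (Scheme.Modules.pullback f).obj (dualMod E) ⟶ dualMod ((Scheme.Modules.pullback f).obj E) :=
  ((Scheme.Modules.pullbackPushforwardAdjunction f).homEquiv _ _).symm (pullFormHom f hE)

lemma dualPullHom_pullS (hE : FlatMod.IsFinLocFree E) (U : Y.Opens) (φ : Γ(dualMod E, U)) :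
    (dualPullHom f hE).app (f ⁻¹ᵁ U) (pullS f (dualMod E) U φ) = (pullForm f hE (ofSec φ)).toSec := by
  have h : (Scheme.Modules.pullbackPushforwardAdjunction f).homEquiv _ _ (dualPullHom f hE) =
      pullFormHom f hE := Equiv.apply_symm_apply _ _
  rw [Adjunction.homEquiv_unit] at h
  exact ConcreteCategory.congr_hom (congrArg (fun a => Scheme.Modules.Hom.app a U) h) φ

lemma pullForm_dualBasis (hE : FlatMod.IsFinLocFree E) {U : Y.Opens} {n : ℕ} {s : Fin n → Γ(E, U)}
    (hs : StalkBasis s) (i : Fin n) :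
    pullForm f hE (ofSec (Formal27.dualBasis hs i)) =
      ofSec (Formal27.dualBasis (Pinch99.stalkBasis_pullS f hs) i) := by
  refine Formal27.homOn_ext_basis (Pinch99.stalkBasis_pullS f hs) le_rfl fun j => ?_
  rw [Formal27.dualBasis_app, res_self, isPullForm_pullForm f hE _ U le_rfl]
  have e := Formal27.dualBasis_app hs (le_refl U) i j
  rw [res_self] at e
  rw [e]
  split_ifs
  · exact map_one (f.app U).hom
  · exact map_zero (f.app U).hom

/-- A morphism carrying bases to bases is an isomorphism. -/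
theorem isIso_of_stalkBases {M N : X.Modules} (φ : M ⟶ N)
    (h : ∀ x : X, ∃ (U : X.Opens) (n : ℕ) (s : Fin n → Γ(M, U)), x ∈ U ∧ StalkBasis s ∧
      StalkBasis fun i => φ.app U (s i)) : IsIso φ := by
  refine QC70.isIso_of_bijective_stalkMapM φ fun x => ?_
  obtain ⟨U, n, s, hx, hs, hs'⟩ := h x
  have e : germComb (fun i => φ.app U (s i)) x hx = stalkLinear φ x ∘ germComb s x hx := by
    funext c
    simp only [germComb, Function.comp_apply, map_sum, map_smul]
    exact Finset.sum_congr rfl fun i _ => congrArg (c i • ·) (stalkMapM_germ φ _ _).symm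
  exact (Function.Bijective.of_comp_iff _ (hs x hx)).1 (e ▸ hs' x hx)

/-- The dual commutes with inverse images. -/
theorem isIso_dualPullHom (hE : FlatMod.IsFinLocFree E) : IsIso (dualPullHom f hE) := by
  refine isIso_of_stalkBases _ fun x => ?_
  obtain ⟨U, n, s, hx, hs⟩ := isFinLocFree_iff.mp hE (f x)
  refine ⟨f ⁻¹ᵁ U, n, _, hx, Pinch99.stalkBasis_pullS f (Formal27.stalkBasis_dualBasis hs), ?_⟩
  have e : (fun i => (dualPullHom f hE).app (f ⁻¹ᵁ U) (pullS f (dualMod E) U (Formal27.dualBasis hs i))) =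
      Formal27.dualBasis (Pinch99.stalkBasis_pullS f hs) := funext fun i => by
    rw [dualPullHom_pullS, pullForm_dualBasis]
  rw [e]
  exact Formal27.stalkBasis_dualBasis _

end Groth.Agent.Cyc90.Dev
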