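import Mathlib.CategoryTheory.Abelian.CommSq
import Mathlib.Algebra.Homology.ShortComplex.ShortExact
import Mathlib.CategoryTheory.Limits.Shapes.Biproducts

/-! Filtrations in an abelian category: intersections, induced filtrations, graded pieces. -/

set_option autoImplicit false
set_option backward.isDefEq.respectTransparency.types false
universe v u

open CategoryTheory CategoryTheory.Limits

namespace Groth.Agent.Cyc90.Dev.Ab

variable {C : Type u} [Category.{v} C] [Abelian C]

/-- A decreasing sequence of subobjects. -/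
structure Filt (M : C) where
  obj : ℕ → C
  t : ∀ n, obj (n + 1) ⟶ obj n
  ι : ∀ n, obj n ⟶ M
  mono : ∀ n, Mono (ι n)
  fac : ∀ n, t n ≫ ι n = ι (n + 1)
  isIso₀ : IsIso (ι 0)

attribute [instance] Filt.mono Filt.isIso₀

namespace Filt

variable {M : C} (F G : Filt M)

instance mono_t (n : ℕ) : Mono (F.t n) := mono_of_mono_fac (F.fac n)

/-- The graded pieces. -/
noncomputable abbrev gr (n : ℕ) : C := cokernel (F.t n)

/-- The sequence of a step. -/
noncomputable def stepSC (n : ℕ) : ShortComplex C :=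
  ShortComplex.mk (F.t n) (cokernel.π (F.t n)) (cokernel.condition _)

lemma stepSC_shortExact (n : ℕ) : (F.stepSC n).ShortExact :=
  { exact := ShortComplex.exact_of_g_is_cokernel _ (cokernelIsCokernel _)
    mono_f := inferInstanceAs (Mono (F.t n))
    epi_g := inferInstanceAs (Epi (cokernel.π (F.t n))) }

/-- The intersection of two steps. -/
noncomputable abbrev inter (j i : ℕ) : C := kernel (F.ι j ≫ cokernel.π (G.ι i))

/-- The inclusion in the second step. -/
noncomputable def interSnd (j i : ℕ) : F.inter G j i ⟶ G.obj i :=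
  Abelian.monoLift (G.ι i) (kernel.ι _ ≫ F.ι j) (by rw [Category.assoc, kernel.condition])

@[reassoc (attr := simp)]
lemma interSnd_ι (j i : ℕ) :
    F.interSnd G j i ≫ G.ι i = kernel.ι (F.ι j ≫ cokernel.π (G.ι i)) ≫ F.ι j :=
  Abelian.monoLift_comp _ _ _

instance mono_interSnd (j i : ℕ) : Mono (F.interSnd G j i) := mono_of_mono_fac (F.interSnd_ι G j i)

/-- The inclusion of a smaller first step. -/
noncomputable def interT (j i : ℕ) : F.inter G (j + 1) i ⟶ F.inter G j i :=
  kernel.lift _ (kernel.ι _ ≫ F.t j) (by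
    rw [Category.assoc, ← Category.assoc (F.t j), F.fac, kernel.condition])

/-- The inclusion of a smaller second step. -/
noncomputable def interV (j i : ℕ) : F.inter G j (i + 1) ⟶ F.inter G j i :=
  kernel.lift _ (kernel.ι _) (by
    rw [← Category.assoc, ← F.interSnd_ι G j (i + 1), ← G.fac i, Category.assoc, Category.assoc,
      cokernel.condition, comp_zero, comp_zero])

@[reassoc (attr := simp)]
lemma interT_ι (j i : ℕ) : F.interT G j i ≫ kernel.ι _ = kernel.ι _ ≫ F.t j := kernel.lift_ι _ _ _

@[reassoc (attr := simp)]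
lemma interV_ι (j i : ℕ) : F.interV G j i ≫ kernel.ι _ = kernel.ι _ := kernel.lift_ι _ _ _

instance mono_interT (j i : ℕ) : Mono (F.interT G j i) := mono_of_mono_fac (F.interT_ι G j i)

instance mono_interV (j i : ℕ) : Mono (F.interV G j i) := mono_of_mono_fac (F.interV_ι G j i)

lemma inter_sq (j i : ℕ) :
    IsPullback (F.interT G j (i + 1)) (F.interV G (j + 1) i) (F.interV G j i) (F.interT G j i) := by
  have w : F.interT G j (i + 1) ≫ F.interV G j i = F.interV G (j + 1) i ≫ F.interT G j i := by
    simp [← cancel_mono (kernel.ι (F.ι j ≫ cokernel.π (G.ι i)))]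
  refine ⟨⟨w⟩, ⟨PullbackCone.IsLimit.mk w
    (fun s => kernel.lift _ (s.snd ≫ kernel.ι _) ?_) (fun s => ?_) (fun s => ?_) fun s m h1 h2 => ?_⟩⟩
  · have hc := s.condition =≫ kernel.ι (F.ι j ≫ cokernel.π (G.ι i))
    simp only [Category.assoc, interV_ι, interT_ι] at hc
    rw [Category.assoc, show F.ι (j + 1) ≫ cokernel.π (G.ι (i + 1)) = F.t j ≫ F.ι j ≫ cokernel.π (G.ι (i + 1)) from by
      rw [← F.fac j, Category.assoc], ← reassoc_of% hc, kernel.condition, comp_zero]
  · rw [← cancel_mono (F.interV G j i), Category.assoc, w]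
    refine Eq.trans ?_ s.condition.symm
    simp [← cancel_mono (kernel.ι (F.ι j ≫ cokernel.π (G.ι i)))]
  · simp [← cancel_mono (kernel.ι (F.ι (j + 1) ≫ cokernel.π (G.ι i)))]
  · rw [← cancel_mono (kernel.ι (F.ι (j + 1) ≫ cokernel.π (G.ι (i + 1)))), kernel.lift_ι, ← h2]
    simp

lemma isIso_inter_ι_zero (j : ℕ) : IsIso (kernel.ι (F.ι j ≫ cokernel.π (G.ι 0))) := by
  have : F.ι j ≫ cokernel.π (G.ι 0) = 0 := by rw [cokernel.π_of_epi, comp_zero]
  refine ⟨⟨kernel.lift _ (𝟙 _) (by rw [Category.id_comp, this]), ?_, kernel.lift_ι _ _ _⟩⟩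
  rw [← cancel_mono (kernel.ι (F.ι j ≫ cokernel.π (G.ι 0))), Category.assoc, kernel.lift_ι,
    Category.comp_id, Category.id_comp]

/-- The filtration of a graded piece induced by another filtration. -/
noncomputable def induced (j : ℕ) : Filt (F.gr j) where
  obj i := cokernel (F.interT G j i)
  t i := cokernel.map _ _ (F.interV G (j + 1) i) (F.interV G j i) (F.inter_sq G j i).w
  ι i := cokernel.map _ _ (kernel.ι _) (kernel.ι _) (F.interT_ι G j i)
  mono i := by
    have w := F.interT_ι G j i
    refine Abelian.mono_cokernel_map_of_isPullback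
      (⟨⟨w⟩, ⟨PullbackCone.IsLimit.mk w (fun s => kernel.lift _ s.snd ?_) (fun s => ?_) (fun s => ?_)
        fun s m h1 h2 => ?_⟩⟩ : IsPullback _ _ _ _)
    · have hc := s.condition
      rw [← F.fac j, Category.assoc, ← reassoc_of% hc, kernel.condition, comp_zero]
    · rw [← cancel_mono (kernel.ι (F.ι j ≫ cokernel.π (G.ι i))), Category.assoc, interT_ι,
        kernel.lift_ι_assoc]
      exact s.condition.symm
    · rw [kernel.lift_ι]
    · rw [← cancel_mono (kernel.ι (F.ι (j + 1) ≫ cokernel.π (G.ι i))), h2, kernel.lift_ι]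
  fac i := by
    rw [← cancel_epi (cokernel.π _)]
    simp
  isIso₀ := by
    have h1 := F.isIso_inter_ι_zero G j
    have h2 := F.isIso_inter_ι_zero G (j + 1)
    exact (cokernel.mapIso (F.interT G j 0) (F.t j) (asIso (kernel.ι _)) (asIso (kernel.ι _))
      (F.interT_ι G j 0)).isIso_hom

/-- The two bigraded pieces agree. -/
noncomputable def bigrIso (j i : ℕ) : (F.induced G j).gr i ≅
    cokernel (biprod.desc (F.interV G j i) (F.interT G j i)) where
  hom := cokernel.desc _ (cokernel.desc _ (cokernel.π (biprod.desc (F.interV G j i) (F.interT G j i))) (by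
      exact (biprod.inr_desc_assoc _ _ _).symm.trans (by rw [cokernel.condition, comp_zero]))) (by
    refine (cancel_epi (cokernel.π (F.interT G j (i + 1)))).1 (Eq.trans ?_ comp_zero.symm)
    simp only [induced, cokernel.π_desc_assoc, Category.assoc, cokernel.π_desc]
    exact (biprod.inl_desc_assoc _ _ _).symm.trans (by rw [cokernel.condition, comp_zero]))
  inv := cokernel.desc _ (cokernel.π (F.interT G j i) ≫ cokernel.π ((F.induced G j).t i)) (by
    refine biprod.hom_ext' _ _ ?_ ?_
    · rw [biprod.inl_desc_assoc, comp_zero]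
      refine Eq.trans ?_ ((cokernel.π (F.interT G j (i + 1)) ≫= cokernel.condition ((F.induced G j).t i)).trans comp_zero)
      simp only [induced, cokernel.π_desc_assoc, Category.assoc]
    · simp)
  hom_inv_id := by
    rw [← cancel_epi (cokernel.π _)]
    simp only [cokernel.π_desc_assoc, Category.comp_id]
    refine (cancel_epi (cokernel.π (F.interT G j i))).1 ?_
    erw [cokernel.π_desc_assoc, cokernel.π_desc]
  inv_hom_id := by
    rw [← cancel_epi (cokernel.π _)]
    simp only [cokernel.π_desc_assoc, Category.comp_id, Category.assoc]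
    erw [cokernel.π_desc, cokernel.π_desc]

/-- Swapping the two filtrations. -/
noncomputable def interSwap (j i : ℕ) : F.inter G j i ≅ G.inter F i j where
  hom := kernel.lift _ (F.interSnd G j i) (by
    rw [F.interSnd_ι_assoc G j i, cokernel.condition, comp_zero])
  inv := kernel.lift _ (G.interSnd F i j) (by
    rw [G.interSnd_ι_assoc F i j, cokernel.condition, comp_zero])
  hom_inv_id := by
    rw [← cancel_mono (kernel.ι (F.ι j ≫ cokernel.π (G.ι i))), ← cancel_mono (F.ι j)]
    simp
  inv_hom_id := by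
    rw [← cancel_mono (kernel.ι (G.ι i ≫ cokernel.π (F.ι j))), ← cancel_mono (G.ι i)]
    simp

lemma interSwap_t (j i : ℕ) :
    F.interT G j i ≫ (F.interSwap G j i).hom = (F.interSwap G (j + 1) i).hom ≫ G.interV F i j := by
  rw [← cancel_mono (kernel.ι (G.ι i ≫ cokernel.π (F.ι j))), ← cancel_mono (G.ι i)]
  simp [interSwap, F.fac]

lemma interSwap_v (j i : ℕ) :
    F.interV G j i ≫ (F.interSwap G j i).hom = (F.interSwap G j (i + 1)).hom ≫ G.interT F i j := by
  rw [← cancel_mono (kernel.ι (G.ι i ≫ cokernel.π (F.ι j))), ← cancel_mono (G.ι i)]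
  simp [interSwap, G.fac]

/-- The bigraded pieces of two filtrations agree. -/
noncomputable def bigrSwap (j i : ℕ) : (F.induced G j).gr i ≅ (G.induced F i).gr j :=
  F.bigrIso G j i ≪≫
    cokernel.mapIso _ (biprod.desc (G.interV F i j) (G.interT F i j))
      (biprod.mapIso (F.interSwap G j (i + 1)) (F.interSwap G (j + 1) i) ≪≫ biprod.braiding _ _)
      (F.interSwap G j i) (by
        refine biprod.hom_ext' _ _ ?_ ?_
        · simp [interSwap_v]
        · simp [interSwap_t]) ≪≫
    (G.bigrIso F i j).symm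

end Filt

section Cokernels

variable {S T : ShortComplex C} (φ : S ⟶ T)

/-- The sequence of cokernels. -/
noncomputable def cokerSC : ShortComplex C :=
  ShortComplex.mk (cokernel.map φ.τ₁ φ.τ₂ S.f T.f φ.comm₁₂)
    (cokernel.map φ.τ₂ φ.τ₃ S.g T.g φ.comm₂₃) (by
      rw [← cancel_epi (cokernel.π φ.τ₁)]
      simp)

lemma cokerSC_shortExact (hS : S.ShortExact) (hT : T.ShortExact) [Mono φ.τ₃] :
    (cokerSC φ).ShortExact := by
  have := hS.mono_f
  have := hS.epi_g
  have := hT.mono_f
  have := hT.epi_g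
  refine
    { exact := ShortComplex.exact_of_g_is_cokernel _ (CokernelCofork.IsColimit.ofπ _ _
        (fun h w => cokernel.desc _ (hT.gIsCokernel.desc
          (CokernelCofork.ofπ (cokernel.π φ.τ₂ ≫ h) ?_)) ?_)
        (fun h w => ?_) (fun h w m hm => ?_))
      mono_f := ?_
      epi_g := ?_ }
  · refine Eq.trans ?_ ((cokernel.π φ.τ₁ ≫= w).trans comp_zero)
    simp [cokerSC]
  · rw [← cancel_epi S.g, ← φ.comm₂₃_assoc, comp_zero]
    erw [Cofork.IsColimit.π_desc hT.gIsCokernel]
    simp
  · refine (cancel_epi (cokernel.π φ.τ₂)).1 ?_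
    simp only [cokerSC, cokernel.π_desc_assoc, Category.assoc, cokernel.π_desc]
    exact Cofork.IsColimit.π_desc hT.gIsCokernel
  · simp only [cokerSC] at hm
    refine (cancel_epi (cokernel.π φ.τ₃)).1 ((cancel_epi T.g).1 ?_)
    rw [cokernel.π_desc]
    symm
    refine (Cofork.IsColimit.π_desc hT.gIsCokernel).trans ?_
    refine (cokernel.π φ.τ₂ ≫= hm.symm).trans ?_
    simp
  · refine Abelian.mono_cokernel_map_of_isPullback (⟨⟨φ.comm₁₂⟩, ⟨PullbackCone.IsLimit.mk
      φ.comm₁₂ (fun s => hS.exact.lift s.snd ?_) (fun s => ?_) (fun s => ?_) fun s m h1 h2 => ?_⟩⟩ :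
        IsPullback φ.τ₁ S.f T.f φ.τ₂)
    · rw [← cancel_mono φ.τ₃, Category.assoc, ← φ.comm₂₃, ← reassoc_of% s.condition, T.zero,
        comp_zero, zero_comp]
    · rw [← cancel_mono T.f, Category.assoc, φ.comm₁₂, hS.exact.lift_f_assoc]
      exact s.condition.symm
    · exact hS.exact.lift_f _ _
    · rw [← cancel_mono S.f, hS.exact.lift_f, h2]
  · have : Epi (T.g ≫ cokernel.π φ.τ₃) := epi_comp _ _
    refine @epi_of_epi_fac _ _ _ _ _ (cokernel.π φ.τ₂) _ (T.g ≫ cokernel.π φ.τ₃) this ?_
    simp [cokerSC]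

end Cokernels

end Groth.Agent.Cyc90.Dev.Ab
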