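import Groth.Agent.Cyc90.Dev.ZeroMain

/-! Classes killed on the complement of a sub-bundle of codimension one. -/

set_option autoImplicit false
set_option backward.isDefEq.respectTransparency.types false
set_option synthInstance.maxHeartbeats 200000
set_option linter.style.haveILetI false
universe u

open CategoryTheory CategoryTheory.Limits AlgebraicGeometry TopologicalSpace Opposite IsLocalRing

noncomputable section

namespace Groth.Agent.Cyc90.Dev

open QC70 Props58.LocFree

variable {X P : Scheme.{u}} {δ : X → ℤ}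

lemma vanSet_comp {A B O : X.Modules} (l : A ⟶ B) (φ : B ⟶ O) : vanSet φ ⊆ vanSet (l ≫ φ) := fun x hx e => by
  rw [stalkMapM_comp]
  exact hx _

/-- The product of `O - Lᵢ` over a quotient of `M` sends classes supported where `φ` vanishes on the
kernel to classes supported where `φ` vanishes. -/
theorem exists_supported_prod_quotient (hX : Cyc.IsSetup X δ) {O F : X.Modules} (hO : PicF.IsInvertible O)
    {ls : List X.Modules} (h : HasFilt F ls) :
    ∀ {M : X.Modules} (b : M ⟶ F) [Epi b] (φ : M ⟶ O) {k : ℤ} {β : AlgebraicCycle X ℤ}, β ∈ zkSub δ k →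
      (∀ x, β x ≠ 0 → x ∈ vanSet (kernel.ι b ≫ φ)) →
    ∃ γ : AlgebraicCycle X ℤ, γ ∈ zkSub δ (k - ls.length) ∧ (∀ x, γ x ≠ 0 → x ∈ vanSet φ) ∧
      clk hX (k - ls.length) γ =
        opAct hX ((ls.map fun L => lc1 hX O - lc1 hX L).prod) (clk hX k β) := by
  induction h with
  | zero h0 =>
    intro M b _ φ k β hβ hsupp
    simp only [List.length_nil, Nat.cast_zero, sub_zero, List.map_nil, List.prod_nil, map_one]
    refine ⟨β, hβ, fun x hx => ?_, rfl⟩
    have hl : kernel.lift b (𝟙 M) (h0.eq_of_tgt _ _) ≫ kernel.ι b ≫ φ = φ := by simp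
    rw [← hl]
    exact vanSet_comp _ _ (hsupp x hx)
  | @step F' F L ls a' b' w hs hL h' ih =>
    intro M b _ φ k β hβ hsupp
    haveI := hs.mono_f
    haveI := hs.epi_g
    let M' := pullback b a'
    let b'' : M' ⟶ F' := pullback.snd b a'
    haveI : Epi b'' := by dsimp only [b'']; infer_instance
    have hw : pullback.fst b a' ≫ b ≫ b' = 0 := by rw [← Category.assoc, pullback.condition, Category.assoc, w, comp_zero]
    have hs' : (ShortComplex.mk (pullback.fst b a') (b ≫ b') hw).ShortExact :=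
      { exact := ShortComplex.exact_of_f_is_kernel _ (KernelFork.IsLimit.ofι' (pullback.fst b a') hw
          fun {W} t ht => ⟨pullback.lift t (KernelFork.IsLimit.lift' hs.fIsKernel (t ≫ b) ((Category.assoc _ _ _).trans ht)).1
            (KernelFork.IsLimit.lift' hs.fIsKernel (t ≫ b) ((Category.assoc _ _ _).trans ht)).2.symm, pullback.lift_fst _ _ _⟩)
        mono_f := by dsimp only; infer_instance
        epi_g := by dsimp only; exact epi_comp _ _ }
    have hk : (kernel.ι b'' ≫ pullback.fst b a') ≫ b = 0 := by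
      rw [Category.assoc, pullback.condition, ← Category.assoc, show kernel.ι b'' ≫ pullback.snd b a' = 0 from
        kernel.condition b'', zero_comp]
    obtain ⟨γ, hγ, hγs, hcl⟩ := ih b'' (pullback.fst b a' ≫ φ) hβ fun x hx => by
      have := vanSet_comp (kernel.lift b _ hk) (kernel.ι b ≫ φ) (hsupp x hx)
      simpa using this
    obtain ⟨γ', hγ', hγs', hcl'⟩ := exists_supported_step hX hs' hL hO φ hγ hγs
    have e : k - ((L :: ls).length : ℤ) = k - ls.length - 1 := by simp; ring
    rw [e]
    refine ⟨γ', hγ', hγs', ?_⟩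
    rw [hcl', hcl, List.map_cons, List.prod_cons, map_mul]
    rfl

/-- Pushing down powers of `c₁(O(1))` on a pulled back class. -/
lemma mapAll_pow_pullAll (hX : Cyc.IsSetup X δ) {δP : P → ℤ} {p : P ⟶ X} [IsProper p] [Flat p] {n : ℕ}
    {O : P.Modules} (hB : ProjFibres n p O) (hinv : PicF.IsInvertible O) (hPs : Cyc.IsSetup P δP)
    (hδ : Cyc.DeltaCompat p δP δ) {i : ℕ} (hi : i ≤ n) (x : ChowAll hX) :
    mapAll p hPs hX hδ (opAct hPs (lc1 hPs O ^ i) (pullAll p hPs hX (shiftAt_of_fibres hB hδ) x)) =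
      if i = n then x else 0 := by
  obtain ⟨s, hs⟩ := exists_secFibre_family hinv
  let t : ℕ → (ξ : P) → Cyc.secFibre O ξ := fun _ => s
  have ht : ∀ i ξ, t i ξ ≠ 0 := fun _ => hs
  suffices h : (mapAll p hPs hX hδ).comp (AddMonoidHom.comp (opAct hPs (lc1 hPs O ^ i))
      (pullAll p hPs hX (shiftAt_of_fibres hB hδ))) = if i = n then AddMonoidHom.id _ else 0 by
    have := DFunLike.congr_fun h x
    split_ifs with hn
    · rw [if_pos hn] at this; exact this
    · rw [if_neg hn] at this; exact this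
  refine chowAll_ext hX fun k a ha => ?_
  rw [AddMonoidHom.comp_apply, AddMonoidHom.comp_apply]
  rw [pullAll_clk p hPs hX _ ha]
  erw [lc1_pow_clk hPs hinv t ht (pullHom_mem p hPs _ ha) i,
    mapAll_clk p hPs hX hδ (capPow_mem hPs hinv t ht (pullHom_mem p hPs _ ha) i)]
  have hcap := map_cap_of_fibres hX hB hinv hPs hδ ha t ht
    (fun m => Cyc.c1PowFun δP O t m (Cyc.pullFun p δP δ n ⇑a)) rfl (fun _ => rfl) i _
    (coe_capPow hPs hinv t ht (pullHom p hPs (shiftAt_of_fibres hB hδ) a) i)
  split_ifs with hn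
  · subst hn
    rw [mapHom_apply, hcap.2 rfl, add_sub_cancel_right]
    rfl
  · rw [mapHom_apply, hcap.1 (by omega), clk_zero]
    rfl

variable {δP : P → ℤ} {n : ℕ} {A E F : X.Modules} {p : P ⟶ X} {O : P.Modules}
  {q : (Scheme.Modules.pullback p).obj E ⟶ O}

/-- A class whose pullback to the bundle lives where the sub line vanishes is zero. -/
theorem ratEquivZero_of_pullHom_supported (hX : Cyc.IsSetup X δ) (hE : FlatMod.IsFinLocFreeOfRank (n + 1) E)
    (hP : KRR.IsProjBundle p E O q) [IsProper p] [Flat p] (hPs : Cyc.IsSetup P δP) (hδ : Cyc.DeltaCompat p δP δ)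
    {a : A ⟶ E} {b : E ⟶ F} {w : a ≫ b = 0} (hex : (ShortComplex.mk a b w).ShortExact)
    (hF : FlatMod.IsFinLocFreeOfRank n F) (e : Γ(A, ⊤)) (he : StalkBasis (fun _ : Fin 1 => e))
    (hc : ShiftAt p δP δ n) {k : ℤ} {α : AlgebraicCycle X ℤ} (hα : α ∈ zkSub δ k)
    {γ : AlgebraicCycle P ℤ} (hγ : γ ∈ zkSub δP (k + n))
    (hsupp : ∀ y, γ y ≠ 0 → secIdeal O (secOne q (a.app ⊤ e)) y ≠ ⊤)
    (h : Cyc.RatEquiv δP (k + n) (pullHom p hPs hc α) γ) : Cyc.RatEquivZero δ k α := by
  classical
  obtain ⟨T, τ, d, δT, hτ, hfl, hlft, hT, hdτ, hcτ, hall⟩ :=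
    exists_split hX 1 ![F] ![n] (fun i => by fin_cases i; exact hF)
  haveI := hfl
  haveI := hlft
  obtain ⟨ls, hls, hlen⟩ := hall 0
  simp only [Matrix.cons_val_zero] at hls hlen
  refine (clk_eq_zero_iff hX hα).1 (clk_eq_zero_of_pullAll hX hT hcτ hdτ hτ hα ?_)
  rw [pullAll_clk τ hT hX hcτ hα]
  have hα' : pullHom τ hT hcτ α ∈ zkSub δT (k + d) := pullHom_mem τ hT hcτ hα
  obtain ⟨-, -, hinv⟩ := projFibres_of_isProjBundle hE hP
  let g := pullback.fst p τ
  let b' := pullback.snd p τ
  have hsq : IsPullback g b' p τ := IsPullback.of_hasPullback p τ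
  obtain ⟨hB', hflat, hinv'⟩ := projFibres_bc hE hP hsq
  haveI := hflat
  haveI : IsProper b' := MorphismProperty.of_isPullback hsq inferInstance
  haveI : Flat g := MorphismProperty.of_isPullback hsq.flip inferInstance
  haveI : LocallyOfFiniteType g := MorphismProperty.of_isPullback hsq.flip inferInstance
  have hb : Cyc.DeltaCompat b' (upDelta b' δT) δT := deltaCompat_upDelta b' δT
  have hQ : Cyc.IsSetup _ (upDelta b' δT) := isSetup_upDelta b' hT
  have hcg : ShiftAt g (upDelta b' δT) δP d :=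
    shiftAt_of_hasRelDim g (FibDim94.hasRelDim_of_isPullback hsq.flip hτ.relDim)
      (deltaCompat_square_top hsq.w hdτ hδ hb)
  have hcb := shiftAt_of_fibres hB' hb
  have hswap : pullHom b' hQ hcb (pullHom τ hT hcτ α) = pullHom g hQ hcg (pullHom p hPs hc α) := by
    refine DFunLike.coe_injective ?_
    have h1 := (pullFun_comp b' τ hQ.2.2 hT.2.2 hcb hcτ (α : X → ℤ)).2
    have h2 := (pullFun_comp g p hQ.2.2 hPs.2.2 hcg hc (α : X → ℤ)).2
    rw [add_comm (n : ℤ) d, hsq.w] at h2
    exact h1.symm.trans h2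
  have hγ' : pullHom g hQ hcg γ ∈ zkSub (upDelta b' δT) (k + n + d) := pullHom_mem g hQ hcg hγ
  have hpull : pullAll b' hQ hT hcb (clk hT (k + d) (pullHom τ hT hcτ α)) =
      clk hQ (k + n + d) (pullHom g hQ hcg γ) := by
    rw [pullAll_clk b' hQ hT hcb hα', hswap, show k + (d : ℤ) + n = k + n + d by ring]
    refine (clk_eq_iff hQ (pullHom_mem g hQ hcg (pullHom_mem p hPs hc hα)) hγ').2 ?_
    have := pullHom_rat g hQ hcg hPs h
    rwa [map_sub] at this
  -- the vanishing
  have hFp : FlatMod.IsFinLocFreeOfRank n ((Scheme.Modules.pullback p).obj F) :=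
    Grass5.QuotBC.isFinLocFreeOfRank_pullback p hF
  have hex₂ := shortExact_pullback_bundle g (shortExact_pullback_bundle p hex hF) hFp
  haveI : Epi ((Scheme.Modules.pullback g).map ((Scheme.Modules.pullback p).map b)) := hex₂.epi_g
  haveI := hP.epi
  haveI : Epi ((Scheme.Modules.pullback g).map q) :=
    inferInstance
  have hF₂ : HasFilt ((Scheme.Modules.pullback g).obj ((Scheme.Modules.pullback p).obj F))
      (ls.map (Scheme.Modules.pullback b').obj) :=
    (hls.pullback b').of_iso ((Scheme.Modules.pullbackComp b' τ).app F ≪≫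
      (Scheme.Modules.pullbackCongr hsq.w.symm).app F ≪≫
      ((Scheme.Modules.pullbackComp g p).app F).symm)
  obtain ⟨β, hβ, hβs, hβc⟩ := exists_supported_prod_quotient hQ hinv' hF₂
    ((Scheme.Modules.pullback g).map ((Scheme.Modules.pullback p).map b))
    ((Scheme.Modules.pullback g).map q) hγ' fun x hx => by
      have hgx : γ (g x) ≠ 0 := fun h0 => hx (by
        show Cyc.pullFun g (upDelta b' δT) δP d ⇑γ x = 0
        unfold Cyc.pullFun
        rw [h0, zero_mul, ite_self])
      obtain ⟨l, hl⟩ : ∃ l, l ≫ (Scheme.Modules.pullback g).map ((Scheme.Modules.pullback p).map a) =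
          kernel.ι ((Scheme.Modules.pullback g).map ((Scheme.Modules.pullback p).map b)) :=
        ⟨_, (KernelFork.IsLimit.lift' hex₂.fIsKernel _ (kernel.condition _)).2⟩
      rw [← hl, Category.assoc]
      refine vanSet_comp _ _ fun z => ?_
      have hbas := Pinch99.stalkBasis_pullS g (Pinch99.stalkBasis_pullS p he)
      let bz := germBasis hbas (y := x) trivial
      rw [show z = ∑ i, bz.repr z i • bz i from (bz.sum_repr z).symm]
      show (Submodule.Quotient.mk (stalkLinear _ x (∑ i, bz.repr z i • bz i)) : Cyc.secFibre _ x) = 0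
      rw [map_sum, Fin.sum_univ_one, map_smul, Submodule.Quotient.mk_smul]
      refine smul_eq_zero_of_right _ ((Submodule.Quotient.mk_eq_zero _).2 ?_)
      have hb0 : bz 0 = ((Scheme.Modules.pullback g).obj ((Scheme.Modules.pullback p).obj A)).presheaf.germ ⊤ x
          trivial (Amp73.pullS g _ ⊤ (Amp73.pullS p A ⊤ e)) := by
        refine bz.repr.injective (Finsupp.ext fun i => ?_)
        rw [Module.Basis.repr_self, germBasis_repr hbas (c := fun _ => 1) trivial ?_ i]
        · rw [Fin.fin_one_eq_zero i, Finsupp.single_eq_same]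
        · simp only [germComb, Fin.sum_univ_one, one_smul]
          rfl
      rw [hb0]
      have hv : secIdeal ((Scheme.Modules.pullback g).obj O) (Amp73.pullS g O ⊤ (secOne q (a.app ⊤ e))) x ≠ ⊤ := by
        rw [secIdeal_pullS g hP.invertible]
        exact ne_top_of_le_ne_top (maximalIdeal.isMaximal _).ne_top
          (Ideal.map_le_iff_le_comap.2 (fun r hr hu => le_maximalIdeal (hsupp _ hgx) hr
            ((g.toLRSHom.prop x).map_nonunit _ hu)))
      have := (mem_smul_top_iff_germ (Grass5.QuotBC.isFinLocFreeOfRank_pullback g hP.invertible)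
        (Amp73.pullS g O ⊤ (secOne q (a.app ⊤ e))) x _).2 (le_maximalIdeal hv)
      refine Eq.subst (motive := fun v => v ∈ _) ?_ this
      show _ = stalkMapM _ x _
      rw [stalkMapM_germ]
      congr 1
      rw [← Functor.map_comp]
      refine Eq.trans ?_ (Amp73.map_app_pullS g ((Scheme.Modules.pullback p).map a ≫ q) ⊤ _).symm
      congr 1
      show q.app ⊤ _ = q.app ⊤ (((Scheme.Modules.pullback p).map a).app ⊤ _)
      exact congrArg _ (Amp73.map_app_pullS p a ⊤ e).symm
  have hβ0 : β = 0 := DFunLike.ext _ _ fun x => by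
    by_contra hne
    exact vanSet_of_epi hinv' _ x (hβs x hne)
  rw [hβ0, clk_zero, ← hpull, List.map_map] at hβc
  have hprod : (ls.map ((fun L => lc1 hQ ((Scheme.Modules.pullback g).obj O) - lc1 hQ L) ∘
      (Scheme.Modules.pullback b').obj)).prod =
      ((rootsOp hQ (ls.map (Scheme.Modules.pullback b').obj)).map
        fun t => lc1 hQ ((Scheme.Modules.pullback g).obj O) - t).prod := by
    simp [rootsOp, List.map_map, Function.comp_def]
  rw [hprod, prod_sub_eq_sum, card_rootsOp, List.length_map, hlen, map_sum] at hβc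
  have hm := congrArg (mapAll b' hQ hT hb) hβc.symm
  rw [map_zero] at hm
  erw [AddMonoidHom.finsetSum_apply] at hm
  rw [map_sum] at hm
  refine Eq.trans ?_ hm
  rw [Finset.sum_eq_single 0]
  · rw [pow_zero, one_mul, Nat.sub_zero, map_mul]
    show _ = mapAll b' hQ hT hb (opAct hQ _ (opAct hQ _ (pullAll b' hQ hT hcb _)))
    rw [mul_one_esymm, map_one]
    show _ = mapAll b' hQ hT hb (opAct hQ (_ ^ n) (pullAll b' hQ hT hcb _))
    rw [mapAll_pow_pullAll hT hB' hinv' hQ hb le_rfl, if_pos rfl]
  · intro j hj hj0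
    rw [Finset.mem_range] at hj
    rw [show ((-1 : opRing hQ) ^ j) * ((rootsOp hQ (ls.map (Scheme.Modules.pullback b').obj)).esymm j *
        lc1 hQ ((Scheme.Modules.pullback g).obj O) ^ (n - j)) = ((-1 : ℤ) ^ j) •
        (lc1 hQ ((Scheme.Modules.pullback g).obj O) ^ (n - j) *
          (rootsOp hQ (ls.map (Scheme.Modules.pullback b').obj)).esymm j) by simp [zsmul_eq_mul, mul_comm],
      map_zsmul, map_mul]
    erw [AddMonoidHom.smul_apply]
    rw [map_zsmul]
    erw [AddMonoid.End.coe_mul]
    rw [Function.comp_apply, rootsOp, List.map_map]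
    erw [← pullAll_esymm b' hQ hT hcb hls.isInvertible]
    rw [mapAll_pow_pullAll hT hB' hinv' hQ hb (by omega), if_neg (by omega), smul_zero]
  · intro h0
    exact absurd (Finset.mem_range.2 (by omega)) h0
where
  mul_one_esymm {R : Type u} [CommRing R] {s : Multiset R} : s.esymm 0 = 1 := by
    simp [Multiset.esymm]

end Groth.Agent.Cyc90.Dev
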