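import Groth.Agent.S0843
import Groth.Agent.S0844
import Groth.Agent.S0845
import Groth.Agent.Forms14.Basic
import Groth.Agent.Var76.RegTools
import Groth.Agent.Crv77.Euler
import Groth.Agent.EGA73.Tensor
import Groth.Prelude.Def_FGA
import Mathlib.RingTheory.Binomial
import Mathlib.Algebra.Group.ForwardDiff

/-! Euler characteristics of twists on projective space, and finite differences. -/

set_option autoImplicit false
set_option backward.isDefEq.respectTransparency.types false
universe u

open CategoryTheory CategoryTheory.Limits AlgebraicGeometry Polynomial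

namespace Groth.Agent.Cyc90.Dev

/-- Euler characteristic of `O(m)` on `P^r`. -/
theorem eulerCharLE_twist_projSpace (k : Type u) [Field k] (r : ℕ) (m : ℤ) (hr : 0 < r ∨ 0 ≤ m) :
    FGA.eulerCharLE k (CohB1.ProjSpace r k) (Twist.twistProjSpace r k m) r =
      Ring.choose (m + r) r := by
  have hvan : ∀ q : ℕ, ¬ (q = 0 ∧ 0 ≤ m) → ¬ (q = r ∧ m ≤ -((r : ℤ) + 1)) →
      (Module.finrank k (Coh.HH (CohB1.ProjSpace r k) (Twist.twistProjSpace r k m) q) : ℤ) = 0 := by
    intro q h1 h2
    have := S0844.result k r m q h1 h2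
    rw [Module.finrank_zero_of_subsingleton, Nat.cast_zero]
  rw [FGA.eulerCharLE]
  rcases le_or_gt 0 m with hm | hm
  · obtain ⟨d, rfl⟩ := Int.eq_ofNat_of_zero_le hm
    obtain ⟨e⟩ := S0843.result k r d
    rw [Finset.sum_eq_single 0 (fun q _ hq => by
      rw [hvan q (fun h => hq h.1) (fun h => by omega), mul_zero]) (by simp), pow_zero, one_mul,
      e.finrank_eq, Forms14.finrank_homogeneousSubmodule, ← Nat.cast_add, Ring.choose_natCast]
    norm_cast
    rw [show r + 1 + d - 1 = d + r by omega, Nat.choose_symm_add]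
  · rcases le_or_gt m (-((r : ℤ) + 1)) with hm2 | hm2
    · obtain ⟨j, hj⟩ := Int.eq_ofNat_of_zero_le (show 0 ≤ -((r : ℤ) + 1) - m by omega)
      obtain rfl : m = -((r : ℤ) + 1 + j) := by omega
      obtain ⟨e⟩ := S0845.result k r j
      rw [Finset.sum_eq_single r (fun q _ hq => by
        rw [hvan q (fun h => by omega) (fun h => hq h.1), mul_zero]) (by simp),
        e.finrank_eq, Forms14.finrank_homogeneousSubmodule,
        show -((r : ℤ) + 1 + j) + r = -((j : ℤ) + 1) by ring, Ring.choose_neg,
        show (j : ℤ) + 1 + r - 1 = ((j + r : ℕ) : ℤ) by push_cast; ring, Ring.choose_natCast,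
        show r + 1 + j - 1 = j + r by omega, Nat.choose_symm_add, Units.smul_def, smul_eq_mul,
        Int.coe_negOnePow_natCast]
    · rw [Finset.sum_eq_zero fun q _ => by
        rw [hvan q (fun h => by omega) (fun h => by omega), mul_zero]]
      obtain ⟨j, hj⟩ := Int.eq_ofNat_of_zero_le (show 0 ≤ m + r by omega)
      rw [hj, Ring.choose_natCast, Nat.choose_eq_zero_of_lt (by omega), Nat.cast_zero]

/-- The top finite difference of a binomial polynomial in an arithmetic progression. -/
theorem sum_choose_progression (n : ℕ) (d : ℤ) :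
    ∑ j ∈ Finset.range (n + 1), (-1 : ℤ) ^ j * (n.choose j : ℤ) * Ring.choose ((n : ℤ) - d * j) n =
      d ^ n := by
  by_cases hd : d = 0
  · subst hd
    simp only [zero_mul, sub_zero, Ring.choose_natCast, Nat.choose_self, Nat.cast_one, mul_one]
    rw [Int.alternating_sum_range_choose, zero_pow_eq]
  let Q : ℤ[X] := (descPochhammer ℤ n).comp (C (-d) * X + C (n : ℤ))
  have hlin : (C (-d) * X + C (n : ℤ)).natDegree = 1 := natDegree_linear (neg_ne_zero.2 hd)
  have hdeg : Q.natDegree = n := by
    rw [natDegree_comp, hlin, mul_one, descPochhammer_natDegree]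
  have hlead : Q.leadingCoeff = (-d) ^ n := by
    rw [leadingCoeff_comp (by omega), (monic_descPochhammer ℤ n).leadingCoeff,
      leadingCoeff_linear (neg_ne_zero.2 hd), one_mul, descPochhammer_natDegree]
  have hQ : ∀ j : ℤ, Q.eval j = (n.factorial : ℤ) * Ring.choose ((n : ℤ) - d * j) n := by
    intro j
    have h := Ring.descPochhammer_eq_factorial_smul_choose ((n : ℤ) - d * j) n
    rw [nsmul_eq_mul] at h
    rw [← h, ← eval_eq_smeval, eval_comp]
    simp only [eval_add, eval_mul, eval_C, eval_X]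
    ring_nf
  have key := congrFun (Polynomial.fwdDiff_iter_degree_eq_factorial Q) (0 : ℤ)
  rw [hdeg, hlead, fwdDiff_iter_eq_sum_shift] at key
  simp only [Pi.smul_apply, smul_eq_mul, zero_add, nsmul_eq_mul, mul_one, Pi.natCast_apply] at key
  have key2 : (n.factorial : ℤ) *
      (∑ j ∈ Finset.range (n + 1), (-1 : ℤ) ^ j * (n.choose j : ℤ) * Ring.choose ((n : ℤ) - d * j) n) =
        (n.factorial : ℤ) * d ^ n := by
    rw [Finset.mul_sum]
    have h1 : ∀ j ∈ Finset.range (n + 1),
        (n.factorial : ℤ) * ((-1 : ℤ) ^ j * (n.choose j : ℤ) * Ring.choose ((n : ℤ) - d * j) n) =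
          (-1 : ℤ) ^ n * ((-1 : ℤ) ^ (n - j) * (n.choose j : ℤ) * Q.eval (j : ℤ)) := by
      intro j hj
      have hjn : j ≤ n := Nat.lt_succ_iff.1 (Finset.mem_range.1 hj)
      have : (-1 : ℤ) ^ n * (-1 : ℤ) ^ (n - j) = (-1 : ℤ) ^ j := by
        rw [← pow_add, show n + (n - j) = j + 2 * (n - j) by omega, pow_add, pow_mul]
        simp
      rw [hQ, ← this]
      ring
    rw [Finset.sum_congr rfl h1, ← Finset.mul_sum, key, ← mul_assoc, ← mul_pow]
    ring_nf
  exact mul_left_cancel₀ (Nat.cast_ne_zero.2 (Nat.factorial_ne_zero n)) key2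

lemma nonempty_tensorList_twist (k : Type u) [Field k] (n : ℕ) (a : ℤ) :
    ∀ l : List (Fin n), Nonempty (FGA.tensorList (l.map fun _ => Twist.twistProjSpace n k a) ≅
      Twist.twistProjSpace n k (a * l.length))
  | [] => by
    obtain ⟨e⟩ := Var76.Reg.nonempty_twist_zero (n := n) (A := k)
    exact ⟨e.symm ≪≫ eqToIso (by simp)⟩
  | i :: l => by
    obtain ⟨e⟩ := nonempty_tensorList_twist k n a l
    obtain ⟨t⟩ := Var76.Reg.nonempty_twist_add (n := n) (A := k) (show a + a * (l.length : ℤ) = a * ((i :: l).length : ℤ) by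
      rw [List.length_cons]; push_cast; ring)
    exact ⟨EGA73.tensIso (Iso.refl _) e ≪≫ t⟩

/-- The self-intersection number of `O(d)` on `P^n`. -/
theorem intNum_projSpace (k : Type u) [Field k] (n : ℕ) (d : ℤ) :
    FGA.intNum k (CohB1.ProjSpace n k) n (fun _ : Fin n => Twist.twistProjSpace n k (-d))
      (Coh.structureModule (CohB1.ProjSpace n k)) = d ^ n := by
  classical
  have hterm : ∀ I : Finset (Fin n),
      (-1 : ℤ) ^ I.card * FGA.eulerCharLE k (CohB1.ProjSpace n k)
        (CohB1.tensorMod (FGA.tensorList ((I.sort (· ≤ ·)).map fun _ : Fin n => Twist.twistProjSpace n k (-d)))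
          (Coh.structureModule (CohB1.ProjSpace n k))) n =
      (-1 : ℤ) ^ I.card * Ring.choose ((n : ℤ) - d * I.card) n := by
    intro I
    obtain ⟨e⟩ := nonempty_tensorList_twist k n (-d) (I.sort (· ≤ ·))
    rw [Finset.length_sort] at e
    have hiso := EGA73.tensUnitRight _ ≪≫ e
    have he : ∀ {A B : (CohB1.ProjSpace n k).Modules}, (A ≅ B) →
        FGA.eulerCharLE k (CohB1.ProjSpace n k) A n = FGA.eulerCharLE k (CohB1.ProjSpace n k) B n :=
      fun i => Finset.sum_congr rfl fun q _ => by rw [(Crv77.hEquiv k i q).finrank_eq]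
    rw [he hiso, eulerCharLE_twist_projSpace k n _ ?_,
      show -d * (I.card : ℤ) + n = (n : ℤ) - d * I.card by ring]
    rcases Nat.eq_zero_or_pos n with rfl | h
    · exact Or.inr (by simp [Finset.eq_empty_of_isEmpty I])
    · exact Or.inl h
  rw [FGA.intNum, Finset.sum_congr rfl fun I _ => hterm I, ← Finset.powerset_univ,
    Finset.sum_powerset_apply_card (f := fun j => (-1 : ℤ) ^ j * Ring.choose ((n : ℤ) - d * j) n)]
  rw [Finset.card_univ, Fintype.card_fin, ← sum_choose_progression n d]
  refine Finset.sum_congr rfl fun j _ => ?_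
  rw [nsmul_eq_mul]
  ring

end Groth.Agent.Cyc90.Dev
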