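import Groth.Agent.EGAProj74.BundleSquare
import Groth.Agent.EGAProj74.TwistComap
import Groth.Agent.EGAProj74.GrSymExists
import Groth.Agent.EGAProj74.SymAlgUnique
import Groth.Agent.Var76.OmegaRegular
import Groth.Prelude.Def_Twist2
import Mathlib.LinearAlgebra.SymmetricAlgebra.Basis

/-! A projective bundle over a field is projective space. -/

set_option autoImplicit false
set_option backward.isDefEq.respectTransparency.types false
universe u

open CategoryTheory CategoryTheory.Limits AlgebraicGeometry TopologicalSpace Opposite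
open scoped HomogeneousIdeal

noncomputable section

namespace Groth.Agent.Cyc90.Dev

open EGAProj74

/-- The projective bundle of a free module of rank `n + 1` on an affine scheme. -/
theorem exists_iso_projSpace_of_free {K : Type u} [CommRing K] {E : (Spec (CommRingCat.of K)).Modules}
    (hE : Coh.IsQCoh E) (n : ℕ) {W : (Spec (CommRingCat.of K)).Opens} (hWtop : ⊤ ≤ W)
    (iW : E.restrict W.ι ≅ FlatMod.freeMod (W : Scheme.{u}) (n + 1))
    {𝒮 : RelProj.QCGrAlg (Spec (CommRingCat.of K))} {j : E ⟶ 𝒮.toModule}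
    (hj : RelProj.IsGrSymAlg E 𝒮 j) {P : Scheme.{u}} {p : P ⟶ Spec (CommRingCat.of K)}
    {chart : ∀ (U : (Spec (CommRingCat.of K)).Opens) (hU : IsAffineOpen U),
      (((p ⁻¹ᵁ U : P.Opens) : Scheme.{u}) ≅ Proj (𝒮.deg U hU))}
    (hP : RelProj.IsRelProj 𝒮 p chart) {O1 : P.Modules}
    {lam : ∀ (U : (Spec (CommRingCat.of K)).Opens) (hU : IsAffineOpen U),
      O1 ⟶ (Scheme.Modules.pushforward (RelProj.emb p chart U hU)).obj (GrTwist.twist (𝒮.deg U hU) 1)}
    (hO1 : RelProj.IsRelTwist 𝒮 p chart 1 O1 lam) :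
    ∃ e : CohB1.ProjSpace n K ⟶ P, IsIso e ∧ e ≫ p = CohB1.ProjSpace.toSpec n K ∧
      Nonempty ((Scheme.Modules.pullback e).obj O1 ≅ Twist.twistProjSpace n K 1) := by
  classical
  let S := Spec (CommRingCat.of K)
  have hU : IsAffineOpen (⊤ : S.Opens) := isAffineOpen_top _
  obtain ⟨lin⟩ := Var76.OmegaRegular.sections_free iW hWtop
  let b : Module.Basis (Fin (n + 1)) Γ(S, ⊤) Γ(E, ⊤) :=
    (Pi.basisFun Γ(S, ⊤) (Fin (n + 1))).map lin
  obtain ⟨eS, heS, heSj⟩ := exists_symAlg_equiv hE hj.1 ⊤ hU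
  let εc := (Scheme.ΓSpecIso (CommRingCat.of K)).inv
  let xi : Fin (n + 1) → 𝒮.presheaf.obj (op ⊤) := fun i => j.app ⊤ (b i)
  let φ : MvPolynomial (Fin (n + 1)) K →+* 𝒮.presheaf.obj (op ⊤) :=
    MvPolynomial.eval₂Hom ((𝒮.str.app (op ⊤)).hom.comp εc.hom) xi
  have hφbij : Function.Bijective φ := by
    let ψ : MvPolynomial (Fin (n + 1)) K →+* MvPolynomial (Fin (n + 1)) Γ(S, ⊤) :=
      MvPolynomial.map εc.hom
    have hψ : Function.Bijective ψ := by
      have hε : Function.Bijective εc.hom := ConcreteCategory.bijective_of_isIso εc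
      exact ⟨MvPolynomial.map_injective _ hε.1, MvPolynomial.map_surjective _ hε.2⟩
    let q := (SymmetricAlgebra.equivMvPolynomial b).symm
    have key : eS.toRingHom.comp φ = q.toAlgHom.toRingHom.comp ψ := by
      refine MvPolynomial.ringHom_ext (fun c => ?_) fun i => ?_
      · show eS (φ (MvPolynomial.C c)) = q (ψ (MvPolynomial.C c))
        simp only [φ, ψ, MvPolynomial.eval₂Hom_C, RingHom.comp_apply, MvPolynomial.map_C]
        refine (heS _).trans ?_
        rw [← MvPolynomial.algebraMap_eq, AlgEquiv.commutes]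
      · show eS (φ (MvPolynomial.X i)) = q (ψ (MvPolynomial.X i))
        simp only [φ, ψ, MvPolynomial.eval₂Hom_X', MvPolynomial.map_X]
        refine (heSj _).trans ?_
        exact (SymmetricAlgebra.equivMvPolynomial_symm_X b i).symm
    have h1 : Function.Bijective (fun x => eS (φ x)) := by
      rw [show (fun x => eS (φ x)) = fun x => q (ψ x) from funext (RingHom.congr_fun key)]
      exact q.bijective.comp hψ
    exact (Function.Bijective.of_comp_iff' eS.bijective φ).1 h1
  have hmem : ∀ (d : ℕ) (x : MvPolynomial (Fin (n + 1)) K),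
      x ∈ CohB1.polyGrading n K d → φ x ∈ 𝒮.deg ⊤ hU d := by
    intro d x hx
    have hx' : x.IsHomogeneous d := hx
    rw [x.as_sum, map_sum]
    refine sum_mem fun m hm => ?_
    have hdeg : ∑ i, m i = d := by
      have := hx' (MvPolynomial.mem_support_iff.1 hm)
      rw [Finsupp.weight_apply, Finsupp.sum_fintype _ _ (fun i => by simp)] at this
      simpa using this
    rw [MvPolynomial.eval₂Hom_monomial, Finsupp.prod_fintype _ _ (fun i => pow_zero _)]
    refine (zero_add d) ▸ SetLike.mul_mem_graded (𝒮.str_mem ⊤ hU _) ?_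
    rw [← hdeg]
    refine SetLike.prod_mem_graded (𝒮.deg ⊤ hU) (fun i => m i) (fun i => xi i ^ m i) (fun i _ => ?_)
    simpa using SetLike.pow_mem_graded (A := 𝒮.deg ⊤ hU) (m i)
      (show xi i ∈ 𝒮.deg ⊤ hU 1 from hj.2 ⊤ hU (b i))
  let ψ : CohB1.polyGrading n K →+*ᵍ 𝒮.deg ⊤ hU :=
    { φ with map_mem := fun hx => hmem _ _ hx }
  have hbij : ∀ d : ℕ, Set.BijOn ψ (CohB1.polyGrading n K d) (𝒮.deg ⊤ hU d) := fun d =>
    ⟨fun x hx => hmem d x hx, hφbij.1.injOn, fun y hy => by
      obtain ⟨x, rfl⟩ := hφbij.2 y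
      refine ⟨(DirectSum.decompose (CohB1.polyGrading n K) x d : MvPolynomial (Fin (n + 1)) K),
        SetLike.coe_mem _, ?_⟩
      rw [GradedRingHom.map_directSumDecompose]
      exact DirectSum.decompose_of_mem_same _ hy⟩
  have hψ : (𝒮.deg ⊤ hU)₊ ≤ ((CohB1.polyGrading n K)₊).map ψ := by
    rw [HomogeneousIdeal.irrelevant_le]
    intro i hi y hy
    obtain ⟨x, hx, rfl⟩ := (hbij i).surjOn hy
    exact Ideal.mem_map_of_mem _ (HomogeneousIdeal.mem_irrelevant_of_mem _ hi hx)
  let m : Proj (𝒮.deg ⊤ hU) ⟶ CohB1.ProjSpace n K := Proj.map ψ hψ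
  have hmι : IsIso (RelCone.domOpen ψ).ι := by
    rw [domOpen_eq_top_of_le ψ hψ]
    exact inferInstanceAs (IsIso (Proj (𝒮.deg ⊤ hU)).topIso.hom)
  have hm : IsIso m := by
    have : IsIso (domMap ψ) := isIso_domMap ψ 0 (fun d _ => (hbij d).surjOn) fun d _ a ha h0 =>
      (hbij d).injOn ha (zero_mem _) (by rw [h0, map_zero])
    have : IsIso ((RelCone.domOpen ψ).ι ≫ m) := by
      change IsIso ((RelCone.domOpen ψ).ι ≫ Proj.map ψ hψ)
      rwa [ι_map_eq_domMap]
    exact IsIso.of_isIso_comp_left (RelCone.domOpen ψ).ι _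
  let emb := RelProj.emb p chart ⊤ hU
  have hemb : IsIso emb := by
    have hr : emb.opensRange = ⊤ := (opensRange_emb ⊤ hU).trans (by rfl)
    have : Surjective emb := ⟨fun x => by
      have hx : x ∈ emb.opensRange := by rw [hr]; trivial
      exact hx⟩
    exact (isIso_iff_isOpenImmersion_and_surjective emb).2 ⟨inferInstance, this⟩
  refine ⟨inv m ≫ emb, inferInstance, ?_, ?_⟩
  · rw [Category.assoc, IsIso.inv_comp_eq]
    refine (emb_p hP ⊤ hU).trans ?_
    have hz : m ≫ Proj.toSpecZero (CohB1.polyGrading n K) =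
        Proj.toSpecZero (𝒮.deg ⊤ hU) ≫ Spec.map (CommRingCat.ofHom (zeroHom ψ)) := by
      show Proj.map ψ hψ ≫ _ = _
      rw [← cancel_epi (RelCone.domOpen ψ).ι, ← Category.assoc, ι_map_eq_domMap, domMap_toSpecZero]
    unfold CohB1.ProjSpace.toSpec
    rw [← Category.assoc m, hz, Category.assoc, ← Spec.map_comp]
    congr 1
    rw [IsAffineOpen.fromSpec_top, Scheme.isoSpec_Spec_inv, ← Spec.map_comp]
    congr 1
    ext c
    show (𝒮.str.app (op ⊤)).hom (εc.hom c) = φ (algebraMap K (MvPolynomial (Fin (n + 1)) K) c)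
    rw [MvPolynomial.algebraMap_eq, MvPolynomial.eval₂Hom_C]
    rfl
  · have h1 : IsIso (((Scheme.Modules.pullbackPushforwardAdjunction emb).homEquiv _ _).symm (lam ⊤ hU)) :=
      isIso_pullback_adjunct emb _ fun W _ => hO1.bijective ⊤ hU W le_top
    have h2 : IsIso (((Scheme.Modules.pullbackPushforwardAdjunction m).homEquiv _ _).symm
        (GrTwist.comap ψ hψ 1)) :=
      isIso_twist_adjunct_of_eventually_bijective ψ hψ 0 (fun d _ => hbij d) 1
    exact ⟨((Scheme.Modules.pullbackComp (inv m) emb).app O1).symm ≪≫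
      (Scheme.Modules.pullback (inv m)).mapIso (@asIso _ _ _ _ _ h1) ≪≫
      (Scheme.Modules.pullback (inv m)).mapIso (@asIso _ _ _ _ _ h2).symm ≪≫
      (Scheme.Modules.pullbackComp (inv m) m).app _ ≪≫
      (Scheme.Modules.pullbackCongr (IsIso.inv_hom_id m)).app _ ≪≫
      (Scheme.Modules.pullbackId _).app _⟩

/-- The projective bundle of a free module of rank `n + 1` on the spectrum of a field. -/
theorem exists_iso_projSpace {K : Type u} [Field K] {E : (Spec (CommRingCat.of K)).Modules}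
    (hE : Coh.IsQCoh E) (n : ℕ) (hr : FlatMod.IsFinLocFreeOfRank (n + 1) E)
    {𝒮 : RelProj.QCGrAlg (Spec (CommRingCat.of K))} {j : E ⟶ 𝒮.toModule}
    (hj : RelProj.IsGrSymAlg E 𝒮 j) {P : Scheme.{u}} {p : P ⟶ Spec (CommRingCat.of K)}
    {chart : ∀ (U : (Spec (CommRingCat.of K)).Opens) (hU : IsAffineOpen U),
      (((p ⁻¹ᵁ U : P.Opens) : Scheme.{u}) ≅ Proj (𝒮.deg U hU))}
    (hP : RelProj.IsRelProj 𝒮 p chart) {O1 : P.Modules}
    {lam : ∀ (U : (Spec (CommRingCat.of K)).Opens) (hU : IsAffineOpen U),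
      O1 ⟶ (Scheme.Modules.pushforward (RelProj.emb p chart U hU)).obj (GrTwist.twist (𝒮.deg U hU) 1)}
    (hO1 : RelProj.IsRelTwist 𝒮 p chart 1 O1 lam) :
    ∃ e : CohB1.ProjSpace n K ⟶ P, IsIso e ∧ e ≫ p = CohB1.ProjSpace.toSpec n K ∧
      Nonempty ((Scheme.Modules.pullback e).obj O1 ≅ Twist.twistProjSpace n K 1) := by
  obtain ⟨W, hW, ⟨iW⟩⟩ := hr (IsLocalRing.closedPoint K)
  have hWtop : (⊤ : (Spec (CommRingCat.of K)).Opens) ≤ W := fun x _ => by
    have : x = IsLocalRing.closedPoint K := Subsingleton.elim (α := PrimeSpectrum K) _ _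
    rwa [this]
  exact exists_iso_projSpace_of_free hE n hWtop iW hj hP hO1

end Groth.Agent.Cyc90.Dev
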