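import Groth.Agent.Cyc90.Dev.FibreCap
import Groth.Agent.Cyc90.Dev.ProjFree
import Groth.Agent.Cyc90.Dev.ProjEuler
import Groth.Agent.Cyc90.Dev.IntNum
import Groth.Agent.Cyc90.FieldSetup
import Groth.Agent.EGAProj74.BundleSquare
import Groth.Agent.EGAProj74.GrSymExists
import Groth.Agent.QCPull72.Sections
import Groth.Agent.Grass5.FlagStep
import Groth.Agent.Approx60.Segre
import Groth.Agent.S10829

/-! Degree of the relative caps on a projective bundle. -/

set_option autoImplicit false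
set_option backward.isDefEq.respectTransparency.types false
set_option linter.style.haveILetI false
universe u

open CategoryTheory CategoryTheory.Limits AlgebraicGeometry TopologicalSpace Opposite
open scoped HomogeneousIdeal

namespace Groth.Agent.Cyc90.Dev

/-- The degree of the top self-cap of `O(1)` on projective space over a field. -/
theorem sum_residueDegree_cap_projSpace (K : Type u) [Field K] (n : ℕ)
    {δ : CohB1.ProjSpace n K → ℤ}
    (hδ : Cyc.DeltaCompat (CohB1.ProjSpace.toSpec n K) δ (fun _ => 0))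
    {L : (CohB1.ProjSpace n K).Modules} (hL : PicF.IsInvertible L)
    (hL1 : Nonempty (L ≅ Twist.twistProjSpace n K 1))
    (t : ℕ → (η : CohB1.ProjSpace n K) → Cyc.secFibre L η) (ht : ∀ i η, t i η ≠ 0)
    (γ : ℕ → CohB1.ProjSpace n K → ℤ)
    (hγ0 : γ 0 = Cyc.subschemeFun δ n (𝟙 (CohB1.ProjSpace n K)))
    (hγs : ∀ i, γ (i + 1) = Cyc.c1CapFun δ L (γ i) (t i)) :
    ∑ᶠ z : CohB1.ProjSpace n K, ((CohB1.ProjSpace.toSpec n K).residueDegree z : ℤ) * γ n z = 1 := by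
  let F := CohB1.ProjSpace n K
  let q := CohB1.ProjSpace.toSpec n K
  letI : F.Over (Spec (CommRingCat.of K)) := ⟨q⟩
  have : IsProper (F ↘ Spec (CommRingCat.of K)) := Approx60.Segre.isProper_toSpec K n
  have hn : topologicalKrullDim F ≤ n := (S10829.result K n).le
  have hδ' : Cyc.DeltaCompat (F ↘ Spec (CommRingCat.of K)) δ (fun _ => 0) := hδ
  have hX : Cyc.IsSetup F δ := isSetup_of_field (F ↘ Spec (CommRingCat.of K)) δ hδ'
  have := hX.1
  have hd : ∀ x : F, δ x ≤ n := fun x => delta_le_of_dim_closure_le hδ'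
    ((Topology.IsInducing.subtypeVal (t := closure ({x} : Set F))).topologicalKrullDim_le.trans hn)
  have hO : Cyc.CohLe δ (n : ℤ) (Coh.structureModule F) :=
    ⟨QC70.isCoh_unit, fun x _ => hd x⟩
  let M : F.Modules := Twist.twistProjSpace n K (-1)
  obtain ⟨τ⟩ := hL1
  obtain ⟨a⟩ := Var76.Reg.nonempty_twist_add (n := n) (A := K) (show (-1 : ℤ) + 1 = 0 by norm_num)
  obtain ⟨z⟩ := Var76.Reg.nonempty_twist_zero (n := n) (A := K)
  have hML : Nonempty (CohB1.tensorMod M L ≅ Coh.structureModule F) :=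
    ⟨EGA73.tensIso (Iso.refl M) τ ≪≫ a ≪≫ z⟩
  have h0 : γ 0 = Cyc.sheafFun δ (n : ℤ) (Coh.structureModule F) := by
    rw [hγ0]
    funext x
    show (if δ x = n then _ else 0) = (if δ x = n then _ else 0)
    split_ifs
    · rw [show {w : F | (𝟙 F : F ⟶ F) w = x} = {x} from Set.ext fun w => Iff.rfl, finsum_mem_singleton]
      exact congrArg (fun m : ℕ∞ => (m.toNat : ℤ)) (QC70.unitStalkEquiv x).length_eq
    · rfl
  have key := intNum_eq_degFun K hδ' hX (r := n) (D := n) (fun _ => L) (fun _ => M) (fun _ => hL)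
    (fun _ => hML) (fun i => t i) (fun i => ht i) (Coh.structureModule F) hO le_rfl γ h0
    (fun i _ => hγs i)
  exact key.symm.trans ((intNum_projSpace K n 1).trans (one_pow n))

section Bundle

open EGAProj74

variable {X : Scheme.{u}} {δ : X → ℤ} {E : X.Modules}

/-- The fibres of `p` are projective spaces on which `O1` is `O(1)`. -/
def ProjFibres (n : ℕ) {P : Scheme.{u}} (p : P ⟶ X) (O1 : P.Modules) : Prop :=
  ∀ ξ : X, ∃ (g : CohB1.ProjSpace n (X.residueField ξ) ⟶ P)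
    (e : CohB1.ProjSpace n (X.residueField ξ) ≅ p.fiber ξ),
    g = e.hom ≫ p.fiberι ξ ∧
    CohB1.ProjSpace.toSpec n (X.residueField ξ) = e.hom ≫ p.fiberToSpecResidueField ξ ∧
    Nonempty ((Scheme.Modules.pullback g).obj O1 ≅ Twist.twistProjSpace n (X.residueField ξ) 1)

/-- The fibre of a projective bundle over a point is a projective space with its `O(1)`. -/
theorem exists_fibreData_projBundle (hq : Coh.IsQCoh E) {n : ℕ}
    (hE : FlatMod.IsFinLocFreeOfRank (n + 1) E) {𝒮 : RelProj.QCGrAlg X} {j : E ⟶ 𝒮.toModule}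
    (hS : RelProj.IsGrSymAlg E 𝒮 j) {P : Scheme.{u}} {p : P ⟶ X}
    {chart : ∀ (U : X.Opens) (hU : IsAffineOpen U),
      (((p ⁻¹ᵁ U : P.Opens) : Scheme.{u}) ≅ Proj (𝒮.deg U hU))}
    (hP : RelProj.IsRelProj 𝒮 p chart) {O1 : P.Modules}
    {lam : ∀ (U : X.Opens) (hU : IsAffineOpen U),
      O1 ⟶ (Scheme.Modules.pushforward (RelProj.emb p chart U hU)).obj (GrTwist.twist (𝒮.deg U hU) 1)}
    (hO1 : RelProj.IsRelTwist 𝒮 p chart 1 O1 lam) (ξ : X) :
    ∃ (g : CohB1.ProjSpace n (X.residueField ξ) ⟶ P)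
      (e : CohB1.ProjSpace n (X.residueField ξ) ≅ p.fiber ξ),
      g = e.hom ≫ p.fiberι ξ ∧
      CohB1.ProjSpace.toSpec n (X.residueField ξ) = e.hom ≫ p.fiberToSpecResidueField ξ ∧
      Nonempty ((Scheme.Modules.pullback g).obj O1 ≅ Twist.twistProjSpace n (X.residueField ξ) 1) := by
  let K : Type u := X.residueField ξ
  let ψ : Spec (CommRingCat.of K) ⟶ X := X.fromSpecResidueField ξ
  haveI : E.IsQuasicoherent := hq
  have hq' : Coh.IsQCoh ((Scheme.Modules.pullback ψ).obj E) := QCPull72.isQuasicoherent_pullback ψ E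
  obtain ⟨𝒮', j', hj', P', p', chart', hP', O1', lam', hO1'⟩ := exists_projBundle hq'
  obtain ⟨φ, hφ⟩ := exists_canonical hq hS hO1 hP
  obtain ⟨g, hsq, ⟨τ⟩⟩ :=
    exists_baseChange hq hS hP hO1 hφ ψ 𝒮' j' hj' p' chart' hP' O1' lam' hO1'
  obtain ⟨e, he, hep, ⟨σ⟩⟩ :=
    exists_iso_projSpace hq' n (Grass5.QuotBC.isFinLocFreeOfRank_pullback ψ hE) hj' hP' hO1'
  refine ⟨e ≫ g, @asIso _ _ _ _ e he ≪≫ hsq.isoPullback, ?_, ?_, ?_⟩
  · show e ≫ g = (e ≫ hsq.isoPullback.hom) ≫ pullback.fst p ψ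
    rw [Category.assoc, IsPullback.isoPullback_hom_fst]
  · show _ = (e ≫ hsq.isoPullback.hom) ≫ pullback.snd p ψ
    rw [Category.assoc, IsPullback.isoPullback_hom_snd, hep]
  · exact ⟨((Scheme.Modules.pullbackComp e g).app O1).symm ≪≫
      (Scheme.Modules.pullback e).mapIso τ ≪≫ σ⟩

/-- The coefficients of the pushed forward caps of a pulled back cycle, from the fibres. -/
theorem map_cap_of_fibres (hX : Cyc.IsSetup X δ) {n : ℕ} {P : Scheme.{u}} {p : P ⟶ X}
    {O1 : P.Modules} (hB : ProjFibres n p O1) (hinv : PicF.IsInvertible O1) [IsProper p]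
    {δP : P → ℤ} (hPs : Cyc.IsSetup P δP) (hδ : Cyc.DeltaCompat p δP δ) {k : ℤ}
    {α : AlgebraicCycle X ℤ} (hα : α ∈ Cyc.Zk X δ k) (t : ℕ → (ξ : P) → Cyc.secFibre O1 ξ)
    (ht : ∀ i ξ, t i ξ ≠ 0) (γ : ℕ → P → ℤ) (hγ0 : γ 0 = Cyc.pullFun p δP δ n ⇑α)
    (hγs : ∀ i : ℕ, γ (i + 1) = Cyc.c1CapFun δP O1 (γ i) (t i)) (s : ℕ) (β : AlgebraicCycle P ℤ)
    (hβ : ⇑β = γ s) :
    (s < n → AlgebraicCycle.map p δP δ β = 0) ∧ (s = n → AlgebraicCycle.map p δP δ β = α) := by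
  have hα' : ∀ x, δ x ≠ k → (⇑α : X → ℤ) x = 0 := fun x hx => hα x hx
  have hzero : s ≤ n → ∀ y : X, δ y ≠ k + n - s ∨ s < n →
      AlgebraicCycle.map p δP δ β y = 0 := by
    intro hsn y hy
    rw [map_apply_eq]
    refine finsum_mem_eq_zero_of_forall_eq_zero fun x hx => ?_
    have hxy : p x = y := hx
    by_contra h
    rw [hβ] at h
    obtain ⟨h1, ξ, hξ, hsp⟩ := cap_support hα' hγ0 hγs s x (left_ne_zero_of_mul h)
    have hc : δP x = δ (p x) := by_contra fun hc => h (by rw [if_neg hc, mul_zero])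
    rw [hxy] at hc
    have hξk : δ ξ = k := by_contra fun hh => hξ (hα' _ hh)
    have := delta_le hX.2.2 hsp
    rw [hxy] at this
    rcases hy with hy | hy
    · exact hy (by omega)
    · omega
  refine ⟨fun h => by ext y; exact hzero h.le y (Or.inr h), fun h => ?_⟩
  subst h
  ext y
  by_cases hy : δ y = k
  · obtain ⟨g, e, hg, hq', ⟨τ⟩⟩ := hB y
    let D : FibreData p y := ⟨_, g, _, e, hg, hq'⟩
    have hδF := D.deltaCompat hδ
    have hF : Cyc.IsSetup D.F (fun z => δP (D.g z) - δ y) := by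
      have := Approx60.Segre.isProper_toSpec (X.residueField y) s
      exact isSetup_of_field (k := X.residueField y) (CohB1.ProjSpace.toSpec s (X.residueField y)) _ hδF
    let γF : ℕ → D.F → ℤ := fun i => Nat.rec
      (Cyc.subschemeFun (fun z => δP (D.g z) - δ y) s (𝟙 D.F))
      (fun i r => Cyc.c1CapFun (fun z => δP (D.g z) - δ y) ((Scheme.Modules.pullback D.g).obj O1) r
        (pullSec D.g hinv (t i) (ht i))) i
    rw [D.map_cap_eq hX hPs hδ hy hα' hinv t ht γ hγ0 hγs hF γF rfl (fun _ => rfl) β hβ]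
    have h1 := sum_residueDegree_cap_projSpace (X.residueField y) s hδF
      (Amp73.isInvertible_pullback g hinv) ⟨τ⟩ (fun i => pullSec g hinv (t i) (ht i))
      (fun i z => pullSec_ne_zero g hinv (t i) (ht i) z) γF rfl (fun _ => rfl)
    rw [show (∑ᶠ z : D.F, (D.q.residueDegree z : ℤ) * γF s z) = 1 from h1, mul_one]
  · rw [hzero le_rfl y (Or.inl (by omega)), hα' y hy]

/-- The coefficients of the pushed forward caps of a pulled back cycle on a projective bundle. -/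
theorem map_cap_projBundle (hX : Cyc.IsSetup X δ) (hq : Coh.IsQCoh E) {n : ℕ}
    (hE : FlatMod.IsFinLocFreeOfRank (n + 1) E) {𝒮 : RelProj.QCGrAlg X} {j : E ⟶ 𝒮.toModule}
    (hS : RelProj.IsGrSymAlg E 𝒮 j) {P : Scheme.{u}} {p : P ⟶ X}
    {chart : ∀ (U : X.Opens) (hU : IsAffineOpen U),
      (((p ⁻¹ᵁ U : P.Opens) : Scheme.{u}) ≅ Proj (𝒮.deg U hU))}
    (hP : RelProj.IsRelProj 𝒮 p chart) {O1 : P.Modules}
    {lam : ∀ (U : X.Opens) (hU : IsAffineOpen U),
      O1 ⟶ (Scheme.Modules.pushforward (RelProj.emb p chart U hU)).obj (GrTwist.twist (𝒮.deg U hU) 1)}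
    (hO1 : RelProj.IsRelTwist 𝒮 p chart 1 O1 lam) (hinv : PicF.IsInvertible O1) [IsProper p]
    {δP : P → ℤ} (hPs : Cyc.IsSetup P δP) (hδ : Cyc.DeltaCompat p δP δ) {k : ℤ}
    {α : AlgebraicCycle X ℤ} (hα : α ∈ Cyc.Zk X δ k) (t : ℕ → (ξ : P) → Cyc.secFibre O1 ξ)
    (ht : ∀ i ξ, t i ξ ≠ 0) (γ : ℕ → P → ℤ) (hγ0 : γ 0 = Cyc.pullFun p δP δ n ⇑α)
    (hγs : ∀ i : ℕ, γ (i + 1) = Cyc.c1CapFun δP O1 (γ i) (t i)) (s : ℕ) (β : AlgebraicCycle P ℤ)
    (hβ : ⇑β = γ s) :
    (s < n → AlgebraicCycle.map p δP δ β = 0) ∧ (s = n → AlgebraicCycle.map p δP δ β = α) :=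
  map_cap_of_fibres hX (exists_fibreData_projBundle hq hE hS hP hO1) hinv hPs hδ hα t ht γ hγ0 hγs s β hβ

end Bundle

end Groth.Agent.Cyc90.Dev
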