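import Groth.Agent.Cyc90.Dev.BundleDeg
import Groth.Agent.H98Proj.SmoothPn
import Groth.Agent.Cyc90.RelDimShift

/-! A projective bundle is flat, and pullback along it shifts dimensions by the rank minus one. -/

set_option autoImplicit false
set_option backward.isDefEq.respectTransparency.types false
universe u

open CategoryTheory CategoryTheory.Limits AlgebraicGeometry TopologicalSpace Opposite
open scoped HomogeneousIdeal

namespace Groth.Agent.Cyc90.Dev

open EGAProj74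

variable {X : Scheme.{u}} {E : X.Modules} {n : ℕ} {𝒮 : RelProj.QCGrAlg X} {j : E ⟶ 𝒮.toModule}
  {P : Scheme.{u}} {p : P ⟶ X}
  {chart : ∀ (U : X.Opens) (hU : IsAffineOpen U),
    (((p ⁻¹ᵁ U : P.Opens) : Scheme.{u}) ≅ Proj (𝒮.deg U hU))}
  {O1 : P.Modules}
  {lam : ∀ (U : X.Opens) (hU : IsAffineOpen U),
    O1 ⟶ (Scheme.Modules.pushforward (RelProj.emb p chart U hU)).obj (GrTwist.twist (𝒮.deg U hU) 1)}

/-- A projective bundle is flat. -/
theorem flat_projBundle (hq : Coh.IsQCoh E) (hE : FlatMod.IsFinLocFreeOfRank (n + 1) E)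
    (hS : RelProj.IsGrSymAlg E 𝒮 j) (hP : RelProj.IsRelProj 𝒮 p chart)
    (hO1 : RelProj.IsRelTwist 𝒮 p chart 1 O1 lam) : Flat p := by
  refine IsZariskiLocalAtTarget.of_forall_exists_morphismRestrict fun x => ?_
  obtain ⟨W, hxW, ⟨i⟩⟩ := hE x
  obtain ⟨_, ⟨U₀, hU₀, rfl⟩, hxU, hUW⟩ := X.isBasis_affineOpens.exists_subset_of_mem_open hxW W.2
  let U : X.Opens := U₀
  have hU : IsAffineOpen U := hU₀
  refine ⟨U, hxU, ?_⟩
  let R := Γ(X, U)
  let ψ : Spec (CommRingCat.of R) ⟶ X := hU.fromSpec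
  haveI : E.IsQuasicoherent := hq
  have hq' : Coh.IsQCoh ((Scheme.Modules.pullback ψ).obj E) := QCPull72.isQuasicoherent_pullback ψ E
  have hWtop : (⊤ : (Spec (CommRingCat.of R)).Opens) ≤ ψ ⁻¹ᵁ W :=
    hU.fromSpec_preimage_self.ge.trans (ψ.preimage_mono hUW)
  let i' := ((Amp73.pullRestrictIso ψ W).app E).symm ≪≫
    (Scheme.Modules.pullback (ψ ∣_ W)).mapIso
      (((Scheme.Modules.restrictFunctorIsoPullback W.ι).app E).symm ≪≫ i) ≪≫
    FrB.pullbackFreeIso (ψ ∣_ W) (n + 1)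
  obtain ⟨𝒮', j', hj', P', p', chart', hP', O1', lam', hO1'⟩ := exists_projBundle hq'
  obtain ⟨φ, hφ⟩ := exists_canonical hq hS hO1 hP
  obtain ⟨g, hsq, -⟩ := exists_baseChange hq hS hP hO1 hφ ψ 𝒮' j' hj' p' chart' hP' O1' lam' hO1'
  obtain ⟨e, he, hep, -⟩ := exists_iso_projSpace_of_free hq' n hWtop i' hj' hP' hO1'
  have hp' : Flat p' := by
    have := H98Proj.smooth_toSpec n R
    rw [show p' = inv e ≫ CohB1.ProjSpace.toSpec n R from (IsIso.eq_inv_comp e).2 hep]
    infer_instance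
  have hψ : hU.isoSpec.inv ≫ U.ι = ψ := rfl
  have hR : IsPullback (p ⁻¹ᵁ U).ι (p ∣_ U) p U.ι := (isPullback_morphismRestrict p U).flip
  rw [← hψ] at hsq
  let l := hR.lift g (p' ≫ hU.isoSpec.inv) (by rw [Category.assoc]; exact hsq.w)
  have hl : IsPullback l p' (p ∣_ U) hU.isoSpec.inv :=
    IsPullback.of_right (by rw [hR.lift_fst]; exact hsq) (hR.lift_snd _ _ _) hR
  have : IsIso l := hl.isIso_fst_of_isIso
  rw [show p ∣_ U = inv l ≫ p' ≫ hU.isoSpec.inv from (IsIso.eq_inv_comp l).2 hl.w]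
  infer_instance

/-- Pullback along a morphism with projective fibres raises dimensions by `n`. -/
theorem shiftAt_of_fibres {X P : Scheme.{u}} {p : P ⟶ X} {n : ℕ} {O1 : P.Modules}
    (hB : ProjFibres n p O1) {δP : P → ℤ} {δ : X → ℤ}
    (hδ : Cyc.DeltaCompat p δP δ) : ShiftAt p δP δ n := fun x hmax => by
  obtain ⟨g, e, hg, hq', -⟩ := hB (p x)
  let D : FibreData p (p x) := ⟨_, g, _, e, hg, hq'⟩
  obtain ⟨z, hz⟩ := (Set.ext_iff.1 D.range_g x).2 rfl
  let K : Type u := X.residueField (p x)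
  letI : D.F.Over (Spec (CommRingCat.of K)) := ⟨CohB1.ProjSpace.toSpec n K⟩
  have : IsProper (D.F ↘ Spec (CommRingCat.of K)) := Approx60.Segre.isProper_toSpec K n
  have hδF : Cyc.DeltaCompat (D.F ↘ Spec (CommRingCat.of K)) (fun w => δP (D.g w) - δ (p x))
    (fun _ => 0) := D.deltaCompat hδ
  have := D.isPreimmersion
  obtain ⟨η, -, hη, -⟩ := VarGal.exists_genPoint (k := K) (n := n)
  let η' : D.F := η
  have hcl : closure ({η'} : Set D.F) = Set.univ := hη
  have hsp : η' ⤳ z := specializes_iff_mem_closure.2 (by rw [hcl]; trivial)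
  have hηx : D.g η' = x := hmax _ (D.apply_g η') ((hsp.map D.g.continuous).trans (specializes_of_eq hz))
  have hdim := dim_closure_eq_delta hδF η'
  rw [hcl, (Homeomorph.Set.univ D.F).isHomeomorph.topologicalKrullDim_eq _,
    show topologicalKrullDim D.F = (n : WithBot ℕ∞) from S10829.result K n] at hdim
  have hnn : 0 ≤ δP (D.g η') - δ (p x) := delta_nonneg' hδF η'
  have h1 : n = (δP (D.g η') - δ (p x)).toNat := by exact_mod_cast hdim
  rw [hηx] at hnn h1
  omega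

/-- Pullback along a projective bundle raises dimensions by `n`. -/
theorem shiftAt_projBundle (hq : Coh.IsQCoh E) (hE : FlatMod.IsFinLocFreeOfRank (n + 1) E)
    (hS : RelProj.IsGrSymAlg E 𝒮 j) (hP : RelProj.IsRelProj 𝒮 p chart)
    (hO1 : RelProj.IsRelTwist 𝒮 p chart 1 O1 lam) {δP : P → ℤ} {δ : X → ℤ}
    (hδ : Cyc.DeltaCompat p δP δ) : ShiftAt p δP δ n :=
  shiftAt_of_fibres (exists_fibreData_projBundle hq hE hS hP hO1) hδ

end Groth.Agent.Cyc90.Dev
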