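import Groth.Agent.Cyc90.Dev.ProjGen
import Groth.Agent.Cyc90.Dev.BundleFlat

/-! Every cycle on a projective bundle is a combination of caps of pulled back cycles. -/

set_option autoImplicit false
set_option backward.isDefEq.respectTransparency.types false
universe u

open CategoryTheory CategoryTheory.Limits AlgebraicGeometry TopologicalSpace Opposite
open scoped HomogeneousIdeal

namespace Groth.Agent.Cyc90.Dev

lemma ratEquivZero_of_eq_zero {X : Scheme.{u}} {δ : X → ℤ} {k : ℤ} {α : AlgebraicCycle X ℤ}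
    (h : ∀ x, α x = 0) : Cyc.RatEquivZero δ k α :=
  ⟨PEmpty.{u + 1}, fun i => i.elim, fun i => i.elim, fun i => i.elim, fun i => i.elim,
    fun _ => ⟨Set.univ, isOpen_univ, trivial, Set.toFinite _⟩, fun x => by
      rw [finsum_of_isEmpty, h]⟩

lemma cycle_sum_apply {X : Scheme.{u}} {ι : Type*} (s : Finset ι) (f : ι → AlgebraicCycle X ℤ) (x : X) :
    (∑ i ∈ s, f i : AlgebraicCycle X ℤ) x = ∑ i ∈ s, f i x := by
  induction s using Finset.cons_induction with
  | empty => simp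
  | cons a s ha ih =>
    rw [Finset.sum_cons, Finset.sum_cons, Function.locallyFinsuppWithin.coe_add, Pi.add_apply, ih]

variable {X : Scheme.{u}} {δ : X → ℤ} {n : ℕ} {P : Scheme.{u}} {p : P ⟶ X} {O1 : P.Modules}
  (hX : Cyc.IsSetup X δ) (hB : ProjFibres n p O1) (hinv : PicF.IsInvertible O1) [IsProper p]
  {δP : P → ℤ} (hPs : Cyc.IsSetup P δP) (hδ : Cyc.DeltaCompat p δP δ)

include hB hδ in
lemma delta_le_delta_add (x : P) : δP x ≤ δ (p x) + n := by
  obtain ⟨g, e, hg, hq', -⟩ := hB (p x)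
  let D : FibreData p (p x) := ⟨_, g, _, e, hg, hq'⟩
  obtain ⟨z, hz⟩ := (Set.ext_iff.1 D.range_g x).2 rfl
  obtain ⟨ξ, -, hξ⟩ := exists_top_linSub (X.residueField (p x)) n (D.deltaCompat hδ) n le_rfl
  have h := (hξ z (linSub_top _ n z)).1
  have h' : δP (D.g z) = δP x := congrArg δP hz
  have h'' : δP (D.g z) - δ (p x) ≤ (n : ℤ) := h
  omega

include hX hB hinv hPs hδ in
/-- On one fibre a cycle is a multiple of the cap of the fibre up to divisors. -/
lemma exists_fibKilled_sub_cap {k : ℤ} {N : ℕ} (hN : N ≤ n) (β : AlgebraicCycle P ℤ)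
    (hβ : β ∈ Cyc.Zk P δP (k + n)) (t : ℕ → (ξ : P) → Cyc.secFibre O1 ξ) (ht : ∀ i ξ, t i ξ ≠ 0)
    (η : X) (hη : δ η = k + N) :
    ∃ a : ℤ, ∀ (α : X → ℤ) (γ : ℕ → P → ℤ), (∀ x, δ x ≠ k + N → α x = 0) → α η = a →
      γ 0 = Cyc.pullFun p δP δ n α → (∀ i, γ (i + 1) = Cyc.c1CapFun δP O1 (γ i) (t i)) →
      FibKilled p δP η (k + n) (fun x => β x - γ N x) := by
  classical
  obtain ⟨g, e, hg, hq', ⟨τ⟩⟩ := hB η
  let D : FibreData p η := ⟨_, g, _, e, hg, hq'⟩
  have := D.isPreimmersion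
  have hδF := D.deltaCompat hδ
  have hF := setup_projSpace (X.residueField η) n hδF
  have hinj : Function.Injective D.g := D.g.isEmbedding.injective
  have hfin : (Function.support fun z => β (D.g z)).Finite := by
    obtain ⟨V, hV, hηV, -⟩ := exists_isAffineOpen_mem_and_subset (X := X) (x := η) (U := ⊤) trivial
    refine ((LocallyFiniteSupport.finite_inter_support_of_isCompact (f := (β : P → ℤ))
      (fun z => β.supportLocallyFiniteWithinDomain' z trivial) (p.isCompact_preimage hV.isCompact)).preimage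
        hinj.injOn).subset fun z hz => ⟨?_, hz⟩
    show p (D.g z) ∈ V
    rw [D.apply_g z]
    exact hηV
  let γF : ℕ → D.F → ℤ := fun i => Nat.rec
    (Cyc.subschemeFun (fun z => δP (D.g z) - δ η) n (𝟙 D.F))
    (fun i r => Cyc.c1CapFun (fun z => δP (D.g z) - δ η) ((Scheme.Modules.pullback D.g).obj O1) r
      (pullSec D.g hinv (t i) (ht i))) i
  obtain ⟨a, ι, hι, ζ, f, h1, h2⟩ := exists_killed_sub_cap (X.residueField η) n hδF
    (Amp73.isInvertible_pullback g hinv) ⟨τ⟩ (fun i => pullSec g hinv (t i) (ht i))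
    (fun i z => pullSec_ne_zero g hinv (t i) (ht i) z) γF rfl (fun _ => rfl) hN
    (fun z => β (D.g z)) hfin fun z hz => by
      have : δP (D.g z) = k + n := by_contra fun h => hz (hβ _ h)
      show δP (D.g z) - δ η = _
      omega
  choose f' hf' using fun i => residueFieldMap_surjective D.g (ζ i) (f i)
  have hne : ∀ i, f' i ≠ 0 := fun i h0 => (h1 i).2.2 (by rw [← hf' i, h0, map_zero])
  refine ⟨a, fun α γ hα ha hγ0 hγs => ⟨ι, hι, fun i => D.g (ζ i), f',
    fun i => ⟨D.apply_g _, ?_, hne i⟩, fun x hx => ?_⟩⟩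
  · have := (h1 i).2.1
    change δP (D.g (ζ i)) - δ η = _ at this
    show δP (D.g (ζ i)) = _
    omega
  · obtain ⟨z, rfl⟩ := (Set.ext_iff.1 D.range_g x).2 hx
    have hc := D.cap_eq hX hPs hη hα hinv t ht γ hγ0 hγs hF γF rfl (fun _ => rfl) N z
    show β (D.g z) - γ N (D.g z) = _
    rw [hc, ha]
    refine (h2 z (toSpec_apply_eq _ n z)).trans (Finset.sum_congr rfl fun i _ => ?_)
    rw [divFun_preimmersion' D.g hPs (δ η) hF (ζ i) z (f' i) (hne i), hf' i]

include hX hB hinv hPs hδ in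
/-- Every cycle on a projective bundle is a combination of caps of pullbacks. -/
theorem exists_span_of_fibres {k : ℤ} (t : Fin (n + 1) → ℕ → (ξ : P) → Cyc.secFibre O1 ξ)
    (ht : ∀ i m ξ, t i m ξ ≠ 0) (β : AlgebraicCycle P ℤ) (hβ : β ∈ Cyc.Zk P δP (k + n)) :
    ∃ (α : Fin (n + 1) → AlgebraicCycle X ℤ) (γ : Fin (n + 1) → ℕ → P → ℤ) (β' : AlgebraicCycle P ℤ),
      (∀ i : Fin (n + 1), α i ∈ Cyc.Zk X δ (k + ((i : ℕ) : ℤ))) ∧
      (∀ i, γ i 0 = Cyc.pullFun p δP δ (n : ℤ) ⇑(α i)) ∧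
      (∀ (i) (m : ℕ), γ i (m + 1) = Cyc.c1CapFun δP O1 (γ i m) (t i m)) ∧
      (∀ x, β' x = ∑ i : Fin (n + 1), γ i (i : ℕ) x) ∧ Cyc.RatEquiv δP (k + n) β β' := by
  classical
  have hsh : ShiftAt p δP δ n := shiftAt_of_fibres hB hδ
  choose C hC using fun (a : AlgebraicCycle P ℤ) (i : Fin (n + 1)) (m : ℕ) =>
    exists_c1CapCycle hPs hinv a (t i m) (ht i m)
  let B : Fin (n + 1) → AlgebraicCycle X ℤ → ℕ → AlgebraicCycle P ℤ := fun i a m =>
    Nat.rec (pullCycle p hPs hsh a) (fun m b => C b i m) m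
  have hBzero : ∀ i m x, B i 0 m x = 0 := by
    intro i m
    induction m with
    | zero =>
        intro x
        show Cyc.pullFun p δP δ n (⇑(0 : AlgebraicCycle X ℤ)) x = 0
        simp [Cyc.pullFun]
    | succ m ihm =>
      intro x
      show C (B i 0 m) i m x = 0
      rw [hC]
      exact finsum_eq_zero_of_forall_eq_zero fun ξ => by rw [ihm, zero_mul]
  suffices H : ∀ N : ℕ, N ≤ n + 1 → ∀ γ : AlgebraicCycle P ℤ, γ ∈ Cyc.Zk P δP (k + n) →
      (∀ x, γ x ≠ 0 → δ (p x) < k + N) →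
      ∃ α : Fin (n + 1) → AlgebraicCycle X ℤ,
        (∀ i : Fin (n + 1), α i ∈ Cyc.Zk X δ (k + ((i : ℕ) : ℤ))) ∧
        (∀ i : Fin (n + 1), N ≤ (i : ℕ) → α i = 0) ∧
        Cyc.RatEquiv δP (k + n) γ (∑ i, B i (α i) (i : ℕ)) by
    obtain ⟨α, h1, -, h3⟩ := H (n + 1) le_rfl β hβ fun x hx => by
      have h4 : δP x = k + n := by_contra fun h => hx (hβ x h)
      have h5 := delta_le_delta hδ x
      push_cast
      omega
    exact ⟨α, fun i m => ⇑(B i (α i) m), _, h1, fun i => rfl, fun i m => hC _ _ _,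
      fun x => cycle_sum_apply _ _ x, h3⟩
  intro N
  induction N with
  | zero =>
    intro _ γ hγ hlt
    refine ⟨fun _ => 0, fun i x _ => rfl, fun i _ => rfl, ratEquivZero_of_eq_zero fun x => ?_⟩
    rw [Function.locallyFinsuppWithin.coe_sub, Pi.sub_apply, cycle_sum_apply,
      Finset.sum_eq_zero fun i _ => hBzero i _ x, sub_zero]
    by_contra hx
    have h4 : δP x = k + n := by_contra fun h => hx (hγ x h)
    have h5 := delta_le_delta_add hB hδ x
    have := hlt x hx
    push_cast at this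
    omega
  | succ N ih =>
    intro hN γ hγ hlt
    let i0 : Fin (n + 1) := ⟨N, by omega⟩
    let S : Set X := {η | δ η = k + N ∧ ∃ x, γ x ≠ 0 ∧ p x = η}
    have hfinV : ∀ y : X, ∃ V : X.Opens, y ∈ V ∧ (p ⁻¹' (V : Set X) ∩ Function.support γ).Finite := by
      intro y
      obtain ⟨V, hV, hyV, -⟩ := exists_isAffineOpen_mem_and_subset (X := X) (x := y) (U := ⊤) trivial
      exact ⟨V, hyV, LocallyFiniteSupport.finite_inter_support_of_isCompact (f := (γ : P → ℤ))
        (fun z => γ.supportLocallyFiniteWithinDomain' z trivial) (p.isCompact_preimage hV.isCompact)⟩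
    have hSfin : ∀ (V : X.Opens), (p ⁻¹' (V : Set X) ∩ Function.support γ).Finite →
        (S ∩ V).Finite := fun V hV => (hV.image p).subset (by
      rintro _ ⟨⟨-, x, hx, rfl⟩, hxV⟩
      exact ⟨x, ⟨hxV, hx⟩, rfl⟩)
    choose a ha using fun η : S => exists_fibKilled_sub_cap hX hB hinv hPs hδ
      (show N ≤ n by omega) γ hγ (t i0) (ht i0) η.1 η.2.1
    let αN : AlgebraicCycle X ℤ :=
      { toFun := fun η => if h : η ∈ S then a ⟨η, h⟩ else 0
        supportWithinDomain' := Set.subset_univ _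
        supportLocallyFiniteWithinDomain' := fun y _ => by
          obtain ⟨V, hyV, hV⟩ := hfinV y
          refine ⟨V, V.2.mem_nhds hyV, (hSfin V hV).subset ?_⟩
          rintro η ⟨hηV, hη⟩
          refine ⟨by_contra fun h => hη (dif_neg h), hηV⟩ }
    have hαN : ∀ η, δ η ≠ k + N → (αN : X → ℤ) η = 0 := fun η h => dif_neg fun hh => h hh.1
    have hαS : ∀ η, (αN : X → ℤ) η ≠ 0 → η ∈ S := fun η h => by_contra fun hh => h (dif_neg hh)
    choose ι hι ζ g hζ hsum using fun η : S => ha η ⇑αN (fun m => ⇑(B i0 αN m)) hαN (dif_pos η.2) rfl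
      (fun m => hC _ _ _)
    have hlf : ∀ x : P, ∃ U : Set P, IsOpen U ∧ x ∈ U ∧
        {q : Σ η : S, ι η | (closure {ζ q.1 q.2} ∩ U).Nonempty}.Finite := fun x => by
      obtain ⟨V, hxV, hV⟩ := hfinV (p x)
      have hS' : {η : S | η.1 ∈ V}.Finite :=
        ((hSfin V hV).preimage Subtype.val_injective.injOn).subset fun η hη => ⟨η.2, hη⟩
      refine ⟨p ⁻¹' V, V.2.preimage p.continuous, hxV,
        (hS'.biUnion fun η _ => Set.finite_range (Sigma.mk η)).subset ?_⟩
      rintro ⟨η, i⟩ ⟨y, hy, hyV⟩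
      refine Set.mem_biUnion (show η.1 ∈ V from ?_) ⟨i, rfl⟩
      exact (hζ η i).1 ▸ ((specializes_iff_mem_closure.2 hy).map p.continuous).mem_open V.2 hyV
    let ρ := divSum hPs (fun q : Σ η : S, ι η => ζ q.1 q.2) (fun q => g q.1 q.2)
      (fun q => (hζ q.1 q.2).2.2) hlf
    have hρ : Cyc.RatEquivZero δP (k + n) ρ :=
      ⟨_, fun q : Σ η : S, ι η => ζ q.1 q.2, fun q => g q.1 q.2, fun q => (hζ q.1 q.2).2.1,
        fun q => (hζ q.1 q.2).2.2, hlf, fun x => rfl⟩
    have hρdim : ∀ x, δP x ≠ k + n → ρ x = 0 := fun x hx => by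
      rw [divSum_apply]
      refine finsum_eq_zero_of_forall_eq_zero fun q => dif_neg fun hh => hx ?_
      have := (hζ q.1 q.2).2.1
      omega
    have hBsupp : ∀ x, B i0 αN N x ≠ 0 → δP x = k + n ∧ ∃ ξ ∈ S, ξ ⤳ p x := fun x hx => by
      obtain ⟨h1, ξ, hξ, h2⟩ := cap_support (k := k + N) (n := (n : ℤ))
        (γ := fun m => ⇑(B i0 αN m)) hαN rfl (fun m => hC _ _ _) N x hx
      exact ⟨by omega, ξ, hαS ξ hξ, h2⟩
    have hρfib : ∀ (η : S) (q : Σ η : S, ι η) (x : P), p x = η.1 →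
        Cyc.divFun δP (ζ q.1 q.2) (g q.1 q.2) x ≠ 0 → q.1 = η := by
      intro η q x hx h
      unfold Cyc.divFun at h
      split_ifs at h with hh
      · have h1 : q.1.1 ⤳ η.1 := (hζ q.1 q.2).1 ▸ hx ▸ hh.1.map p.continuous
        exact Subtype.ext (eq_of_delta_le hX.2.2 h1 (by rw [q.1.2.1, η.2.1]))
      · exact absurd rfl h
    have hnew : ∀ x, γ x - B i0 αN N x - ρ x ≠ 0 → δ (p x) < k + N := by
      intro x hx
      by_contra hge
      refine hx ?_
      rcases (show δ (p x) = k + N ∨ k + N < δ (p x) by omega) with heq | hgt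
      · by_cases hmem : p x ∈ S
        · have h1 := hsum ⟨p x, hmem⟩ x rfl
          dsimp only at h1
          rw [h1, divSum_apply, sub_eq_zero, ← finsum_eq_sum_of_fintype]
          refine Eq.symm ((((finsum_mem_univ _).symm.trans (finsum_mem_inter_support_eq' _ Set.univ
            (Set.range (Sigma.mk (β := fun η : S => ι η) ⟨p x, hmem⟩))
            fun q hq => ⟨fun _ => ?_, fun _ => trivial⟩))).trans (finsum_mem_range sigma_mk_injective))
          obtain ⟨η, i⟩ := q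
          obtain rfl := hρfib ⟨p x, hmem⟩ ⟨η, i⟩ x rfl hq
          exact ⟨i, rfl⟩
        · have hγx : γ x = 0 := by_contra fun h => hmem ⟨heq, x, h, rfl⟩
          have hBx : B i0 αN N x = 0 := by_contra fun h => by
            obtain ⟨-, ξ, hξ, h2⟩ := hBsupp x h
            exact hmem (eq_of_delta_le hX.2.2 h2 (by rw [hξ.1, heq]) ▸ hξ)
          rw [hγx, hBx, sub_zero, zero_sub, neg_eq_zero, divSum_apply]
          refine finsum_eq_zero_of_forall_eq_zero fun q => ?_
          by_contra h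
          unfold Cyc.divFun at h
          split_ifs at h with hh
          · exact hmem (eq_of_delta_le hX.2.2 ((hζ q.1 q.2).1 ▸ hh.1.map p.continuous)
              (by rw [q.1.2.1, heq]) ▸ q.1.2)
          · exact h rfl
      · have hγx : γ x = 0 := by_contra fun h => by
          have := hlt x h
          push_cast at this
          omega
        have hle : ∀ ξ ∈ S, ¬ ξ ⤳ p x := fun ξ hξ h2 => by
          have := delta_le hX.2.2 h2
          rw [hξ.1] at this
          omega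
        have hBx : B i0 αN N x = 0 := by_contra fun h => by
          obtain ⟨-, ξ, hξ, h2⟩ := hBsupp x h
          exact hle ξ hξ h2
        rw [hγx, hBx, sub_zero, zero_sub, neg_eq_zero, divSum_apply]
        refine finsum_eq_zero_of_forall_eq_zero fun q => dif_neg fun hh => ?_
        exact hle q.1.1 q.1.2 ((hζ q.1 q.2).1 ▸ hh.1.map p.continuous)
    have hmem : γ - B i0 αN N - ρ ∈ Cyc.Zk P δP (k + n) := fun x hx => by
      simp only [Function.locallyFinsuppWithin.coe_sub, Pi.sub_apply, hγ x hx, hρdim x hx, sub_zero,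
        zero_sub, neg_eq_zero]
      exact by_contra fun h => hx (hBsupp x h).1
    obtain ⟨α, h1, h2, h3⟩ := ih (by omega) _ hmem fun x hx => hnew x (by
      simpa only [Function.locallyFinsuppWithin.coe_sub, Pi.sub_apply] using hx)
    refine ⟨Function.update α i0 αN, fun i => ?_, fun i hi => ?_, ?_⟩
    · rcases eq_or_ne i i0 with rfl | hne
      · rw [Function.update_self]; exact hαN
      · rw [Function.update_of_ne hne]; exact h1 i
    · rw [Function.update_of_ne (fun h => by rw [h] at hi; simp [i0] at hi)]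
      exact h2 i (by omega)
    · have hB0 : B i0 (α i0) N = 0 := by
        ext x
        rw [h2 i0 le_rfl]
        exact hBzero i0 N x
      have e : (∑ i, B i (Function.update α i0 αN i) (i : ℕ)) =
          B i0 αN N + ∑ i, B i (α i) (i : ℕ) := by
        rw [← Finset.add_sum_erase _ _ (Finset.mem_univ i0),
          ← Finset.add_sum_erase (s := Finset.univ) (f := fun i => B i (α i) (i : ℕ))
            (Finset.mem_univ i0), Function.update_self, show B i0 (α i0) (i0 : ℕ) = 0 from hB0, zero_add]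
        exact congrArg _ (Finset.sum_congr rfl fun i hi => by
          rw [Function.update_of_ne (Finset.mem_erase.1 hi).1])
      unfold Cyc.RatEquiv at h3 ⊢
      rw [e, show γ - (B i0 αN N + ∑ i, B i (α i) (i : ℕ)) =
        ρ + (γ - B i0 αN N - ρ - ∑ i, B i (α i) (i : ℕ)) by abel]
      exact ratEquivZero_add hρ h3

omit hB in
/-- Every cycle on a projective bundle is a combination of caps of pullbacks. -/
theorem exists_span {E : X.Modules} {𝒮 : RelProj.QCGrAlg X} {j : E ⟶ 𝒮.toModule}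
    {chart : ∀ (U : X.Opens) (hU : IsAffineOpen U),
      (((p ⁻¹ᵁ U : P.Opens) : Scheme.{u}) ≅ Proj (𝒮.deg U hU))}
    {lam : ∀ (U : X.Opens) (hU : IsAffineOpen U),
      O1 ⟶ (Scheme.Modules.pushforward (RelProj.emb p chart U hU)).obj (GrTwist.twist (𝒮.deg U hU) 1)}
    (hX : Cyc.IsSetup X δ) (hq : Coh.IsQCoh E) (hE : FlatMod.IsFinLocFreeOfRank (n + 1) E)
    (hS : RelProj.IsGrSymAlg E 𝒮 j) (hP : RelProj.IsRelProj 𝒮 p chart)
    (hO1 : RelProj.IsRelTwist 𝒮 p chart 1 O1 lam) (hinv : PicF.IsInvertible O1)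
    (hPs : Cyc.IsSetup P δP) (hδ : Cyc.DeltaCompat p δP δ)
    {k : ℤ} (t : Fin (n + 1) → ℕ → (ξ : P) → Cyc.secFibre O1 ξ)
    (ht : ∀ i m ξ, t i m ξ ≠ 0) (β : AlgebraicCycle P ℤ) (hβ : β ∈ Cyc.Zk P δP (k + n)) :
    ∃ (α : Fin (n + 1) → AlgebraicCycle X ℤ) (γ : Fin (n + 1) → ℕ → P → ℤ) (β' : AlgebraicCycle P ℤ),
      (∀ i : Fin (n + 1), α i ∈ Cyc.Zk X δ (k + ((i : ℕ) : ℤ))) ∧
      (∀ i, γ i 0 = Cyc.pullFun p δP δ (n : ℤ) ⇑(α i)) ∧
      (∀ (i) (m : ℕ), γ i (m + 1) = Cyc.c1CapFun δP O1 (γ i m) (t i m)) ∧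
      (∀ x, β' x = ∑ i : Fin (n + 1), γ i (i : ℕ) x) ∧ Cyc.RatEquiv δP (k + n) β β' :=
  exists_span_of_fibres hX (exists_fibreData_projBundle hq hE hS hP hO1) hinv hPs hδ t ht β hβ

end Groth.Agent.Cyc90.Dev
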