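import Groth.Agent.Cyc90.Dev.BundleSpan
import Groth.Agent.Grass5.QuotBC
import Groth.Agent.EGAProj74.BundleEpi
import Groth.Agent.EGAProj74.RelTwistTriv
import Groth.Agent.Props58.LocFree.Criteria
import Groth.Agent.Mero90.Frames

/-! A projective bundle given by its universal property is the relative `Proj` of the symmetric algebra. -/

set_option autoImplicit false
set_option backward.isDefEq.respectTransparency.types false
universe u

open CategoryTheory CategoryTheory.Limits AlgebraicGeometry TopologicalSpace Opposite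

namespace Groth.Agent.Cyc90.Dev

open Grass5.QuotBC

variable {X G : Scheme.{u}} {π : G ⟶ X} {E : X.Modules} {Q : G.Modules}
  {q : (Scheme.Modules.pullback π).obj E ⟶ Q}

lemma quotBC_id : Grass.quotBC (Category.id_comp π) q ≫ (Scheme.Modules.pullbackId G).hom.app Q = q := by
  have h := congr_app (Scheme.Modules.pseudofunctor_right_unitality π) E
  simp only [NatTrans.comp_app, Functor.whiskerLeft_app, Functor.rightUnitor_hom_app, eqToHom_app] at h
  have n := (Scheme.Modules.pullbackId G).hom.naturality q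
  simp only [Functor.id_map] at n
  unfold Grass.quotBC
  simp only [Category.assoc]
  rw [n, ← Category.assoc ((Scheme.Modules.pullbackComp (𝟙 G) π).inv.app E),
    ← Category.assoc ((Scheme.Modules.pullbackCongr _).inv.app E)]
  rw [show (Scheme.Modules.pullbackComp (𝟙 G) π).inv.app E ≫
    (Scheme.Modules.pullbackId G).hom.app ((Scheme.Modules.pullback π).obj E) = eqToHom (by simp) by
      rw [← h]; exact (congrArg (_ ≫ ·) (Category.comp_id _)).symm]
  simp [Scheme.Modules.pullbackCongr]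

lemma lift_self {r : ℕ} (hG : Grass.IsGrass π E r Q q) :
    hG.lift π Q hG.rank q hG.epi = 𝟙 G :=
  (hG.lift_unique π Q hG.rank q hG.epi (𝟙 G) (Category.id_comp π) ((Scheme.Modules.pullbackId G).app Q)
    quotBC_id).symm

/-- Two Grassmannians of the same module are isomorphic. -/
theorem exists_iso_of_isGrass {r : ℕ} {G' : Scheme.{u}} {π' : G' ⟶ X} {Q' : G'.Modules}
    {q' : (Scheme.Modules.pullback π').obj E ⟶ Q'} (hG : Grass.IsGrass π E r Q q)
    (hG' : Grass.IsGrass π' E r Q' q') :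
    ∃ e : G ⟶ G', IsIso e ∧ e ≫ π' = π ∧ Nonempty ((Scheme.Modules.pullback e).obj Q' ≅ Q) := by
  let h := hG'.lift π Q hG.rank q hG.epi
  let h' := hG.lift π' Q' hG'.rank q' hG'.epi
  have e1 : h ≫ h' = 𝟙 G := by
    have hc : (h ≫ h') ≫ π = π := by rw [Category.assoc, hG.lift_comp, hG'.lift_comp]
    rw [← lift_self hG]
    refine hG.lift_unique π Q hG.rank q hG.epi (h ≫ h') hc
      (((Scheme.Modules.pullbackComp h h').symm.app Q ≪≫
        (Scheme.Modules.pullback h).mapIso (hG.liftIso π' Q' hG'.rank q' hG'.epi)) ≪≫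
          hG'.liftIso π Q hG.rank q hG.epi) ?_
    rw [Iso.trans_hom, ← Category.assoc,
      exists_iso_comp (hG.lift_comp π' Q' hG'.rank q' hG'.epi) (hG'.lift_comp π Q hG.rank q hG.epi) hc q q'
        (hG.liftIso π' Q' hG'.rank q' hG'.epi) (hG.quotBC_liftIso π' Q' hG'.rank q' hG'.epi)]
    exact hG'.quotBC_liftIso π Q hG.rank q hG.epi
  have e2 : h' ≫ h = 𝟙 G' := by
    have hc : (h' ≫ h) ≫ π' = π' := by rw [Category.assoc, hG'.lift_comp, hG.lift_comp]
    rw [← lift_self hG']
    refine hG'.lift_unique π' Q' hG'.rank q' hG'.epi (h' ≫ h) hc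
      (((Scheme.Modules.pullbackComp h' h).symm.app Q' ≪≫
        (Scheme.Modules.pullback h').mapIso (hG'.liftIso π Q hG.rank q hG.epi)) ≪≫
          hG.liftIso π' Q' hG'.rank q' hG'.epi) ?_
    rw [Iso.trans_hom, ← Category.assoc,
      exists_iso_comp (hG'.lift_comp π Q hG.rank q hG.epi) (hG.lift_comp π' Q' hG'.rank q' hG'.epi) hc q' q
        (hG'.liftIso π Q hG.rank q hG.epi) (hG'.quotBC_liftIso π Q hG.rank q hG.epi)]
    exact hG.quotBC_liftIso π' Q' hG'.rank q' hG'.epi
  exact ⟨h, ⟨h', e1, e2⟩, hG'.lift_comp _ _ _ _ _, ⟨hG'.liftIso _ _ _ _ _⟩⟩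

lemma isInvertible_of_rank_one {L : X.Modules} (h : FlatMod.IsFinLocFreeOfRank 1 L) :
    PicF.IsInvertible L := fun x => by
  obtain ⟨U, hx, ⟨φ⟩⟩ := h x
  exact ⟨U, hx, ⟨φ ≪≫ coproductUniqueIso fun _ : Fin 1 => Coh.structureModule (↑U : Scheme.{u})⟩⟩

/-- A projective bundle given by its universal property has projective spaces as fibres and is flat. -/
theorem projFibres_of_isProjBundle {n : ℕ} (hE : FlatMod.IsFinLocFreeOfRank (n + 1) E)
    (hP : KRR.IsProjBundle π E Q q) : ProjFibres n π Q ∧ Flat π ∧ PicF.IsInvertible Q := by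
  have hq : Coh.IsQCoh E := Props58.LocFree.isQuasicoherent_of_isFinLocFree fun x => by
    obtain ⟨U, hx, h⟩ := hE x
    exact ⟨U, n + 1, hx, h⟩
  obtain ⟨𝒮, j, hj, P₀, p₀, chart, hP₀, O₀, lam, hO₀⟩ := EGAProj74.exists_projBundle hq
  obtain ⟨φ, hφ⟩ := EGAProj74.exists_canonical hq hj hO₀ hP₀
  have hinv₀ : PicF.IsInvertible O₀ :=
    EGAProj74.isInvertible_of_isGenDegOne hO₀ (EGAProj74.isGenDegOne_grSym hq hj)
  have hG₀ : Grass.IsGrass p₀ E 1 O₀
      (((Scheme.Modules.pullbackPushforwardAdjunction p₀).homEquiv E O₀).symm φ) :=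
    { rank := Mero90.isFinLocFreeOfRank_of_isInvertible hinv₀
      epi := EGAProj74.epi_canonical hq hj hO₀ hφ
      univ := fun T g L hL s hs => by
        haveI := hs
        have h := EGAProj74.existsUnique_of_epi hq hj hP₀ hO₀ hφ g L (isInvertible_of_rank_one hL) s
        simpa only [Grass.quotBC, Category.assoc] using h }
  obtain ⟨e, he, hcomp, ⟨τ⟩⟩ := exists_iso_of_isGrass (Grass.IsGrass.of_isProjBundle hP) hG₀
  have hflat₀ : Flat p₀ := flat_projBundle hq hE hj hP₀ hO₀
  refine ⟨fun ξ => ?_, hcomp ▸ inferInstance, isInvertible_of_rank_one hP.invertible⟩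
  obtain ⟨g₀, e₀, hg₀, hq₀, ⟨σ⟩⟩ := exists_fibreData_projBundle hq hE hj hP₀ hO₀ ξ
  have hsq : IsPullback (g₀ ≫ inv e) (CohB1.ProjSpace.toSpec n (X.residueField ξ)) π
      (X.fromSpecResidueField ξ) := by
    have h₀ : IsPullback g₀ (CohB1.ProjSpace.toSpec n (X.residueField ξ)) p₀
        (X.fromSpecResidueField ξ) :=
      IsPullback.of_iso (IsPullback.of_hasPullback p₀ (X.fromSpecResidueField ξ)) e₀.symm (Iso.refl _)
        (Iso.refl _) (Iso.refl _)
        ((Category.comp_id _).trans ((Iso.eq_inv_comp e₀).2 hg₀.symm))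
        ((Category.comp_id _).trans ((Iso.eq_inv_comp e₀).2 hq₀.symm))
        ((Category.comp_id _).trans (Category.id_comp _).symm)
        ((Category.comp_id _).trans (Category.id_comp _).symm)
    exact IsPullback.of_iso h₀ (Iso.refl _) (asIso e).symm (Iso.refl _) (Iso.refl _)
      (by simp) (by simp) (by simp [← hcomp]) (by simp)
  refine ⟨g₀ ≫ inv e, hsq.isoPullback, (hsq.isoPullback_hom_fst).symm, (hsq.isoPullback_hom_snd).symm,
    ⟨((Scheme.Modules.pullbackComp g₀ (inv e)).app Q).symm ≪≫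
      (Scheme.Modules.pullback g₀).mapIso ((Scheme.Modules.pullback (inv e)).mapIso τ.symm ≪≫
        (Scheme.Modules.pullbackComp (inv e) e).app _ ≪≫
        (Scheme.Modules.pullbackCongr (IsIso.inv_hom_id e)).app _ ≪≫
        (Scheme.Modules.pullbackId _).app _) ≪≫ σ⟩⟩

end Groth.Agent.Cyc90.Dev
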