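import Groth.Agent.Cyc90.Dev.BundleUniv

/-! Grassmannians and projective bundles commute with base change. -/

set_option autoImplicit false
set_option backward.isDefEq.respectTransparency false
set_option backward.isDefEq.respectTransparency.types false
universe u

open CategoryTheory CategoryTheory.Limits AlgebraicGeometry

noncomputable section

namespace Groth.Agent.Cyc90.Dev

open Grass5.QuotBC

variable {X Y G H T : Scheme.{u}} {π : G ⟶ Y} {f : X ⟶ Y} {E : Y.Modules}

lemma quotBC_pullbackComp {π' : H ⟶ X} {h : T ⟶ H} {g : T ⟶ X} (hg : h ≫ π' = g)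
    (hg1 : h ≫ (π' ≫ f) = g ≫ f) {R : H.Modules}
    (x : (Scheme.Modules.pullback (π' ≫ f)).obj E ⟶ R) :
    Grass.quotBC hg ((Scheme.Modules.pullbackComp π' f).hom.app E ≫ x) =
      (Scheme.Modules.pullbackComp g f).hom.app E ≫ Grass.quotBC hg1 x := by
  subst hg
  have k := pullbackComp_assoc_app h π' f E
  rw [← cancel_epi ((Scheme.Modules.pullbackComp (h ≫ π') f).inv.app E), Iso.inv_hom_id_app_assoc]
  unfold Grass.quotBC
  simp only [Functor.map_comp]
  rw [show (Scheme.Modules.pullbackCongr (rfl : h ≫ π' = h ≫ π')).inv.app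
      ((Scheme.Modules.pullback f).obj E) = 𝟙 _ by simp [Scheme.Modules.pullbackCongr], Category.id_comp,
    ← reassoc_of% k, ← Functor.map_comp_assoc, Iso.inv_hom_id_app]
  simp [Scheme.Modules.pullbackCongr]
  exact (Category.id_comp _).symm

/-- The universal quotient of a pulled back Grassmannian. -/
def bcQuot {π' : H ⟶ X} {f' : H ⟶ G} (w : f' ≫ π = π' ≫ f) {Q : G.Modules}
    (q : (Scheme.Modules.pullback π).obj E ⟶ Q) :
    (Scheme.Modules.pullback π').obj ((Scheme.Modules.pullback f).obj E) ⟶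
      (Scheme.Modules.pullback f').obj Q :=
  (Scheme.Modules.pullbackComp π' f).hom.app E ≫ Grass.quotBC w q

/-- Grassmannians are stable under base change. -/
theorem isGrass_bc {r : ℕ} {Q : G.Modules} {q : (Scheme.Modules.pullback π).obj E ⟶ Q}
    (hG : Grass.IsGrass π E r Q q) {π' : H ⟶ X} {f' : H ⟶ G} (hsq : IsPullback f' π' π f) :
    Grass.IsGrass π' ((Scheme.Modules.pullback f).obj E) r ((Scheme.Modules.pullback f').obj Q)
      (bcQuot hsq.w q) where
  rank := isFinLocFreeOfRank_pullback f' hG.rank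
  epi := by
    haveI := hG.epi
    haveI := epi_quotBC hsq.w q
    unfold bcQuot
    exact epi_comp _ _
  univ T g L hL s hs := by
    haveI := hs
    obtain ⟨h₀, ⟨hg₀, e, he⟩, huniq⟩ := hG.univ T (g ≫ f) L hL
      ((Scheme.Modules.pullbackComp g f).inv.app E ≫ s) (epi_comp _ _)
    have key : ∀ (h : T ⟶ H) (hg : h ≫ π' = g) (e' : (Scheme.Modules.pullback h).obj
        ((Scheme.Modules.pullback f').obj Q) ≅ L),
        Grass.quotBC hg (bcQuot hsq.w q) ≫ e'.hom = (Scheme.Modules.pullbackComp g f).hom.app E ≫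
          Grass.quotBC (show (h ≫ f') ≫ π = g ≫ f by rw [Category.assoc, hsq.w, reassoc_of% hg]) q ≫
            ((Scheme.Modules.pullbackComp h f').inv.app Q ≫ e'.hom) := fun h hg e' => by
      unfold bcQuot
      rw [quotBC_pullbackComp hg (by rw [reassoc_of% hg]), quotBC_comp (hg' := by rw [Category.assoc, hsq.w, reassoc_of% hg])]
      simp
    refine ⟨hsq.lift h₀ g hg₀, ⟨hsq.lift_snd _ _ _, ?_⟩, fun h => ?_⟩
    · refine ⟨(Scheme.Modules.pullbackComp _ f').app Q ≪≫
        (Scheme.Modules.pullbackCongr (hsq.lift_fst h₀ g hg₀)).app Q ≪≫ e, ?_⟩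
      rw [key]
      simp only [Iso.trans_hom, Iso.app_hom, Iso.inv_hom_id_app_assoc]
      rw [← Category.assoc (Grass.quotBC _ q)]
      have hc : ∀ (a b : T ⟶ G) (hab : a = b) (ha : a ≫ π = g ≫ f) (hb : b ≫ π = g ≫ f),
          Grass.quotBC ha q ≫ (Scheme.Modules.pullbackCongr hab).hom.app Q = Grass.quotBC hb q := by
        intro a b hab ha hb
        subst hab
        simp [Scheme.Modules.pullbackCongr]
      rw [hc _ _ (hsq.lift_fst h₀ g hg₀) _ hg₀, he, Iso.hom_inv_id_app_assoc]
    · rintro ⟨hg, e', he'⟩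
      rw [key] at he'
      refine hsq.hom_ext ?_ (hg.trans (hsq.lift_snd _ _ _).symm)
      rw [hsq.lift_fst]
      refine huniq (h ≫ f') ⟨by rw [Category.assoc, hsq.w, reassoc_of% hg],
        (Scheme.Modules.pullbackComp h f').symm.app Q ≪≫ e', ?_⟩
      rw [← he', Iso.inv_hom_id_app_assoc]
      rfl

/-- A pulled back projective bundle has projective spaces as fibres. -/
theorem projFibres_bc {n : ℕ} {Q : G.Modules} {q : (Scheme.Modules.pullback π).obj E ⟶ Q}
    (hE : FlatMod.IsFinLocFreeOfRank (n + 1) E) (hP : KRR.IsProjBundle π E Q q) {π' : H ⟶ X}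
    {f' : H ⟶ G} (hsq : IsPullback f' π' π f) :
    ProjFibres n π' ((Scheme.Modules.pullback f').obj Q) ∧ Flat π' ∧
      PicF.IsInvertible ((Scheme.Modules.pullback f').obj Q) :=
  projFibres_of_isProjBundle (isFinLocFreeOfRank_pullback f hE)
    (isGrass_bc (Grass.IsGrass.of_isProjBundle hP) hsq).isProjBundle

end Groth.Agent.Cyc90.Dev
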