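import Groth.Agent.Cyc90.Dev.ChernFunct
import Groth.Agent.Cyc90.Dev.GrassBC
import Groth.Agent.Cyc90.FlatRelDim

/-! Chern caps of two bundles commute. -/

set_option autoImplicit false
set_option backward.isDefEq.respectTransparency.types false
universe u

open CategoryTheory CategoryTheory.Limits AlgebraicGeometry TopologicalSpace

noncomputable section

namespace Groth.Agent.Cyc90.Dev

/-- The weight function induced along a morphism locally of finite type. -/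
def upDelta {X Y : Scheme.{u}} (f : X ⟶ Y) (δ : Y → ℤ) (x : X) : ℤ := δ (f x) + E4O.fdeg f x

lemma deltaCompat_upDelta {X Y : Scheme.{u}} (f : X ⟶ Y) [LocallyOfFiniteType f] (δ : Y → ℤ) :
    Cyc.DeltaCompat f (upDelta f δ) δ := fun x => ⟨_, trdeg_residueField_eq_fdeg f x, rfl⟩

lemma isSetup_upDelta {X Y : Scheme.{u}} (f : X ⟶ Y) [LocallyOfFiniteType f] {δ : Y → ℤ}
    (hY : Cyc.IsSetup Y δ) : Cyc.IsSetup X (upDelta f δ) :=
  isSetup_of_lft f δ hY _ (deltaCompat_upDelta f δ)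

section Linear

variable {X P : Scheme.{u}} {δ : X → ℤ} {δP : P → ℤ} {p : P ⟶ X} {O1 : P.Modules} {n : ℕ}
  (hB : ProjFibres n p O1) (hinv : PicF.IsInvertible O1)
  (hPs : Cyc.IsSetup P δP) (hδ : Cyc.DeltaCompat p δP δ)

include hB hinv hPs hδ in
/-- Combinations of Chern caps are Chern caps of the combinations. -/
lemma isChernCap_sum {ι : Type*} (S : Finset ι) (c : ι → ℤ) {k : ℤ} {α : ι → AlgebraicCycle X ℤ}
    {γ : ι → Fin (n + 2) → AlgebraicCycle X ℤ}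
    (hγ : ∀ l ∈ S, Cyc.IsChernCap p δ δP O1 (n + 1) k (α l) (γ l)) :
    Cyc.IsChernCap p δ δP O1 (n + 1) k (∑ l ∈ S, c l • α l) (fun j => ∑ l ∈ S, c l • γ l j) := by
  obtain ⟨s, hs⟩ := exists_secFibre_family hinv
  let t : ℕ → (ξ : P) → Cyc.secFibre O1 ξ := fun _ => s
  have ht : ∀ i ξ, t i ξ ≠ 0 := fun _ => hs
  refine isChernCap_of_chRel hB hinv hPs hδ t ht (Finset.sum_congr rfl fun l hl => by rw [(hγ l hl).1])
    (fun j => sum_mem (S := zkSub δ _) fun l hl => zsmul_mem (K := zkSub δ _) ((hγ l hl).2.1 j) _) ?_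
  refine (mem_ratZ hPs).1 ?_
  rw [show chRel hB hinv hPs hδ t ht (fun j => ∑ l ∈ S, c l • γ l j) =
      ∑ l ∈ S, c l • chRel hB hinv hPs hδ t ht (γ l) by
    simp only [chRel, map_sum, map_zsmul, Finset.smul_sum]
    rw [Finset.sum_comm]
    exact Finset.sum_congr rfl fun l _ => Finset.sum_congr rfl fun i _ => smul_comm _ _ _]
  exact sum_mem fun l hl => zsmul_mem (chRel_of_isChernCap hB hinv hPs hδ t ht (hγ l hl)) _

include hB hinv hPs hδ in
/-- The zero tuple is the Chern cap of zero. -/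
lemma isChernCap_zero (k : ℤ) : Cyc.IsChernCap p δ δP O1 (n + 1) k 0 (fun _ => 0) := by
  obtain ⟨s, hs⟩ := exists_secFibre_family hinv
  refine isChernCap_of_chRel hB hinv hPs hδ (fun _ => s) (fun _ => hs) rfl (fun _ _ _ => rfl) ?_
  refine (mem_ratZ hPs).1 ?_
  simp only [chRel, map_zero, smul_zero, Finset.sum_const_zero]
  exact zero_mem _

end Linear

lemma ratEquiv_refl {X : Scheme.{u}} {δ : X → ℤ} (hX : Cyc.IsSetup X δ) (k : ℤ) (α : AlgebraicCycle X ℤ) :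
    Cyc.RatEquiv δ k α α := by
  show Cyc.RatEquivZero _ _ (α - α)
  rw [sub_self]; exact (mem_ratZ hX).1 (zero_mem _)

/-- Iterated first Chern caps of a Chern cap. -/
lemma isChernCap_capPow {Y P : Scheme.{u}} {δ : Y → ℤ} {δP : P → ℤ} {π : P ⟶ Y} {O1 : P.Modules}
    {n : ℕ} [IsProper π] [Flat π] (hY : Cyc.IsSetup Y δ) (hPs : Cyc.IsSetup P δP)
    (hπ : Cyc.DeltaCompat π δP δ) (hB : ProjFibres n π O1) (hinv : PicF.IsInvertible O1) {L : Y.Modules}
    (hL : PicF.IsInvertible L) (t : ℕ → (η : Y) → Cyc.secFibre L η) (ht : ∀ i η, t i η ≠ 0) {k : ℤ}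
    {α : AlgebraicCycle Y ℤ} {γ : Fin (n + 2) → AlgebraicCycle Y ℤ}
    (hγ : Cyc.IsChernCap π δ δP O1 (n + 1) k α γ) :
    ∀ m : ℕ, Cyc.IsChernCap π δ δP O1 (n + 1) (k - m) (capPow hY hL t ht m α)
      (fun j => capPow hY hL t ht m (γ j))
  | 0 => by simpa only [capPow_zero, Nat.cast_zero, sub_zero] using hγ
  | m + 1 => by
    rw [show k - ((m + 1 : ℕ) : ℤ) = k - m - 1 by push_cast; ring]
    exact isChernCap_cap1 hY hPs hπ hB hinv hL (t m) (ht m) (isChernCap_capPow hY hPs hπ hB hinv hL t ht hγ m)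

/-- Chern caps of two bundles commute. -/
theorem chernCap_comm_core {X P Q : Scheme.{u}} {δ : X → ℤ} (hX : Cyc.IsSetup X δ) {n m : ℕ}
    {E F : X.Modules} (hE : FlatMod.IsFinLocFreeOfRank (n + 1) E) (hF : FlatMod.IsFinLocFreeOfRank (m + 1) F)
    {π : P ⟶ X} {O1 : P.Modules} {q : (Scheme.Modules.pullback π).obj E ⟶ O1}
    (hP : KRR.IsProjBundle π E O1 q) [IsProper π] {δP : P → ℤ} (hPs : Cyc.IsSetup P δP)
    (hπ : Cyc.DeltaCompat π δP δ)
    {ρ : Q ⟶ X} {O1' : Q.Modules} {q' : (Scheme.Modules.pullback ρ).obj F ⟶ O1'}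
    (hQ : KRR.IsProjBundle ρ F O1' q') [IsProper ρ] {δQ : Q → ℤ} (hQs : Cyc.IsSetup Q δQ)
    (hρ : Cyc.DeltaCompat ρ δQ δ) {k : ℤ} {α : AlgebraicCycle X ℤ} (i : Fin (n + 2)) (j : Fin (m + 2))
    {γ : Fin (n + 2) → AlgebraicCycle X ℤ} (hγ : Cyc.IsChernCap π δ δP O1 (n + 1) k α γ)
    {ε : Fin (m + 2) → AlgebraicCycle X ℤ}
    (hε : Cyc.IsChernCap ρ δ δQ O1' (m + 1) (k - (i : ℕ)) (γ i) ε)
    {φ : Fin (m + 2) → AlgebraicCycle X ℤ} (hφ : Cyc.IsChernCap ρ δ δQ O1' (m + 1) k α φ)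
    {ψ : Fin (n + 2) → AlgebraicCycle X ℤ}
    (hψ : Cyc.IsChernCap π δ δP O1 (n + 1) (k - (j : ℕ)) (φ j) ψ) :
    Cyc.RatEquiv δ (k - (i : ℕ) - (j : ℕ)) (ε j) (ψ i) := by
  obtain ⟨hB, hflP, hinv⟩ := projFibres_of_isProjBundle hE hP
  obtain ⟨hBQ, hflQ, hinvQ⟩ := projFibres_of_isProjBundle hF hQ
  haveI := hflP
  haveI := hflQ
  let a := pullback.fst π ρ
  let b := pullback.snd π ρ
  have hsq : IsPullback a b π ρ := IsPullback.of_hasPullback π ρ
  obtain ⟨hBW, hflW, hinvW⟩ := projFibres_bc hE hP hsq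
  obtain ⟨hBW', hflW', -⟩ := projFibres_bc hF hQ hsq.flip
  haveI := hflW
  let δW := upDelta b δQ
  have hWs : Cyc.IsSetup _ δW := isSetup_upDelta b hQs
  have hb : Cyc.DeltaCompat b δW δQ := deltaCompat_upDelta b δQ
  have ha : Cyc.DeltaCompat a δW δP := deltaCompat_square_top hsq.w hρ hπ hb
  obtain ⟨s, hs⟩ := exists_secFibre_family hinvQ
  let t : ℕ → (ξ : Q) → Cyc.secFibre O1' ξ := fun _ => s
  have ht : ∀ i ξ, t i ξ ≠ 0 := fun _ => hs
  choose C hC using fun l : Fin (m + 2) =>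
    exists_chernCap hX hB hinv hPs hπ (k := k - (l : ℕ)) (α := φ l) (hφ.2.1 l)
  have hterm : ∀ l : Fin (m + 2), Cyc.IsChernCap b δQ δW ((Scheme.Modules.pullback a).obj O1) (n + 1)
      (k - 1) (chTerm hBQ hinvQ hQs hρ t ht (l : ℕ) (φ (Fin.rev l)))
      (fun i' => chTerm hBQ hinvQ hQs hρ t ht (l : ℕ) (C (Fin.rev l) i')) := fun l => by
    have h1 := isChernCap_pull hsq (shiftAt_of_fibres hBQ hρ) (shiftAt_of_fibres hBW' ha)
      hX hQs hPs hWs hπ hb hB hBW hinv (hC (Fin.rev l))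
    have h2 := isChernCap_capPow hQs hWs hb hBW hinvW hinvQ t ht h1 (l : ℕ)
    rw [chRel_dim l] at h2
    exact h2
  have hsum := isChernCap_sum hBW hinvW hWs hb Finset.univ (fun l : Fin (m + 2) => (-1 : ℤ) ^ (l : ℕ))
    (fun l _ => hterm l)
  have hrat : Cyc.RatEquiv δQ (k - 1) (chRel hBQ hinvQ hQs hρ t ht φ) 0 := by
    show Cyc.RatEquivZero _ _ (_ - 0)
    rw [sub_zero]
    exact chRel_of_isChernCap hBQ hinvQ hQs hρ t ht hφ
  have hzero : Cyc.RatEquiv δQ (k - 1 - (i : ℕ))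
      (chRel hBQ hinvQ hQs hρ t ht fun l => C l i) 0 :=
    ratEquiv_chernCap hQs hBW hinvW hWs hb hrat hsum (isChernCap_zero hBW hinvW hWs hb _) i
  have hcap : Cyc.IsChernCap ρ δ δQ O1' (m + 1) (k - (i : ℕ)) (C 0 i) (fun l => C l i) := by
    refine isChernCap_of_chRel hBQ hinvQ hQs hρ t ht rfl (fun l => ?_) ?_
    · have := (hC l).2.1 i
      rwa [sub_right_comm] at this
    · have h : Cyc.RatEquivZero _ _ (_ - 0) := hzero
      rw [sub_zero, sub_right_comm] at h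
      exact h
  have h0 : Cyc.RatEquiv δ (k - (i : ℕ)) (γ i) (C 0 i) := by
    refine ratEquiv_chernCap hX hB hinv hPs hπ ?_ hγ ?_ i (α' := α)
    · show Cyc.RatEquivZero _ _ (α - α)
      rw [sub_self]; exact (mem_ratZ hX).1 (zero_mem _)
    · have := hC 0
      rwa [hφ.1, Fin.val_zero, Nat.cast_zero, sub_zero] at this
  have h1 := ratEquiv_chernCap hX hBQ hinvQ hQs hρ h0 hε hcap j
  have h2 : Cyc.RatEquiv δ (k - (j : ℕ) - (i : ℕ)) (C j i) (ψ i) := by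
    refine ratEquiv_chernCap hX hB hinv hPs hπ ?_ (hC j) hψ i
    show Cyc.RatEquivZero _ _ (φ j - φ j)
    rw [sub_self]; exact (mem_ratZ hX).1 (zero_mem _)
  have h3 : ε j - ψ i ∈ ratZ hX (k - (i : ℕ) - (j : ℕ)) := by
    rw [← sub_add_sub_cancel _ (C j i) _]
    exact add_mem h1 (by rw [sub_right_comm]; exact h2)
  exact h3

end Groth.Agent.Cyc90.Dev
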