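import Groth.Agent.Cyc90.Dev.ChowHom
import Groth.Agent.Cyc90.PullPush
import Groth.Agent.Cyc90.RelDimBC
import Groth.Agent.Cyc90.RelDimShift
import Groth.Agent.Cyc90.AffBundlePoly
import Groth.Agent.Cyc90.EnvelopeSeq
import Groth.Agent.Div89.RatPush
import Groth.Agent.IntMult12.ExtRat

/-! Pullback and pushforward of cycles in an arbitrary cartesian square. -/

set_option autoImplicit false
set_option backward.isDefEq.respectTransparency.types false
universe u

open CategoryTheory CategoryTheory.Limits AlgebraicGeometry TopologicalSpace IsLocalRing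

noncomputable section

namespace Groth.Agent.Cyc90.Dev

variable {X Y P P' : Scheme.{u}} {f : X ⟶ Y} {π : P ⟶ Y} {π' : P' ⟶ X} {f' : P' ⟶ P}

/-- The weight function transported along an isomorphism. -/
lemma deltaCompat_inv {A B : Scheme.{u}} (e : A ≅ B) (δ : A → ℤ) :
    Cyc.DeltaCompat e.inv (fun z => δ (e.inv z)) δ := deltaCompat_preimmersion _ δ

lemma deltaCompat_hom {A B : Scheme.{u}} (e : A ≅ B) (δ : A → ℤ) :
    Cyc.DeltaCompat e.hom δ (fun z => δ (e.inv z)) := by
  have h := deltaCompat_preimmersion e.hom (fun z => δ (e.inv z))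
  simp only [← Scheme.Hom.comp_apply, Iso.hom_inv_id] at h
  exact h

lemma shiftAt_zero_iso {A B : Scheme.{u}} (e : A ≅ B) (δ : A → ℤ) :
    ShiftAt e.hom δ (fun z => δ (e.inv z)) 0 := fun x _ => by
  simp only [add_zero, ← Scheme.Hom.comp_apply, Iso.hom_inv_id]
  rfl

/-- The base change of a morphism of relative dimension `c` shifts by `c`. -/
lemma shiftAt_square [LocallyOfFiniteType f] {c : ℕ} (hc : Cyc.HasRelDim f c) (hsq : IsPullback f' π' π f)
    {δP : P → ℤ} {δP' : P' → ℤ} (hf' : Cyc.DeltaCompat f' δP' δP) : ShiftAt f' δP' δP c := by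
  let e := hsq.flip.isoPullback
  have he : e.inv ≫ f' = pullback.snd f π := by
    rw [Iso.inv_comp_eq]; exact hsq.flip.isoPullback_hom_snd.symm
  have h1 : Cyc.DeltaCompat (pullback.snd f π) (fun z => δP' (e.inv z)) δP :=
    he ▸ IntMult12.deltaCompat_trans (deltaCompat_inv e δP') hf'
  have h2 := shiftAt_of_hasRelDim _ (hasRelDim_pullback_snd f π hc) h1
  intro x hx
  have hx' : ∀ z, f' (e.inv z) = pullback.snd f π z := fun z => by
    rw [← Scheme.Hom.comp_apply, he]
  have hinv : ∀ y : P', e.inv (e.hom y) = y := fun y => by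
    rw [← Scheme.Hom.comp_apply, Iso.hom_inv_id]; rfl
  have := h2 (e.hom x) fun w hw hs => by
    have hs' := hs.map e.inv.continuous
    rw [hinv] at hs'
    have h3 := hx (e.inv w) (by rw [hx', hw, ← hx', hinv]) hs'
    rw [← hinv x] at h3
    exact (Scheme.Hom.homeomorph e.inv).injective h3
  dsimp only at this
  rw [← hx', hinv] at this
  exact this

/-- The morphisms of a square inherit compatibility of the weight functions. -/
lemma deltaCompat_square_top (hw : f' ≫ π = π' ≫ f) {δX : X → ℤ} {δY : Y → ℤ} {δP : P → ℤ}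
    {δP' : P' → ℤ} (hf : Cyc.DeltaCompat f δX δY) (hπ : Cyc.DeltaCompat π δP δY)
    (hπ' : Cyc.DeltaCompat π' δP' δX) : Cyc.DeltaCompat f' δP' δP :=
  deltaCompat_of_comp f' π (hw ▸ IntMult12.deltaCompat_trans hπ' hf) hπ

lemma map_pull_iso {A B : Scheme.{u}} (e : A ≅ B) {δ : A → ℤ} (hA : Cyc.IsSetup A δ)
    (β : AlgebraicCycle B ℤ) :
    AlgebraicCycle.map e.hom δ (fun z => δ (e.inv z)) (pullHom e.hom hA (shiftAt_zero_iso e δ) β) = β := by
  refine DFunLike.ext _ _ fun z => ?_
  have hinv : ∀ y : A, e.inv (e.hom y) = y := fun y => by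
    rw [← Scheme.Hom.comp_apply, Iso.hom_inv_id]; rfl
  obtain ⟨w, rfl⟩ : ∃ w, e.hom w = z :=
    ⟨e.inv z, by rw [← Scheme.Hom.comp_apply, Iso.inv_hom_id]; rfl⟩
  have hpre : e.hom ⁻¹' {e.hom w} = {w} := Set.ext fun y => by
    simp only [Set.mem_preimage, Set.mem_singleton_iff]
    exact ⟨fun h => by rw [← hinv y, h, hinv], fun h => by rw [h]⟩
  rw [map_apply_eq, hpre, finsum_mem_singleton, coe_pullHom, Cyc.pullFun]
  have hd : δ w = (fun z => δ (e.inv z)) (e.hom w) := (congrArg δ (hinv w)).symm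
  rw [if_pos (hd.trans (add_zero _).symm), if_pos hd,
    residueDegree_of_surjective _ _ (residueFieldMap_surjective e.hom _), Nat.cast_one, mul_one]
  have hlen : (maximalIdeal (B.presheaf.stalk (e.hom w))).map (e.hom.stalkMap w).hom =
      maximalIdeal _ :=
    IsLocalRing.map_maximalIdeal_of_surjective _ (e.hom.stalkMap_surjective _)
  have : IsSimpleModule (A.presheaf.stalk w) (A.presheaf.stalk w ⧸ maximalIdeal (A.presheaf.stalk w)) :=
    isSimpleModule_iff_isCoatom.2 (Ideal.isMaximal_def.1 (maximalIdeal.isMaximal _))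
  rw [hlen, Module.length_eq_one]
  simp

/-- Flat base change commutes with proper pushforward, for a cartesian square. -/
theorem pull_map_square [IsProper f] [IsProper f'] [IsLocallyNoetherian P] (hsq : IsPullback f' π' π f)
    {δX : X → ℤ} {δY : Y → ℤ} {δP : P → ℤ} {δP' : P' → ℤ} (hPs : Cyc.IsSetup P δP)
    (hPs' : Cyc.IsSetup P' δP') (hf : Cyc.DeltaCompat f δX δY) (hf' : Cyc.DeltaCompat f' δP' δP) {c : ℤ}
    (hc : ShiftAt π δP δY c) (hc' : ShiftAt π' δP' δX c) (α : AlgebraicCycle X ℤ) :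
    pullHom π hPs hc (mapHom f δX δY α) = mapHom f' δP' δP (pullHom π' hPs' hc' α) := by
  let e := hsq.flip.isoPullback
  let δ'' : ↑(pullback f π) → ℤ := fun z => δP' (e.inv z)
  have h1 : e.hom ≫ pullback.fst f π = π' := hsq.flip.isoPullback_hom_fst
  have h2 : e.hom ≫ pullback.snd f π = f' := hsq.flip.isoPullback_hom_snd
  have he : e.inv ≫ f' = pullback.snd f π := (Iso.inv_comp_eq e).2 h2.symm
  have hsnd : Cyc.DeltaCompat (pullback.snd f π) δ'' δP :=
    he ▸ IntMult12.deltaCompat_trans (deltaCompat_inv e δP') hf'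
  have hs'' : Cyc.IsSetup _ δ'' := isSetup_closedImmersion e.inv hPs'
  have hfst : ShiftAt (pullback.fst f π) δ'' δX c := fun z hz => by
    have hhom : e.hom (e.inv z) = z := by rw [← Scheme.Hom.comp_apply, Iso.inv_hom_id]; rfl
    have hp : π' (e.inv z) = pullback.fst f π z := by
      rw [← h1, Scheme.Hom.comp_apply, hhom]
    rw [← hp]
    refine hc' (e.inv z) fun w hw hs => ?_
    have hs' := hs.map e.hom.continuous
    rw [hhom] at hs'
    have h3 := hz (e.hom w) (by rw [← hp, ← hw, ← h1]; rfl) hs'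
    rw [← h3, ← Scheme.Hom.comp_apply, Iso.hom_inv_id]
    rfl
  let α'' := pullHom (pullback.fst f π) hs'' hfst α
  refine DFunLike.coe_injective ((pullFun_map f π hPs.2.2 hf hsnd hc α α'' rfl).trans ?_)
  refine congrArg (fun g : AlgebraicCycle P ℤ => ⇑g) ?_
  have hcomp : pullHom π' hPs' hc' α = pullHom e.hom hPs' (shiftAt_zero_iso e δP') α'' := by
    refine DFunLike.coe_injective ?_
    have h := (pullFun_comp e.hom (pullback.fst f π) hPs'.2.2 hs''.2.2 (shiftAt_zero_iso e δP') hfst
      (α : X → ℤ)).2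
    rw [h1, add_zero] at h
    exact h
  rw [mapHom_apply, hcomp]
  conv_lhs => rw [← map_pull_iso e hPs' α'']
  rw [Div89.map_map e.hom (pullback.snd f π) (deltaCompat_hom e δP') hsnd]
  congr 1

end Groth.Agent.Cyc90.Dev
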