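import Groth.Agent.Cyc90.Dev.ChernOps
import Groth.Agent.Cyc90.Dev.CycleSquare

/-! Chern caps commute with flat pullback, proper pushforward, first Chern caps and one another. -/

set_option autoImplicit false
set_option backward.isDefEq.respectTransparency.types false
universe u

open CategoryTheory CategoryTheory.Limits AlgebraicGeometry TopologicalSpace

noncomputable section

namespace Groth.Agent.Cyc90.Dev

variable {X Y P P' : Scheme.{u}} {δX : X → ℤ} {δY : Y → ℤ} {δP : P → ℤ} {δP' : P' → ℤ}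
  {f : X ⟶ Y} {π : P ⟶ Y} {π' : P' ⟶ X} {f' : P' ⟶ P} {O1 : P.Modules} {n : ℕ}
  (hsq : IsPullback f' π' π f) [Flat π] [Flat π'] [IsProper π']

include hsq in
/-- The pullback of a Chern cap, built upstairs. -/
theorem isChernCap_pull [Flat f] {c : ℤ} (hc' : ShiftAt f δX δY c) (hcf' : ShiftAt f' δP' δP c) {k : ℤ}
    {α : AlgebraicCycle Y ℤ} {γ : Fin (n + 2) → AlgebraicCycle Y ℤ}
    (hY : Cyc.IsSetup Y δY) (hX : Cyc.IsSetup X δX) (hPs : Cyc.IsSetup P δP) (hPs' : Cyc.IsSetup P' δP')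
    (hπ : Cyc.DeltaCompat π δP δY) (hπ' : Cyc.DeltaCompat π' δP' δX)
    (hB : ProjFibres n π O1) (hB' : ProjFibres n π' ((Scheme.Modules.pullback f').obj O1))
    (hinv : PicF.IsInvertible O1)
    (hγ : Cyc.IsChernCap π δY δP O1 (n + 1) k α γ) :
    Cyc.IsChernCap π' δX δP' ((Scheme.Modules.pullback f').obj O1) (n + 1) (k + c)
      (pullHom f hX hc' α) (fun j => pullHom f hX hc' (γ j)) := by
  obtain ⟨s, hs⟩ := exists_secFibre_family hinv
  let t : ℕ → (ξ : P) → Cyc.secFibre O1 ξ := fun _ => s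
  have ht : ∀ i ξ, t i ξ ≠ 0 := fun _ => hs
  haveI : Flat f' := MorphismProperty.of_isPullback hsq.flip inferInstance
  have hinv' := Amp73.isInvertible_pullback f' hinv
  let t' : ℕ → (ξ : P') → Cyc.secFibre ((Scheme.Modules.pullback f').obj O1) ξ :=
    fun _ => pullSec f' hinv s hs
  have ht' : ∀ i ξ, t' i ξ ≠ 0 := fun _ => pullSec_ne_zero f' hinv s hs
  have hswap : ∀ a : AlgebraicCycle Y ℤ, pullHom π' hPs' (shiftAt_of_fibres hB' hπ') (pullHom f hX hc' a) =
      pullHom f' hPs' hcf' (pullHom π hPs (shiftAt_of_fibres hB hπ) a) := fun a => by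
    refine DFunLike.coe_injective ?_
    have h1 := (pullFun_comp π' f hPs'.2.2 hX.2.2 (shiftAt_of_fibres hB' hπ') hc' (a : Y → ℤ)).2
    have h2 := (pullFun_comp f' π hPs'.2.2 hPs.2.2 hcf' (shiftAt_of_fibres hB hπ) (a : Y → ℤ)).2
    rw [add_comm (n : ℤ) c, hsq.w] at h2
    exact h1.symm.trans h2
  have hterm : ∀ (a : AlgebraicCycle Y ℤ) (i : ℕ),
      chTerm hB' hinv' hPs' hπ' t' ht' i (pullHom f hX hc' a) =
        pullHom f' hPs' hcf' (chTerm hB hinv hPs hπ t ht i a) := fun a i => by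
    induction i with
    | zero => exact hswap a
    | succ i ih =>
      show cap1 hPs' hinv' (t' i) (ht' i) (chTerm hB' hinv' hPs' hπ' t' ht' i (pullHom f hX hc' a)) =
        pullHom f' hPs' hcf' (cap1 hPs hinv s hs (chTerm hB hinv hPs hπ t ht i a))
      rw [ih, pullHom_cap1 f' hPs' hcf' hPs hinv s hs]
  refine isChernCap_of_chRel hB' hinv' hPs' hπ' t' ht' (congrArg _ hγ.1) (fun j => ?_) ?_
  · have := pullHom_mem f hX hc' (hγ.2.1 j)
    rwa [show k - ((j : ℕ) : ℤ) + c = k + c - ((j : ℕ) : ℤ) by ring] at this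
  · have h := pullHom_rat f' hPs' hcf' hPs (chRel_of_isChernCap hB hinv hPs hπ t ht hγ)
    rw [chRel, map_sum] at h
    rw [chRel, show k + c - 1 = k - 1 + c by ring]
    simp only [hterm]
    simpa only [map_zsmul] using h

include hsq in
/-- The pushforward of a Chern cap. -/
theorem isChernCap_map [IsProper f] [IsProper π] {k : ℤ} {α : AlgebraicCycle X ℤ}
    {γ : Fin (n + 2) → AlgebraicCycle X ℤ}
    (hY : Cyc.IsSetup Y δY) (hX : Cyc.IsSetup X δX) (hPs : Cyc.IsSetup P δP) (hPs' : Cyc.IsSetup P' δP')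
    (hf : Cyc.DeltaCompat f δX δY) (hπ : Cyc.DeltaCompat π δP δY) (hπ' : Cyc.DeltaCompat π' δP' δX)
    (hB : ProjFibres n π O1) (hB' : ProjFibres n π' ((Scheme.Modules.pullback f').obj O1))
    (hinv : PicF.IsInvertible O1)
    (hγ : Cyc.IsChernCap π' δX δP' ((Scheme.Modules.pullback f').obj O1) (n + 1) k α γ) :
    Cyc.IsChernCap π δY δP O1 (n + 1) k (mapHom f δX δY α) (fun j => mapHom f δX δY (γ j)) := by
  obtain ⟨s, hs⟩ := exists_secFibre_family hinv
  let t : ℕ → (ξ : P) → Cyc.secFibre O1 ξ := fun _ => s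
  have ht : ∀ i ξ, t i ξ ≠ 0 := fun _ => hs
  haveI : IsProper f' := MorphismProperty.of_isPullback hsq.flip inferInstance
  have hf' := deltaCompat_square_top hsq.w hf hπ hπ'
  have hinv' := Amp73.isInvertible_pullback f' hinv
  let t' : ℕ → (ξ : P') → Cyc.secFibre ((Scheme.Modules.pullback f').obj O1) ξ :=
    fun _ => pullSec f' hinv s hs
  have ht' : ∀ i ξ, t' i ξ ≠ 0 := fun _ => pullSec_ne_zero f' hinv s hs
  haveI := hPs.1
  refine isChernCap_of_chRel hB hinv hPs hπ t ht (congrArg _ hγ.1)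
    (fun j => mapHom_mem f (hγ.2.1 j)) ?_
  have h := mapHom_rat f' hPs' hPs hf' (chRel_of_isChernCap hB' hinv' hPs' hπ' t' ht' hγ)
  refine (mem_ratZ hPs).1 ?_
  rw [← sub_add_cancel (chRel hB hinv hPs hπ t ht fun j => mapHom f δX δY (γ j)) _]
  refine add_mem ?_ ((mem_ratZ hPs).2 h)
  rw [chRel, chRel, map_sum, ← Finset.sum_sub_distrib]
  refine sum_mem fun i _ => ?_
  rw [map_zsmul, ← smul_sub]
  refine zsmul_mem ?_ _
  have hm := mapHom_capPow f' hPs' hPs hf' hinv t' ht' t ht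
    (pullHom_mem π' hPs' (shiftAt_of_fibres hB' hπ') (hγ.2.1 (Fin.rev i))) (i : ℕ)
  rw [chRel_dim i] at hm
  have e := pull_map_square hsq hPs hPs' hf hf' (shiftAt_of_fibres hB hπ) (shiftAt_of_fibres hB' hπ')
    (γ (Fin.rev i))
  rw [chTerm, chTerm, AddMonoidHom.comp_apply, AddMonoidHom.comp_apply, e]
  have h' := neg_mem hm
  rw [neg_sub] at h'
  exact h'

/-- A first Chern cap applied to a Chern cap gives a Chern cap. -/
theorem isChernCap_cap1 {L : Y.Modules} (hY : Cyc.IsSetup Y δY) (hPs : Cyc.IsSetup P δP)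
    (hπ : Cyc.DeltaCompat π δP δY) (hB : ProjFibres n π O1) (hinv : PicF.IsInvertible O1)
    (hL : PicF.IsInvertible L) (v : (η : Y) → Cyc.secFibre L η) (hv : ∀ η, v η ≠ 0) {k : ℤ}
    {α : AlgebraicCycle Y ℤ} {γ : Fin (n + 2) → AlgebraicCycle Y ℤ}
    (hγ : Cyc.IsChernCap π δY δP O1 (n + 1) k α γ) :
    Cyc.IsChernCap π δY δP O1 (n + 1) (k - 1) (cap1 hY hL v hv α)
      (fun j => cap1 hY hL v hv (γ j)) := by
  obtain ⟨s, hs⟩ := exists_secFibre_family hinv
  let t : ℕ → (ξ : P) → Cyc.secFibre O1 ξ := fun _ => s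
  have ht : ∀ i ξ, t i ξ ≠ 0 := fun _ => hs
  have hc := shiftAt_of_fibres hB hπ
  let L' := (Scheme.Modules.pullback π).obj L
  have hL' : PicF.IsInvertible L' := Amp73.isInvertible_pullback π hL
  refine isChernCap_of_chRel hB hinv hPs hπ t ht (congrArg _ hγ.1) (fun j => ?_) ?_
  · exact cap1_mem hY hL v hv (by
      rw [show k - 1 - ((j : ℕ) : ℤ) + 1 = k - ((j : ℕ) : ℤ) by ring]; exact hγ.2.1 j)
  · refine (mem_ratZ hPs).1 ?_
    rw [← sub_add_cancel (chRel hB hinv hPs hπ t ht fun j => cap1 hY hL v hv (γ j))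
      (cap1 hPs hL' (pullSec π hL v hv) (pullSec_ne_zero π hL v hv) (chRel hB hinv hPs hπ t ht γ))]
    refine add_mem ?_ (cap1_rat hPs hL' _ _ ?_)
    · rw [chRel, chRel, map_sum, ← Finset.sum_sub_distrib]
      refine sum_mem fun i _ => ?_
      rw [map_zsmul, ← smul_sub]
      refine zsmul_mem ?_ _
      have hm := capPow_cap1_comm hPs hinv t ht hL' (pullSec π hL v hv) (pullSec_ne_zero π hL v hv)
        (k := k - 1 - ((Fin.rev i : Fin (n + 2)) : ℕ) + n) (α := pullHom π hPs hc (γ (Fin.rev i))) ?_ (i : ℕ)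
      · rw [chRel_dim i, ← pullHom_cap1 π hPs hc hY hL v hv] at hm
        exact hm
      · rw [show k - 1 - ((Fin.rev i : Fin (n + 2)) : ℕ) + (n : ℤ) + 1 =
          k - ((Fin.rev i : Fin (n + 2)) : ℕ) + n by ring]
        exact pullHom_mem π hPs hc (hγ.2.1 _)
    · rw [sub_add_cancel]; exact chRel_of_isChernCap hB hinv hPs hπ t ht hγ

end Groth.Agent.Cyc90.Dev
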