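import Groth.Agent.Cyc90.Dev.ChernFunct
import Groth.Agent.Cyc90.Dev.GrassBC
import Groth.Agent.Cyc90.GysinRat
import Groth.Agent.Cyc90.GysinBC
import Groth.Agent.Cyc90.PullClosed

/-! Chern caps commute with the Gysin map of a divisor. -/

set_option autoImplicit false
set_option backward.isDefEq.respectTransparency.types false
universe u

open CategoryTheory CategoryTheory.Limits AlgebraicGeometry TopologicalSpace Opposite IsLocalRing

noncomputable section

namespace Groth.Agent.Cyc90.Dev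

variable {X P D PD : Scheme.{u}}

/-- Zero schemes are insensitive to isomorphisms of the source. -/
lemma isZeroSchemeOf_precomp_iso {i : D ⟶ X} {L : X.Modules} {s : L.presheaf.obj (op ⊤)}
    (h : Cyc.IsZeroSchemeOf i L s) (e : PD ≅ D) : Cyc.IsZeroSchemeOf (e.hom ≫ i) L s := by
  refine ⟨?_, fun z => ?_⟩
  · rw [← h.1]
    refine Set.ext fun x => ⟨fun ⟨z, hz⟩ => ⟨e.hom z, hz⟩, fun ⟨d, hd⟩ => ⟨e.inv d, ?_⟩⟩
    rw [Scheme.Hom.comp_apply, ← Scheme.Hom.comp_apply e.inv e.hom, Iso.inv_hom_id]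
    exact hd
  · obtain ⟨t, f, h1, h2, h3⟩ := h.2 (e.hom z)
    refine ⟨t, f, h1, h2, ?_⟩
    rw [Scheme.Hom.stalkMap_comp]
    exact (RingHom.ker_comp_of_injective (i.stalkMap (e.hom z)).hom
      (ConcreteCategory.bijective_of_isIso (e.hom.stalkMap z)).1).trans h3

lemma pull_iso_apply {A B : Scheme.{u}} (e : A ≅ B) {δ : A → ℤ} (δ' : B → ℤ) (hd : ∀ z, δ z = δ' (e.hom z))
    (b : B → ℤ) (z : A) : Cyc.pullFun e.hom δ δ' 0 b z = b (e.hom z) := by
  have hlen : (maximalIdeal (B.presheaf.stalk (e.hom z))).map (e.hom.stalkMap z).hom = maximalIdeal _ :=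
    IsLocalRing.map_maximalIdeal_of_surjective _ (e.hom.stalkMap_surjective _)
  have : IsSimpleModule (A.presheaf.stalk z) (A.presheaf.stalk z ⧸ maximalIdeal (A.presheaf.stalk z)) :=
    isSimpleModule_iff_isCoatom.2 (Ideal.isMaximal_def.1 (maximalIdeal.isMaximal _))
  rw [Cyc.pullFun, if_pos ((hd z).trans (add_zero _).symm), hlen, Module.length_eq_one]
  simp

variable {δ : X → ℤ} {δP : P → ℤ} {p : P ⟶ X} {pD : PD ⟶ D} {i : D ⟶ X} {i' : PD ⟶ P}

/-- Flat pullback commutes with restriction to a closed subscheme, for a cartesian square. -/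
lemma pullFun_closed_square [IsClosedImmersion i] (hsq : IsPullback i' pD p i) (hPs : Cyc.IsSetup P δP)
    {c : ℤ} (hc : ShiftAt p δP δ c) (a : X → ℤ) (z : PD) :
    Cyc.pullFun p δP δ c a (i' z) =
      Cyc.pullFun pD (fun z => δP (i' z)) (fun d => δ (i d)) c (fun d => a (i d)) z := by
  let e := hsq.isoPullback
  have h1 : e.hom ≫ pullback.fst p i = i' := hsq.isoPullback_hom_fst
  have h2 : e.hom ≫ pullback.snd p i = pD := hsq.isoPullback_hom_snd
  let δ'' : ↑(pullback p i) → ℤ := fun z => δP (pullback.fst p i z)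
  have hd : ∀ y : PD, δP (i' y) = δ'' (e.hom y) := fun y => congrArg δP
    (by rw [← h1, Scheme.Hom.comp_apply])
  haveI : IsClosedImmersion i' := MorphismProperty.of_isPullback hsq.flip inferInstance
  have h := (pullFun_comp e.hom (pullback.snd p i) (isSetup_closedImmersion i' hPs).2.2
    (isSetup_closedImmersion (pullback.fst p i) hPs).2.2
    (δX := fun y => δP (i' y)) (c' := 0) (fun y _ => (hd y).trans (add_zero _).symm)
    (shiftAt_closed p i hc) (fun d => a (i d))).2
  rw [h2, add_zero] at h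
  rw [h, pull_iso_apply e δ'' hd, ← pullFun_closed]
  rw [← Scheme.Hom.comp_apply, h1]

section

variable (hX : Cyc.IsSetup X δ) {L : X.Modules} (hL : PicF.IsInvertible L) (s : L.presheaf.obj (op ⊤))
  (i : D ⟶ X) [IsClosedImmersion i] (w : (ξ : X) → Cyc.secFibre L ξ) (hw : ∀ ξ, w ξ ≠ 0)

/-- The Gysin map of a divisor with chosen sections, on all cycles. -/
def gysHom : AlgebraicCycle X ℤ →+ AlgebraicCycle D ℤ :=
  AddMonoidHom.mk' (fun α => restrictClosed i
    (cap1 hX hL (Cyc.gysinChoice L s w) (gysinChoice_ne_zero s w hw) α)) fun a b => by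
    ext d
    simp [restrictClosed_apply, map_add]

lemma gysHom_apply (α : AlgebraicCycle X ℤ) (d : D) :
    gysHom hX hL s i w hw α d = Cyc.c1CapFun δ L ⇑α (Cyc.gysinChoice L s w) (i d) := by
  rw [← coe_cap1 hX hL _ (gysinChoice_ne_zero s w hw) α]
  exact restrictClosed_apply _ _ _

lemma gysHom_mem {k : ℤ} {α : AlgebraicCycle X ℤ} (hα : α ∈ Cyc.Zk X δ (k + 1)) :
    gysHom hX hL s i w hw α ∈ Cyc.Zk D (fun d => δ (i d)) k :=
  restrict_gysin_mem i α hα _ _ (coe_cap1 hX hL _ _ α)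

end

/-- The Gysin images of a Chern cap form a Chern cap. -/
theorem isChernCap_gysin [IsClosedImmersion i] {n : ℕ} (hsq : IsPullback i' pD p i) [IsProper pD]
    [Flat pD] [Flat p] (hX : Cyc.IsSetup X δ) (hPs : Cyc.IsSetup P δP) (hδ : Cyc.DeltaCompat p δP δ)
    {O1 : P.Modules} (hB : ProjFibres n p O1) (hinv : PicF.IsInvertible O1)
    (hBD : ProjFibres n pD ((Scheme.Modules.pullback i').obj O1))
    {L : X.Modules} (hL : PicF.IsInvertible L) {s : L.presheaf.obj (op ⊤)} (hD : Cyc.IsZeroSchemeOf i L s)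
    (w : (ξ : X) → Cyc.secFibre L ξ) (hw : ∀ ξ, w ξ ≠ 0) {k : ℤ} {α : AlgebraicCycle X ℤ}
    {γ : Fin (n + 2) → AlgebraicCycle X ℤ} (hγ : Cyc.IsChernCap p δ δP O1 (n + 1) k α γ) :
    Cyc.IsChernCap pD (fun d => δ (i d)) (fun y => δP (i' y)) ((Scheme.Modules.pullback i').obj O1)
      (n + 1) (k - 1) (gysHom hX hL s i w hw α) (fun j => gysHom hX hL s i w hw (γ j)) := by
  haveI : IsClosedImmersion i' := MorphismProperty.of_isPullback hsq.flip inferInstance
  obtain ⟨s₀, hs₀⟩ := exists_secFibre_family hinv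
  let t : ℕ → (ξ : P) → Cyc.secFibre O1 ξ := fun _ => s₀
  have ht : ∀ i ξ, t i ξ ≠ 0 := fun _ => hs₀
  have hinv' := Amp73.isInvertible_pullback i' hinv
  let t' : ℕ → (ξ : PD) → Cyc.secFibre ((Scheme.Modules.pullback i').obj O1) ξ :=
    fun _ => pullSec i' hinv s₀ hs₀
  have ht' : ∀ i ξ, t' i ξ ≠ 0 := fun _ => pullSec_ne_zero i' hinv s₀ hs₀
  let L' := (Scheme.Modules.pullback p).obj L
  have hL' : PicF.IsInvertible L' := Amp73.isInvertible_pullback p hL
  let s' : L'.presheaf.obj (op ⊤) := Amp73.pullS p L ⊤ s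
  have hD' : Cyc.IsZeroSchemeOf i' L' s' := by
    have := isZeroSchemeOf_precomp_iso (isZeroSchemeOf_pullback p hL hD) hsq.isoPullback
    rwa [hsq.isoPullback_hom_fst] at this
  obtain ⟨w', hw'⟩ := exists_secFibre_family hL'
  let G := gysHom hX hL s i w hw
  let G' := gysHom hPs hL' s' i' w' hw'
  have hDs := isSetup_closedImmersion i hX
  have hPDs := isSetup_closedImmersion i' hPs
  have hδD : Cyc.DeltaCompat pD (fun y => δP (i' y)) (fun d => δ (i d)) :=
    deltaCompat_square i' i pD p hsq.w.symm hδ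
  have hterm : ∀ (m : ℕ) (k' : ℤ) (a : AlgebraicCycle X ℤ), a ∈ Cyc.Zk X δ k' →
      chTerm hBD hinv' hPDs hδD t' ht' m (G a) - G' (chTerm hB hinv hPs hδ t ht m a) ∈
        ratZ hPDs (k' + n - m - 1) := by
    intro m
    induction m with
    | zero =>
      intro k' a ha
      have hc := shiftAt_of_fibres hB hδ
      have hv := gysinChoice_ne_zero s w hw
      rw [Nat.cast_zero, sub_zero]
      show pullHom pD hPDs (shiftAt_of_fibres hBD hδD) (G a) - G' (pullHom p hPs hc a) ∈ _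
      refine ratEquiv_restrict_c1Cap hPs i' hL' (k' + n - 1) (pullHom p hPs hc a)
        (by rw [sub_add_cancel]; exact pullHom_mem p hPs hc ha) (pullSec p hL (Cyc.gysinChoice L s w) hv)
        (Cyc.gysinChoice L' s' w') (pullSec_ne_zero p hL _ hv) (gysinChoice_ne_zero s' w' hw')
        (fun ξ hξ x => ?_) _ _ (fun z => ?_) (fun z => gysHom_apply hPs hL' s' i' w' hw' _ z)
      · have hfξ : p ξ ∉ Set.range i := fun ⟨d, hd⟩ => hξ (by
          have hr : ξ ∈ Set.range (pullback.fst p i) := by rw [Scheme.Pullback.range_fst]; exact ⟨d, hd⟩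
          obtain ⟨z, hz⟩ := hr
          refine ⟨hsq.isoPullback.inv z, ?_⟩
          rw [← hz, ← Scheme.Hom.comp_apply, hsq.isoPullback_inv_fst])
        rw [pullSec_eq_germ p hL _ hv s ξ (gysinChoice_of_notMem hD w hfξ), gysinChoice_of_notMem hD' w' hξ]
      · rw [coe_pullHom, coe_pullHom]
        have h1 := congrArg (fun b : AlgebraicCycle P ℤ => b (i' z))
          (pullHom_cap1 p hPs hc hX hL (Cyc.gysinChoice L s w) hv a)
        simp only [coe_cap1, coe_pullHom] at h1
        rw [pullFun_closed_square hsq hPs hc] at h1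
        refine Eq.trans ?_ h1
        exact congrArg (fun b => Cyc.pullFun pD (fun y => δP (i' y)) (fun d => δ (i d)) n b z)
          (funext fun d => gysHom_apply hX hL s i w hw a d)
    | succ m ih =>
      intro k' a ha
      have e : k' + n - ((m + 1 : ℕ) : ℤ) - 1 + 1 = k' + n - m - 1 := by push_cast; ring
      show cap1 hPDs hinv' (t' m) (ht' m) (chTerm hBD hinv' hPDs hδD t' ht' m (G a)) -
        G' (cap1 hPs hinv (t m) (ht m) (chTerm hB hinv hPs hδ t ht m a)) ∈ _
      rw [← sub_add_sub_cancel _ (cap1 hPDs hinv' (t' m) (ht' m) (G' (chTerm hB hinv hPs hδ t ht m a))) _,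
        ← map_sub]
      refine add_mem (cap1_rat hPDs hinv' _ _ (by rw [e]; exact ih k' a ha)) ?_
      have h := ratEquiv_gysin_c1Cap hPs hL' hinv s' i' hD' (k' + n - m)
        (chTerm hB hinv hPs hδ t ht m a) (chTerm_mem hB hinv hPs hδ t ht ha m) w' hw' (t m) (ht m)
        (t' m) (ht' m) _ (coe_cap1 hPs hinv _ (ht m) _) _ rfl
        (G' (cap1 hPs hinv (t m) (ht m) (chTerm hB hinv hPs hδ t ht m a)))
        (cap1 hPDs hinv' (t' m) (ht' m) (G' (chTerm hB hinv hPs hδ t ht m a)))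
        (fun z => gysHom_apply hPs hL' s' i' w' hw' _ z)
        (by
          rw [coe_cap1]
          exact congrArg (fun b => Cyc.c1CapFun (fun z => δP (i' z)) _ b (t' m)) (funext fun z => gysHom_apply hPs hL' s' i' w' hw' _ z))
      rw [show k' + n - ((m + 1 : ℕ) : ℤ) - 1 = k' + n - m - 2 by push_cast; ring]
      have h2 := neg_mem ((mem_ratZ hPDs).2 h)
      rw [neg_sub] at h2
      exact h2
  refine isChernCap_of_chRel hBD hinv' hPDs hδD t' ht' (congrArg _ hγ.1) (fun j => ?_) ?_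
  · refine gysHom_mem hX hL s i w hw ?_
    rw [show k - 1 - ((j : ℕ) : ℤ) + 1 = k - ((j : ℕ) : ℤ) by ring]
    exact hγ.2.1 j
  · refine (mem_ratZ hPDs).1 ?_
    rw [← sub_add_cancel (chRel hBD hinv' hPDs hδD t' ht' fun j => G (γ j))
      (G' (chRel hB hinv hPs hδ t ht γ))]
    refine add_mem ?_ ?_
    · rw [chRel, chRel, map_sum, ← Finset.sum_sub_distrib]
      refine sum_mem fun l _ => ?_
      rw [map_zsmul, ← smul_sub]
      refine zsmul_mem ?_ _
      have := hterm (l : ℕ) _ _ (hγ.2.1 (Fin.rev l))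
      rwa [chRel_dim l] at this
    · refine ratEquivZero_gysin hPs hL' i' hD' ?_ w' hw' _ (fun z => gysHom_apply hPs hL' s' i' w' hw' _ z)
      rw [sub_add_cancel]
      exact chRel_of_isChernCap hB hinv hPs hδ t ht hγ

end Groth.Agent.Cyc90.Dev
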