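import Groth.Agent.Cyc90.Dev.ChowHom
import Groth.Agent.Cyc90.Dev.BundleUniv
import Groth.Prelude.Def_ChowOps2

/-! The defining relation of Chern caps: independence, uniqueness and existence. -/

set_option autoImplicit false
set_option backward.isDefEq.respectTransparency.types false
universe u

open CategoryTheory AlgebraicGeometry TopologicalSpace

noncomputable section

namespace Groth.Agent.Cyc90.Dev

lemma exists_secFibre_family {X : Scheme.{u}} {L : X.Modules} (hL : PicF.IsInvertible L) :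
    ∃ s : (ξ : X) → Cyc.secFibre L ξ, ∀ ξ, s ξ ≠ 0 := by
  choose U hU e he using fun x => Mero90.exists_frame' hL x
  exact ⟨fun ξ => Submodule.Quotient.mk (L.presheaf.germ (U ξ) ξ (hU ξ) (e ξ)),
    fun ξ => mk_germ_frame_ne_zero (he ξ) (hU ξ)⟩

variable {X P : Scheme.{u}} {δ : X → ℤ} {δP : P → ℤ} {p : P ⟶ X} {O1 : P.Modules} {n : ℕ}
  (hX : Cyc.IsSetup X δ) (hB : ProjFibres n p O1) (hinv : PicF.IsInvertible O1)
  (hPs : Cyc.IsSetup P δP) (hδ : Cyc.DeltaCompat p δP δ)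

/-- `c₁(O(1))^i ∩ p^* a`. -/
def chTerm (t : ℕ → (ξ : P) → Cyc.secFibre O1 ξ) (ht : ∀ i ξ, t i ξ ≠ 0) (i : ℕ) :
    AlgebraicCycle X ℤ →+ AlgebraicCycle P ℤ :=
  (capPow hPs hinv t ht i).comp (pullHom p hPs (shiftAt_of_fibres hB hδ))

variable (t : ℕ → (ξ : P) → Cyc.secFibre O1 ξ) (ht : ∀ i ξ, t i ξ ≠ 0)

lemma coe_chTerm (i : ℕ) (a : AlgebraicCycle X ℤ) :
    ⇑(chTerm hB hinv hPs hδ t ht i a) = Cyc.c1PowFun δP O1 t i (Cyc.pullFun p δP δ (n : ℤ) ⇑a) :=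
  coe_capPow hPs hinv t ht _ i

lemma chTerm_mem {k : ℤ} {a : AlgebraicCycle X ℤ} (ha : a ∈ Cyc.Zk X δ k) (i : ℕ) :
    chTerm hB hinv hPs hδ t ht i a ∈ Cyc.Zk P δP (k + n - i) :=
  capPow_mem hPs hinv t ht (pullHom_mem p hPs _ ha) i

include hX in
lemma chTerm_rat [Flat p] {k : ℤ} {a : AlgebraicCycle X ℤ} (ha : Cyc.RatEquivZero δ k a) (i : ℕ) :
    Cyc.RatEquivZero δP (k + n - i) (chTerm hB hinv hPs hδ t ht i a) :=
  capPow_rat hPs hinv t ht (pullHom_rat p hPs _ hX ha) i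

lemma chTerm_indep (t' : ℕ → (ξ : P) → Cyc.secFibre O1 ξ) (ht' : ∀ i ξ, t' i ξ ≠ 0) {k : ℤ}
    {a : AlgebraicCycle X ℤ} (ha : a ∈ Cyc.Zk X δ k) (i : ℕ) :
    chTerm hB hinv hPs hδ t ht i a - chTerm hB hinv hPs hδ t' ht' i a ∈ ratZ hPs (k + n - i) :=
  capPow_indep hPs hinv t ht t' ht' (pullHom_mem p hPs _ ha) i

section Indep

variable [IsProper p] [Flat p]

include hX in
/-- The classes `c₁(O(1))^i ∩ p^* a_i` with `i ≤ n` are independent. -/
theorem chTerm_independent {k : ℤ} (a : Fin (n + 1) → AlgebraicCycle X ℤ)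
    (ha : ∀ i : Fin (n + 1), a i ∈ Cyc.Zk X δ (k + (i : ℕ)))
    (h : Cyc.RatEquivZero δP (k + n) (∑ i : Fin (n + 1), chTerm hB hinv hPs hδ t ht (i : ℕ) (a i))) :
    ∀ i : Fin (n + 1), Cyc.RatEquivZero δ (k + (i : ℕ)) (a i) := by
  classical
  suffices H : ∀ m : ℕ, ∀ i : Fin (n + 1), n ≤ (i : ℕ) + m → Cyc.RatEquivZero δ (k + (i : ℕ)) (a i) from
    fun i => H n i (by omega)
  intro m
  induction m using Nat.strong_induction_on with
  | _ m ih =>
  intro i0 hm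
  let s := n - (i0 : ℕ)
  have hk : k + n - (s : ℤ) = k + (i0 : ℕ) := by simp only [s]; omega
  let w : ℕ → ℕ → (ξ : P) → Cyc.secFibre O1 ξ := fun j m => if m < j then t m else t (m - j)
  have hw : ∀ j m ξ, w j m ξ ≠ 0 := fun j m ξ => by simp only [w]; split_ifs <;> exact ht _ _
  let T : AlgebraicCycle P ℤ →+ AlgebraicCycle X ℤ :=
    (mapHom p δP δ).comp (capPow hPs hinv t ht s)
  have hT : ∀ j : Fin (n + 1), T (chTerm hB hinv hPs hδ t ht (j : ℕ) (a j)) =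
      mapHom p δP δ (chTerm hB hinv hPs hδ (w j) (hw j) ((j : ℕ) + s) (a j)) := fun j =>
    congrArg (mapHom p δP δ) (capPow_comp hPs hinv t ht t ht (j : ℕ) _ (w j) (hw j)
      (fun m hm => if_pos hm) (fun m => (if_neg (by omega)).trans (by rw [Nat.add_sub_cancel_left])) s)
  have hrest : ∀ j ∈ Finset.univ.erase i0,
      T (chTerm hB hinv hPs hδ t ht (j : ℕ) (a j)) ∈ ratZ hX (k + (i0 : ℕ)) := fun j hj => by
    rw [hT]
    rcases lt_or_gt_of_ne (fun e => (Finset.mem_erase.1 hj).1 (Fin.ext e) : (j : ℕ) ≠ i0) with h' | h'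
    · rw [mapHom_apply, (map_cap_of_fibres hX hB hinv hPs hδ (ha j) (w j) (hw j)
        (fun m => Cyc.c1PowFun δP O1 (w j) m (Cyc.pullFun p δP δ n ⇑(a j))) rfl (fun _ => rfl)
        ((j : ℕ) + s) _ (coe_chTerm hB hinv hPs hδ _ (hw j) _ _)).1 (by omega)]
      exact zero_mem _
    · have h2 := chTerm_rat hX hB hinv hPs hδ (w j) (hw j) (ih (n - j) (by omega) j (by omega))
        ((j : ℕ) + s)
      refine mapHom_rat p hPs hX hδ ?_
      rwa [show k + (j : ℕ) + (n : ℤ) - (((j : ℕ) + s : ℕ) : ℤ) = k + (i0 : ℕ) by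
        push_cast; linarith [hk]] at h2
  have hmain : T (chTerm hB hinv hPs hδ t ht (i0 : ℕ) (a i0)) = a i0 := by
    rw [hT, mapHom_apply]
    exact (map_cap_of_fibres hX hB hinv hPs hδ (ha i0) (w i0) (hw i0)
      (fun m => Cyc.c1PowFun δP O1 (w i0) m (Cyc.pullFun p δP δ n ⇑(a i0))) rfl (fun _ => rfl)
      ((i0 : ℕ) + s) _ (coe_chTerm hB hinv hPs hδ _ (hw i0) _ _)).2 (by simp only [s]; omega)
  have htot : T (∑ i : Fin (n + 1), chTerm hB hinv hPs hδ t ht (i : ℕ) (a i)) ∈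
      ratZ hX (k + (i0 : ℕ)) :=
    mapHom_rat p hPs hX hδ (hk ▸ capPow_rat hPs hinv t ht h s)
  rw [map_sum, ← Finset.add_sum_erase _ _ (Finset.mem_univ i0), hmain,
    AddSubgroup.add_mem_cancel_right _ (sum_mem hrest)] at htot
  exact htot

end Indep

/-- The defining relation of the Chern caps. -/
def chRel (γ : Fin (n + 2) → AlgebraicCycle X ℤ) : AlgebraicCycle P ℤ :=
  ∑ i : Fin (n + 2), (-1 : ℤ) ^ (i : ℕ) • chTerm hB hinv hPs hδ t ht (i : ℕ) (γ (Fin.rev i))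

lemma chRel_apply (γ : Fin (n + 2) → AlgebraicCycle X ℤ) (y : P) :
    chRel hB hinv hPs hδ t ht γ y = ∑ i : Fin (n + 1 + 1), (-1 : ℤ) ^ (i : ℕ) *
      Cyc.c1PowFun δP O1 t i (Cyc.pullFun p δP δ (((n + 1 : ℕ) : ℤ) - 1) ⇑(γ (Fin.rev i))) y := by
  rw [chRel, cycle_sum_apply]
  refine Finset.sum_congr rfl fun i _ => ?_
  rw [Function.locallyFinsuppWithin.coe_zsmul, Pi.smul_apply, smul_eq_mul, coe_chTerm,
    show ((n + 1 : ℕ) : ℤ) - 1 = n by push_cast; ring]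

lemma chRel_sub (γ γ' : Fin (n + 2) → AlgebraicCycle X ℤ) :
    chRel hB hinv hPs hδ t ht (fun j => γ j - γ' j) =
      chRel hB hinv hPs hδ t ht γ - chRel hB hinv hPs hδ t ht γ' := by
  rw [chRel, chRel, chRel, ← Finset.sum_sub_distrib]
  exact Finset.sum_congr rfl fun i _ => by rw [map_sub, smul_sub]

lemma chRel_dim {k : ℤ} (i : Fin (n + 2)) :
    k - ((Fin.rev i : Fin (n + 2)) : ℕ) + n - ((i : ℕ) : ℤ) = k - 1 := by
  rw [Fin.val_rev]
  omega

/-- `IsChernCap` gives the relation for every choice of sections. -/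
lemma chRel_of_isChernCap {k : ℤ} {α : AlgebraicCycle X ℤ} {γ : Fin (n + 2) → AlgebraicCycle X ℤ}
    (hγ : Cyc.IsChernCap p δ δP O1 (n + 1) k α γ) :
    Cyc.RatEquivZero δP (k - 1) (chRel hB hinv hPs hδ t ht γ) :=
  hγ.2.2 t ht _ (chRel_apply hB hinv hPs hδ t ht γ)

include hB hinv hPs hδ in
/-- One choice of sections suffices for `IsChernCap`. -/
lemma isChernCap_of_chRel {k : ℤ} {α : AlgebraicCycle X ℤ} {γ : Fin (n + 2) → AlgebraicCycle X ℤ}
    (h0 : γ 0 = α) (hd : ∀ j : Fin (n + 2), γ j ∈ Cyc.Zk X δ (k - (j : ℕ)))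
    (h : Cyc.RatEquivZero δP (k - 1) (chRel hB hinv hPs hδ t ht γ)) :
    Cyc.IsChernCap p δ δP O1 (n + 1) k α γ := by
  refine ⟨h0, hd, fun t' ht' β hβ => ?_⟩
  rw [show β = chRel hB hinv hPs hδ t' ht' γ from DFunLike.coe_injective
    (funext fun y => (hβ y).trans (chRel_apply hB hinv hPs hδ t' ht' γ y).symm)]
  have hdiff : chRel hB hinv hPs hδ t' ht' γ - chRel hB hinv hPs hδ t ht γ ∈ ratZ hPs (k - 1) := by
    rw [chRel, chRel, ← Finset.sum_sub_distrib]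
    refine sum_mem fun i _ => ?_
    rw [← smul_sub]
    refine zsmul_mem ?_ _
    have := chTerm_indep hB hinv hPs hδ t' ht' t ht (hd (Fin.rev i)) (i : ℕ)
    rwa [chRel_dim i] at this
  exact (sub_add_cancel (chRel hB hinv hPs hδ t' ht' γ) _) ▸ add_mem hdiff ((mem_ratZ hPs).2 h)

section Unique

variable [IsProper p] [Flat p]

include hX hB hinv hPs hδ in
/-- Chern caps depend only on the class of the cycle. -/
theorem ratEquiv_chernCap {k : ℤ} {α α' : AlgebraicCycle X ℤ}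
    (h : Cyc.RatEquiv δ k α α') {γ γ' : Fin (n + 2) → AlgebraicCycle X ℤ}
    (hγ : Cyc.IsChernCap p δ δP O1 (n + 1) k α γ) (hγ' : Cyc.IsChernCap p δ δP O1 (n + 1) k α' γ')
    (j : Fin (n + 2)) : Cyc.RatEquiv δ (k - (j : ℕ)) (γ j) (γ' j) := by
  classical
  obtain ⟨s, hs⟩ := exists_secFibre_family hinv
  let t : ℕ → (ξ : P) → Cyc.secFibre O1 ξ := fun _ => s
  have ht : ∀ i ξ, t i ξ ≠ 0 := fun _ => hs
  let d : Fin (n + 2) → AlgebraicCycle X ℤ := fun j => γ j - γ' j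
  have hd0 : Cyc.RatEquivZero δ (k - ((0 : Fin (n + 2)) : ℕ)) (d 0) := by
    simp only [Fin.val_zero, Nat.cast_zero, sub_zero, d, hγ.1, hγ'.1]
    exact h
  have hrel : chRel hB hinv hPs hδ t ht d ∈ ratZ hPs (k - 1) := by
    rw [chRel_sub]
    exact sub_mem (chRel_of_isChernCap hB hinv hPs hδ t ht hγ)
      (chRel_of_isChernCap hB hinv hPs hδ t ht hγ')
  rw [chRel, Fin.sum_univ_castSucc, AddSubgroup.add_mem_cancel_right _ (zsmul_mem ((mem_ratZ hPs).2 ?_) _)] at hrel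
  swap
  · have := chTerm_rat hX hB hinv hPs hδ t ht hd0 (n + 1)
    rw [Fin.rev_last, Fin.val_last]
    rwa [show k - ((0 : Fin (n + 2)) : ℕ) + n - ((n + 1 : ℕ) : ℤ) = k - 1 by simp; ring] at this
  have hind := chTerm_independent hX hB hinv hPs hδ t ht (k := k - 1 - n)
    (fun i : Fin (n + 1) => (-1 : ℤ) ^ (i : ℕ) • d (Fin.rev i.castSucc)) (fun i => by
      have h2 : d (Fin.rev i.castSucc) ∈ zkSub δ (k - ((Fin.rev i.castSucc : Fin (n + 2)) : ℕ)) :=
        sub_mem (hγ.2.1 _) (hγ'.2.1 _)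
      rw [show k - 1 - n + ((i : ℕ) : ℤ) = k - ((Fin.rev i.castSucc : Fin (n + 2)) : ℕ) by
        rw [Fin.val_rev, Fin.val_castSucc]; omega]
      exact zsmul_mem h2 _) (by
      rw [sub_add_cancel]
      refine (mem_ratZ hPs).1 ?_
      simpa only [map_zsmul, Fin.val_castSucc] using hrel)
  rcases Fin.eq_zero_or_eq_succ j with rfl | ⟨j', rfl⟩
  · exact hd0
  · have h1 := hind (Fin.rev j')
    have e : Fin.rev (Fin.rev j').castSucc = j'.succ := by
      rw [← Fin.rev_succ, Fin.rev_rev]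
    rw [e] at h1
    have h2 : d j'.succ ∈ ratZ hX (k - ((j'.succ : Fin (n + 2)) : ℕ)) := by
      have h3 := zsmul_mem ((mem_ratZ hX).2 h1) ((-1 : ℤ) ^ ((Fin.rev j' : Fin (n + 1)) : ℕ))
      rw [smul_smul, ← pow_add, Even.neg_one_pow ⟨_, rfl⟩, one_smul] at h3
      rwa [show k - 1 - n + (((Fin.rev j' : Fin (n + 1)) : ℕ) : ℤ) =
        k - ((j'.succ : Fin (n + 2)) : ℕ) by rw [Fin.val_rev, Fin.val_succ]; omega] at h3
    exact h2

include hX hB hinv hPs hδ in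
/-- Chern caps exist. -/
theorem exists_chernCap {k : ℤ} {α : AlgebraicCycle X ℤ} (hα : α ∈ Cyc.Zk X δ k) :
    ∃ γ : Fin (n + 2) → AlgebraicCycle X ℤ, Cyc.IsChernCap p δ δP O1 (n + 1) k α γ := by
  classical
  obtain ⟨s, hs⟩ := exists_secFibre_family hinv
  let t : ℕ → (ξ : P) → Cyc.secFibre O1 ξ := fun _ => s
  have ht : ∀ i ξ, t i ξ ≠ 0 := fun _ => hs
  let β := chTerm hB hinv hPs hδ t ht (n + 1) α
  have hβ : β ∈ Cyc.Zk P δP (k - 1 - n + n) := by
    have := chTerm_mem hB hinv hPs hδ t ht hα (n + 1)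
    rwa [show k + n - ((n + 1 : ℕ) : ℤ) = k - 1 - n + n by push_cast; ring] at this
  obtain ⟨a, g, β', ha, hg0, hgs, hβ', hrat⟩ :=
    exists_span_of_fibres hX hB hinv hPs hδ (fun _ => t) (fun _ => ht) β hβ
  have hg : ∀ (i : Fin (n + 1)) (m : ℕ), g i m = ⇑(chTerm hB hinv hPs hδ t ht m (a i)) := by
    intro i m
    induction m with
    | zero => rw [hg0, coe_chTerm]; rfl
    | succ m ih =>
      rw [hgs, ih, coe_chTerm, coe_chTerm]
      rfl
  have e : β' = ∑ i : Fin (n + 1), chTerm hB hinv hPs hδ t ht (i : ℕ) (a i) := by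
    refine DFunLike.coe_injective (funext fun x => ?_)
    rw [hβ' x, cycle_sum_apply]
    exact Finset.sum_congr rfl fun i _ => congrFun (hg i i) x
  let c : Fin (n + 1) → AlgebraicCycle X ℤ := fun i => (-1 : ℤ) ^ (n + (i : ℕ)) • a i
  refine ⟨Fin.cons α fun j => c (Fin.rev j), isChernCap_of_chRel hB hinv hPs hδ t ht
    (Fin.cons_zero _ _) (fun j => ?_) ?_⟩
  · rcases Fin.eq_zero_or_eq_succ j with rfl | ⟨j', rfl⟩
    · simpa using hα
    · rw [Fin.cons_succ, show k - ((j'.succ : Fin (n + 2)) : ℕ) =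
        k - 1 - n + (((Fin.rev j' : Fin (n + 1)) : ℕ) : ℤ) by rw [Fin.val_rev, Fin.val_succ]; omega]
      exact zsmul_mem (K := zkSub δ _) (ha (Fin.rev j')) _
  · have h1 : ((-1 : ℤ) ^ (n + 1)) • (β - β') ∈ ratZ hPs (k - 1) := by
      refine zsmul_mem ?_ _
      have := hrat
      rw [sub_add_cancel] at this
      exact this
    rw [chRel, Fin.sum_univ_castSucc, Fin.rev_last, Fin.cons_zero, Fin.val_last]
    rw [smul_sub, e, Finset.smul_sum] at h1
    refine Eq.subst (motive := fun z => z ∈ ratZ hPs (k - 1)) ?_ h1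
    rw [sub_eq_add_neg, ← Finset.sum_neg_distrib, add_comm]
    refine congrArg (· + _) (Finset.sum_congr rfl fun i _ => ?_)
    rw [Fin.val_castSucc, Fin.rev_castSucc, Fin.cons_succ, Fin.rev_rev, map_zsmul, smul_smul, ← neg_smul]
    congr 1
    rw [← pow_add, show (i : ℕ) + (n + (i : ℕ)) = n + 2 * (i : ℕ) by ring]
    simp [pow_add, pow_mul]

end Unique

end Groth.Agent.Cyc90.Dev
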