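import Groth.Agent.Cyc90.Dev.RootVanish
import Groth.Agent.Cyc90.Dev.ChernOps
import Mathlib.RingTheory.Polynomial.Vieta
import Mathlib.Algebra.Polynomial.Eval.Coeff

/-! The Chern caps of a filtered bundle are the elementary symmetric functions of its roots. -/

set_option autoImplicit false
set_option backward.isDefEq.respectTransparency.types false
set_option synthInstance.maxHeartbeats 200000
universe u

open CategoryTheory CategoryTheory.Limits AlgebraicGeometry TopologicalSpace Opposite

noncomputable section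

namespace Groth.Agent.Cyc90.Dev

variable {X Y : Scheme.{u}} {δ : X → ℤ} {δY : Y → ℤ}

section Pull

variable (f : Y ⟶ X) [Flat f] (hY : Cyc.IsSetup Y δY) (hX : Cyc.IsSetup X δ) {c : ℤ} (hc : ShiftAt f δY δ c)

/-- Flat pullback on classes. -/
def pullAll : ChowAll hX →+ ChowAll hY :=
  DirectSum.toAddMonoid fun k => (DirectSum.of (Chow1 hY) (k + c)).comp
    (QuotientAddGroup.map _ _
      (((pullHom f hY hc).comp (zkSub δ k).subtype).codRestrict (zkSub δY (k + c))
        fun a => pullHom_mem f hY hc a.2)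
      fun _ ha => AddSubgroup.mem_addSubgroupOf.2 ((mem_ratZ hY).2
        (pullHom_rat f hY hc hX (AddSubgroup.mem_addSubgroupOf.1 ha))))

lemma pullAll_clk {k : ℤ} {α : AlgebraicCycle X ℤ} (ha : α ∈ zkSub δ k) :
    pullAll f hY hX hc (clk hX k α) = clk hY (k + c) (pullHom f hY hc α) := by
  rw [clk_of_mem hX ha, clk_of_mem hY (show pullHom f hY hc α ∈ zkSub δY (k + c) from pullHom_mem f hY hc ha),
    pullAll, DirectSum.toAddMonoid_of]
  rfl

lemma pullAll_lc1 {L : X.Modules} (hL : PicF.IsInvertible L) (x : ChowAll hX) :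
    pullAll f hY hX hc (opAct hX (lc1 hX L) x) =
      opAct hY (lc1 hY ((Scheme.Modules.pullback f).obj L)) (pullAll f hY hX hc x) := by
  obtain ⟨s, hs⟩ := c1End.exists_secFibre_family' hL
  have hL' := Amp73.isInvertible_pullback f hL
  suffices h : (pullAll f hY hX hc).comp (c1End hX L) =
      AddMonoidHom.comp (c1End hY ((Scheme.Modules.pullback f).obj L)) (pullAll f hY hX hc) from
    DFunLike.congr_fun h x
  refine chowAll_ext hX fun k α ha => ?_
  show pullAll f hY hX hc (c1End hX L (clk hX k α)) =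
    c1End hY _ (pullAll f hY hX hc (clk hX k α))
  rw [c1End_clk hX hL s hs ha, pullAll_clk f hY hX hc (cap1_mem_pred hX hL s hs ha),
    pullAll_clk f hY hX hc ha, pullHom_cap1 f hY hc hX hL s hs,
    c1End_clk hY hL' (pullSec f hL s hs) (pullSec_ne_zero f hL s hs) (pullHom_mem f hY hc ha),
    show k - 1 + c = k + c - 1 by ring]

lemma pullAll_esymm {ls : List X.Modules} (hls : ∀ L ∈ ls, PicF.IsInvertible L) :
    ∀ (j : ℕ) (x : ChowAll hX), pullAll f hY hX hc (opAct hX ((↑(ls.map (lc1 hX)) : Multiset _).esymm j) x) =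
      opAct hY ((↑(ls.map fun L => lc1 hY ((Scheme.Modules.pullback f).obj L)) : Multiset _).esymm j)
        (pullAll f hY hX hc x) := by
  induction ls with
  | nil =>
    intro j x
    rcases j with _ | j
    · simp only [List.map_nil, Multiset.coe_nil, Multiset.esymm, Multiset.powersetCard_zero_left,
        Multiset.map_singleton, Multiset.prod_zero, Multiset.sum_singleton, map_one]
      rfl
    · simp only [List.map_nil, Multiset.coe_nil, Multiset.esymm, Multiset.powersetCard_zero_right,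
        Multiset.map_zero, Multiset.sum_zero, map_zero]
      exact map_zero _
  | cons L ls ih =>
    intro j x
    have ih' := ih fun L' h' => hls L' (List.mem_cons_of_mem L h')
    rcases j with _ | j
    · simp only [Multiset.esymm, Multiset.powersetCard_zero_left, Multiset.map_singleton, Multiset.prod_zero,
        Multiset.sum_singleton, map_one]
      rfl
    · have hcons : ∀ {R : Type u} [CommRing R] (a : R) (s : Multiset R),
          (a ::ₘ s).esymm (j + 1) = s.esymm (j + 1) + a * s.esymm j := by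
        intro R _ a s
        simp only [Multiset.esymm, Multiset.powersetCard_cons, Multiset.map_add, Multiset.sum_add,
          Multiset.map_map, ← Multiset.sum_map_mul_left, Function.comp_def, Multiset.prod_cons]
      simp only [List.map_cons, ← Multiset.cons_coe]
      rw [hcons, hcons, map_add, map_add, map_mul, map_mul]
      show pullAll f hY hX hc (opAct hX _ x + opAct hX (lc1 hX L) (opAct hX _ x)) =
        opAct hY _ _ + opAct hY (lc1 hY _) (opAct hY _ _)
      rw [map_add, ih', pullAll_lc1 f hY hX hc (hls L List.mem_cons_self), ih']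

end Pull

variable (hX : Cyc.IsSetup X δ)

/-- Classes moved down by `j`. -/
def Lowers (j : ℕ) (a : opRing hX) : Prop :=
  ∀ (k : ℤ) (α : AlgebraicCycle X ℤ), α ∈ zkSub δ k →
    ∃ β ∈ zkSub δ (k - j), opAct hX a (clk hX k α) = clk hX (k - j) β

lemma Lowers.zero (j : ℕ) : Lowers hX j 0 := fun k α _ =>
  ⟨0, zero_mem _, by rw [map_zero, clk_zero]; rfl⟩

lemma Lowers.add {j : ℕ} {a b : opRing hX} (ha : Lowers hX j a) (hb : Lowers hX j b) : Lowers hX j (a + b) :=
  fun k α h => by
    obtain ⟨β, hβ, e⟩ := ha k α h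
    obtain ⟨β', hβ', e'⟩ := hb k α h
    refine ⟨β + β', add_mem hβ hβ', ?_⟩
    rw [map_add, clk_add hX hβ hβ', ← e, ← e']
    rfl

lemma Lowers.prod (ls : List X.Modules) (hls : ∀ L ∈ ls, PicF.IsInvertible L) :
    Lowers hX ls.length (ls.map (lc1 hX)).prod := by
  induction ls with
  | nil => exact fun k α h => ⟨α, by simpa using h, by simp⟩
  | cons L ls ih =>
    intro k α h
    obtain ⟨β, hβ, e⟩ := ih (fun L' h' => hls L' (List.mem_cons_of_mem L h')) k α h
    obtain ⟨s, hs⟩ := c1End.exists_secFibre_family' (hls L List.mem_cons_self)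
    have e1 : k - ((L :: ls).length : ℤ) = k - ls.length - 1 := by simp; ring
    rw [e1]
    refine ⟨_, cap1_mem_pred hX (hls L List.mem_cons_self) s hs hβ, ?_⟩
    rw [List.map_cons, List.prod_cons, map_mul]
    show c1End hX L (opAct hX _ _) = _
    rw [e, c1End_clk hX (hls L List.mem_cons_self) s hs hβ]

lemma lowers_esymm (ls : List X.Modules) (hls : ∀ L ∈ ls, PicF.IsInvertible L) (j : ℕ) :
    Lowers hX j ((↑(ls.map (lc1 hX)) : Multiset _).esymm j) := by
  rw [Multiset.esymm, ← Multiset.map_coe, Multiset.powersetCard_map, Multiset.map_map]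
  refine Multiset.sum_induction (Lowers hX j) _ (fun a b => Lowers.add hX) (Lowers.zero hX j) ?_
  intro a ha
  obtain ⟨s, hs, rfl⟩ := Multiset.mem_map.1 ha
  induction s using Quotient.inductionOn with
  | h l =>
    obtain ⟨h1, h2⟩ := Multiset.mem_powersetCard.1 hs
    have := Lowers.prod hX l fun L hL => hls L (Multiset.mem_coe.1 (Multiset.mem_of_le h1 hL))
    rw [show l.length = j from h2] at this
    exact this

lemma clk_exists_rep_esymm {ls : List X.Modules} (hls : ∀ L ∈ ls, PicF.IsInvertible L) {k : ℤ}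
    {α : AlgebraicCycle X ℤ} (ha : α ∈ zkSub δ k) (j : ℕ) :
    ∃ β ∈ zkSub δ (k - j), opAct hX ((↑(ls.map (lc1 hX)) : Multiset _).esymm j) (clk hX k α) =
      clk hX (k - j) β :=
  lowers_esymm hX ls hls j k α ha

/-- Products of differences, expanded. -/
lemma prod_sub_eq_sum {R : Type u} [CommRing R] (h : R) (s : Multiset R) :
    (s.map fun t => h - t).prod =
      ∑ j ∈ Finset.range (Multiset.card s + 1), (-1) ^ j * (s.esymm j * h ^ (Multiset.card s - j)) := by
  have e := congrArg (Polynomial.evalRingHom h) (Multiset.prod_X_sub_X_eq_sum_esymm s)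
  rw [map_multiset_prod, Multiset.map_map, map_sum] at e
  simpa [Function.comp_def] using e

variable {P : Scheme.{u}} {δP : P → ℤ} {p : P ⟶ X} {O1 : P.Modules} {n : ℕ}
  (hB : ProjFibres n p O1) (hinv : PicF.IsInvertible O1) (hPs : Cyc.IsSetup P δP)
  (hδ : Cyc.DeltaCompat p δP δ) [IsProper p] [Flat p]

include hX hB hinv hPs hδ in
/-- The Chern caps of a filtered bundle. -/
theorem chernCap_eq_esymm {E : X.Modules} {q : (Scheme.Modules.pullback p).obj E ⟶ O1} [Epi q]
    {ls : List X.Modules} (hE : HasFilt E ls) (hlen : ls.length = n + 1) {k : ℤ} {α : AlgebraicCycle X ℤ}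
    (hα : α ∈ zkSub δ k) {γ : Fin (n + 2) → AlgebraicCycle X ℤ}
    (hγ : Cyc.IsChernCap p δ δP O1 (n + 1) k α γ) (j : Fin (n + 2)) :
    clk hX (k - (j : ℕ)) (γ j) =
      opAct hX ((↑(ls.map (lc1 hX)) : Multiset _).esymm j) (clk hX k α) := by
  classical
  have hls := hE.isInvertible
  have hc := shiftAt_of_fibres hB hδ
  choose c hc1 hc2 using fun i : ℕ => clk_exists_rep_esymm hX hls hα i
  obtain ⟨s, hs⟩ := exists_secFibre_family hinv
  let t : ℕ → (ξ : P) → Cyc.secFibre O1 ξ := fun _ => s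
  have ht : ∀ i ξ, t i ξ ≠ 0 := fun _ => hs
  let c' : Fin (n + 2) → AlgebraicCycle X ℤ := Function.update (fun i => c i) 0 α
  have hc' : ∀ i : Fin (n + 2), c' i ∈ zkSub δ (k - (i : ℕ)) ∧ clk hX (k - (i : ℕ)) (c' i) =
      opAct hX ((↑(ls.map (lc1 hX)) : Multiset _).esymm i) (clk hX k α) := by
    intro i
    rcases eq_or_ne i 0 with rfl | hi
    · simp only [c', Function.update_self, Fin.val_zero, Nat.cast_zero, sub_zero, Multiset.esymm,
        Multiset.powersetCard_zero_left, Multiset.map_singleton, Multiset.prod_zero, Multiset.sum_singleton,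
        map_one]
      exact ⟨hα, rfl⟩
    · simp only [c', Function.update_of_ne hi]
      exact ⟨hc1 _, (hc2 _).symm⟩
  obtain ⟨β, hβ, hsupp, hcl⟩ := exists_supported_prod hPs (hE.pullback p) hinv q
    (show pullHom p hPs hc α ∈ zkSub δP (k + n) from pullHom_mem p hPs hc hα)
  have hβ0 : β = 0 := DFunLike.ext _ _ fun x => by
    by_contra h
    exact vanSet_of_epi hinv q x (hsupp x h)
  rw [hβ0, clk_zero, List.map_map] at hcl
  let S : Multiset (opRing hPs) := ↑(ls.map fun L => lc1 hPs ((Scheme.Modules.pullback p).obj L))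
  have hcard : Multiset.card S = n + 1 := by simp [S, hlen]
  have hprod : ((ls.map ((fun L => lc1 hPs O1 - lc1 hPs L) ∘ (Scheme.Modules.pullback p).obj)).prod) =
      (S.map fun t => lc1 hPs O1 - t).prod := by
    simp [S, List.map_map, Function.comp_def]
  rw [hprod, prod_sub_eq_sum, hcard, map_sum] at hcl
  have hmem : ∀ i : Fin (n + 2), chTerm hB hinv hPs hδ t ht (i : ℕ) (c' (Fin.rev i)) ∈ zkSub δP (k - 1) :=
    fun i => by
      have := chTerm_mem hB hinv hPs hδ t ht (hc' (Fin.rev i)).1 (i : ℕ)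
      rwa [chRel_dim i] at this
  have hcap : Cyc.IsChernCap p δ δP O1 (n + 1) k α c' := by
    refine isChernCap_of_chRel hB hinv hPs hδ t ht (Function.update_self _ _ _) (fun i => (hc' i).1) ?_
    refine (mem_ratZ hPs).1 ((clk_eq_zero_iff hPs (sum_mem fun i _ => zsmul_mem (hmem i) _)).1 ?_)
    have hsum : clk hPs (k - 1) (chRel hB hinv hPs hδ t ht c') = ∑ i : Fin (n + 2), (-1 : ℤ) ^ (i : ℕ) •
        opAct hPs (lc1 hPs O1 ^ (i : ℕ)) (opAct hPs (S.esymm (Fin.rev i : Fin (n + 2)))
          (clk hPs (k + n) (pullHom p hPs hc α))) := by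
      rw [chRel, clk_sum hPs Finset.univ _ fun i _ => zsmul_mem (hmem i) _]
      refine Finset.sum_congr rfl fun i _ => ?_
      rw [clk_zsmul hPs (hmem i), ← pullAll_clk p hPs hX hc hα, ← pullAll_esymm p hPs hX hc hls,
        ← (hc' (Fin.rev i)).2, pullAll_clk p hPs hX hc (hc' (Fin.rev i)).1,
        lc1_pow_clk hPs hinv t ht (pullHom_mem p hPs hc (hc' (Fin.rev i)).1) (i : ℕ), chRel_dim i]
      rfl
    show clk hPs (k - 1) (chRel hB hinv hPs hδ t ht c') = 0
    rw [hsum, ← Equiv.sum_comp Fin.revPerm]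
    have hfin : ∀ j : ℕ, opAct hPs ((-1) ^ j * (S.esymm j * lc1 hPs O1 ^ (n + 1 - j)))
        (clk hPs (k + n) (pullHom p hPs hc α)) = (-1 : ℤ) ^ j • opAct hPs (lc1 hPs O1 ^ (n + 1 - j))
          (opAct hPs (S.esymm j) (clk hPs (k + n) (pullHom p hPs hc α))) := fun j => by
      rw [show ((-1 : opRing hPs) ^ j) * (S.esymm j * lc1 hPs O1 ^ (n + 1 - j)) =
        ((-1 : ℤ) ^ j) • (lc1 hPs O1 ^ (n + 1 - j) * S.esymm j) by simp [zsmul_eq_mul, mul_comm], map_zsmul,
        map_mul]
      rfl
    have h0 : (∑ j ∈ Finset.range (n + 1 + 1), (-1 : ℤ) ^ j • opAct hPs (lc1 hPs O1 ^ (n + 1 - j))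
        (opAct hPs (S.esymm j) (clk hPs (k + n) (pullHom p hPs hc α)))) = 0 := by
      refine Eq.trans ?_ hcl.symm
      erw [AddMonoidHom.finsetSum_apply]
      exact Finset.sum_congr rfl fun j _ => (hfin j).symm
    rw [← Fin.sum_univ_eq_sum_range] at h0
    have h1 := congrArg (((-1 : ℤ) ^ (n + 1)) • ·) h0
    simp only [smul_zero, Finset.smul_sum, smul_smul] at h1
    refine Eq.trans ?_ h1
    refine Finset.sum_congr rfl fun i _ => ?_
    have hi : ((Fin.rev i : Fin (n + 2)) : ℕ) = n + 1 - (i : ℕ) := by rw [Fin.val_rev]; omega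
    rw [Fin.revPerm_apply, Fin.rev_rev, hi]
    congr 1
    rw [← pow_add, show n + 1 + (i : ℕ) = (n + 1 - (i : ℕ)) + ((i : ℕ) + (i : ℕ)) by omega,
      pow_add (-1 : ℤ) (n + 1 - (i : ℕ)), Even.neg_one_pow ⟨_, rfl⟩, mul_one]
  refine Eq.trans ?_ (hc' j).2
  refine (clk_eq_iff hX (hγ.2.1 j) (hc' j).1).2 (ratEquiv_chernCap hX hB hinv hPs hδ ?_ hγ hcap j)
  show Cyc.RatEquivZero _ _ (α - α)
  rw [sub_self]; exact (mem_ratZ hX).1 (zero_mem _)

end Groth.Agent.Cyc90.Dev
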