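import Groth.Agent.Cyc90.C1RatEquiv
import Groth.Agent.Cyc90.C1Pull
import Groth.Agent.Cyc90.C1Push
import Groth.Agent.Cyc90.PullRat
import Groth.Agent.Cyc90.RatPush
import Groth.Agent.Cyc90.MayerVietoris
import Groth.Agent.IntMult12.GraphPull

/-! Caps, pullback and pushforward as homomorphisms of the groups of cycles. -/

set_option autoImplicit false
set_option backward.isDefEq.respectTransparency.types false
universe u

open CategoryTheory AlgebraicGeometry TopologicalSpace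

noncomputable section

namespace Groth.Agent.Cyc90.Dev

variable {X Y : Scheme.{u}} {δ : X → ℤ}

lemma mem_Zk_of_ratEquivZero {k : ℤ} {α : AlgebraicCycle X ℤ} (h : Cyc.RatEquivZero δ k α) :
    α ∈ Cyc.Zk X δ k := by
  obtain ⟨ι, ξ, f, hd, -, -, hsum⟩ := h
  intro x hx
  rw [hsum]
  refine finsum_eq_zero_of_forall_eq_zero fun i => dif_neg fun hh => hx ?_
  have := hd i
  omega

/-- Cycles rationally equivalent to zero. -/
def ratZ (hX : Cyc.IsSetup X δ) (k : ℤ) : AddSubgroup (AlgebraicCycle X ℤ) where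
  carrier := {α | Cyc.RatEquivZero δ k α}
  zero_mem' := IntMult12.ratEquivZero_zero k
  add_mem' := ratEquivZero_add
  neg_mem' := ratEquivZero_neg hX

lemma mem_ratZ (hX : Cyc.IsSetup X δ) {k : ℤ} {α : AlgebraicCycle X ℤ} :
    α ∈ ratZ hX k ↔ Cyc.RatEquivZero δ k α := Iff.rfl

/-- The cycles of one dimension. -/
def zkSub (δ : X → ℤ) (k : ℤ) : AddSubgroup (AlgebraicCycle X ℤ) where
  carrier := Cyc.Zk X δ k
  zero_mem' := fun _ _ => rfl
  add_mem' := fun ha hb x hx => by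
    rw [Function.locallyFinsuppWithin.coe_add, Pi.add_apply, ha x hx, hb x hx, add_zero]
  neg_mem' := fun ha x hx => by
    rw [Function.locallyFinsuppWithin.coe_neg, Pi.neg_apply, ha x hx, neg_zero]

lemma ratZ_le_zkSub (hX : Cyc.IsSetup X δ) (k : ℤ) : ratZ hX k ≤ zkSub δ k :=
  fun _ h => mem_Zk_of_ratEquivZero h

section Cap

variable (hX : Cyc.IsSetup X δ) {L : X.Modules} (hL : PicF.IsInvertible L)
  (s : (ξ : X) → Cyc.secFibre L ξ) (hs : ∀ ξ, s ξ ≠ 0)

/-- Capping with the first Chern class, computed with chosen sections. -/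
def cap1 : AlgebraicCycle X ℤ →+ AlgebraicCycle X ℤ :=
  AddMonoidHom.mk' (fun α => (exists_c1CapCycle hX hL α s hs).choose) fun α β => by
    refine DFunLike.coe_injective ((exists_c1CapCycle hX hL (α + β) s hs).choose_spec.trans
      (Eq.trans ?_ (Function.locallyFinsuppWithin.coe_add _ _).symm))
    rw [(exists_c1CapCycle hX hL α s hs).choose_spec, (exists_c1CapCycle hX hL β s hs).choose_spec]
    funext x
    rw [c1CapFun_finsum_apply hX L s Finset.univ ![1, 1] ![α, β] _ x fun η _ => by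
      simp [Fin.sum_univ_two]]
    simp [Fin.sum_univ_two]

lemma coe_cap1 (α : AlgebraicCycle X ℤ) : ⇑(cap1 hX hL s hs α) = Cyc.c1CapFun δ L ⇑α s :=
  (exists_c1CapCycle hX hL α s hs).choose_spec

lemma cap1_mem {k : ℤ} {α : AlgebraicCycle X ℤ} (hα : α ∈ Cyc.Zk X δ (k + 1)) :
    cap1 hX hL s hs α ∈ Cyc.Zk X δ k := fun x hx => by
  rw [coe_cap1]
  refine finsum_eq_zero_of_forall_eq_zero fun ξ => ?_
  by_contra h
  have h2 := right_ne_zero_of_mul h
  unfold Cyc.secDivFun at h2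
  split_ifs at h2 with hh
  · have h1 : δ ξ = k + 1 := by_contra fun e => left_ne_zero_of_mul h (hα ξ e)
    omega
  · exact h2 rfl

lemma cap1_rat {k : ℤ} {α : AlgebraicCycle X ℤ} (h : Cyc.RatEquivZero δ (k + 1) α) :
    Cyc.RatEquivZero δ k (cap1 hX hL s hs α) :=
  ratEquivZero_c1Cap hX hL h s hs _ (coe_cap1 hX hL s hs α)

lemma cap1_indep {k : ℤ} {α : AlgebraicCycle X ℤ} (hα : α ∈ Cyc.Zk X δ (k + 1))
    (s' : (ξ : X) → Cyc.secFibre L ξ) (hs' : ∀ ξ, s' ξ ≠ 0) :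
    cap1 hX hL s hs α - cap1 hX hL s' hs' α ∈ ratZ hX k :=
  ratEquiv_of_c1CapFun hX hL k α hα s s' (fun ξ _ => hs ξ) (fun ξ _ => hs' ξ) _ _
    (coe_cap1 hX hL s hs α) (coe_cap1 hX hL s' hs' α)

lemma cap1_comm {M : X.Modules} (hM : PicF.IsInvertible M) (v : (ξ : X) → Cyc.secFibre M ξ)
    (hv : ∀ ξ, v ξ ≠ 0) {k : ℤ} {α : AlgebraicCycle X ℤ} (hα : α ∈ Cyc.Zk X δ (k + 2)) :
    cap1 hX hL s hs (cap1 hX hM v hv α) - cap1 hX hM v hv (cap1 hX hL s hs α) ∈ ratZ hX k :=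
  ratEquiv_c1Cap_comm hX hL hM α hα s s v v hs hs hv hv _ _
    (by rw [coe_cap1, coe_cap1]) (by rw [coe_cap1, coe_cap1])

end Cap

lemma cap1_congr (hX : Cyc.IsSetup X δ) {L : X.Modules} (hL : PicF.IsInvertible L)
    {s s' : (ξ : X) → Cyc.secFibre L ξ} (e : s = s') (hs : ∀ ξ, s ξ ≠ 0) (hs' : ∀ ξ, s' ξ ≠ 0)
    (α : AlgebraicCycle X ℤ) : cap1 hX hL s hs α = cap1 hX hL s' hs' α := by
  subst e; rfl

section Pow

variable (hX : Cyc.IsSetup X δ) {L : X.Modules} (hL : PicF.IsInvertible L)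
  (t : ℕ → (ξ : X) → Cyc.secFibre L ξ) (ht : ∀ i ξ, t i ξ ≠ 0)

/-- Iterated caps. -/
def capPow : ℕ → AlgebraicCycle X ℤ →+ AlgebraicCycle X ℤ
  | 0 => AddMonoidHom.id _
  | m + 1 => (cap1 hX hL (t m) (ht m)).comp (capPow m)

lemma capPow_zero (α : AlgebraicCycle X ℤ) : capPow hX hL t ht 0 α = α := rfl

lemma capPow_succ (m : ℕ) (α : AlgebraicCycle X ℤ) :
    capPow hX hL t ht (m + 1) α = cap1 hX hL (t m) (ht m) (capPow hX hL t ht m α) := rfl

lemma coe_capPow (α : AlgebraicCycle X ℤ) :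
    ∀ m, ⇑(capPow hX hL t ht m α) = Cyc.c1PowFun δ L t m ⇑α
  | 0 => rfl
  | m + 1 => by rw [capPow_succ, coe_cap1, coe_capPow α m]; rfl

lemma capPow_mem {k : ℤ} {α : AlgebraicCycle X ℤ} (hα : α ∈ Cyc.Zk X δ k) :
    ∀ m : ℕ, capPow hX hL t ht m α ∈ Cyc.Zk X δ (k - m)
  | 0 => by rw [capPow_zero, Nat.cast_zero, sub_zero]; exact hα
  | m + 1 => cap1_mem hX hL (t m) (ht m) (by
      rw [show k - ((m + 1 : ℕ) : ℤ) + 1 = k - m by push_cast; ring]
      exact capPow_mem hα m)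

lemma capPow_rat {k : ℤ} {α : AlgebraicCycle X ℤ} (hα : Cyc.RatEquivZero δ k α) :
    ∀ m : ℕ, Cyc.RatEquivZero δ (k - m) (capPow hX hL t ht m α)
  | 0 => by rw [capPow_zero, Nat.cast_zero, sub_zero]; exact hα
  | m + 1 => cap1_rat hX hL (t m) (ht m) (by
      rw [show k - ((m + 1 : ℕ) : ℤ) + 1 = k - m by push_cast; ring]
      exact capPow_rat hα m)

lemma capPow_indep (t' : ℕ → (ξ : X) → Cyc.secFibre L ξ) (ht' : ∀ i ξ, t' i ξ ≠ 0) {k : ℤ}
    {α : AlgebraicCycle X ℤ} (hα : α ∈ Cyc.Zk X δ k) :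
    ∀ m : ℕ, capPow hX hL t ht m α - capPow hX hL t' ht' m α ∈ ratZ hX (k - m)
  | 0 => by rw [capPow_zero, capPow_zero, sub_self]; exact zero_mem _
  | m + 1 => by
    rw [capPow_succ, capPow_succ]
    have e : k - ((m + 1 : ℕ) : ℤ) + 1 = k - m := by push_cast; ring
    rw [← sub_add_sub_cancel _ (cap1 hX hL (t m) (ht m) (capPow hX hL t' ht' m α)) _, ← map_sub]
    exact add_mem (cap1_rat hX hL (t m) (ht m) (by rw [e]; exact capPow_indep t' ht' hα m))
      (cap1_indep hX hL _ _ (by rw [e]; exact capPow_mem hX hL t' ht' hα m) _ _)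

lemma capPow_comp (u : ℕ → (ξ : X) → Cyc.secFibre L ξ) (hu : ∀ i ξ, u i ξ ≠ 0) (i : ℕ)
    (α : AlgebraicCycle X ℤ) (w : ℕ → (ξ : X) → Cyc.secFibre L ξ) (hw : ∀ i ξ, w i ξ ≠ 0)
    (h1 : ∀ m, m < i → w m = t m) (h2 : ∀ m, w (i + m) = u m) :
    ∀ s, capPow hX hL u hu s (capPow hX hL t ht i α) = capPow hX hL w hw (i + s) α := by
  intro s
  induction s with
  | zero =>
    have : ∀ m, m ≤ i → capPow hX hL t ht m α = capPow hX hL w hw m α := by
      intro m
      induction m with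
      | zero => exact fun _ => rfl
      | succ m ih =>
        intro hm
        rw [capPow_succ, capPow_succ, ih (by omega)]
        exact cap1_congr hX hL (h1 m (by omega)).symm _ _ _
    exact this i le_rfl
  | succ s ih =>
    rw [capPow_succ, ih]
    show _ = cap1 hX hL (w (i + s)) (hw (i + s)) _
    exact cap1_congr hX hL (h2 s).symm _ _ _

lemma capPow_cap1_comm {M : X.Modules} (hM : PicF.IsInvertible M) (v : (ξ : X) → Cyc.secFibre M ξ)
    (hv : ∀ ξ, v ξ ≠ 0) {k : ℤ} {α : AlgebraicCycle X ℤ} (hα : α ∈ Cyc.Zk X δ (k + 1)) :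
    ∀ m : ℕ, capPow hX hL t ht m (cap1 hX hM v hv α) -
      cap1 hX hM v hv (capPow hX hL t ht m α) ∈ ratZ hX (k - m)
  | 0 => by rw [capPow_zero, capPow_zero, sub_self]; exact zero_mem _
  | m + 1 => by
    rw [capPow_succ, capPow_succ]
    have e : k - ((m + 1 : ℕ) : ℤ) + 1 = k - m := by push_cast; ring
    rw [← sub_add_sub_cancel _
      (cap1 hX hL (t m) (ht m) (cap1 hX hM v hv (capPow hX hL t ht m α))) _, ← map_sub]
    exact add_mem (cap1_rat hX hL (t m) (ht m) (by rw [e]; exact capPow_cap1_comm hM v hv hα m))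
      (cap1_comm hX hL (t m) (ht m) hM v hv (by
        rw [show k - ((m + 1 : ℕ) : ℤ) + 2 = k + 1 - m by push_cast; ring]
        exact capPow_mem hX hL t ht hα m))

end Pow

section Pull

variable {δY : Y → ℤ} (f : X ⟶ Y) (hX : Cyc.IsSetup X δ) {c : ℤ} (hc : ShiftAt f δ δY c)

/-- Flat pullback of cycles. -/
def pullHom : AlgebraicCycle Y ℤ →+ AlgebraicCycle X ℤ :=
  AddMonoidHom.mk' (fun α => pullCycle f hX hc α) fun α β => by
    refine DFunLike.coe_injective (funext fun x => ?_)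
    rw [Function.locallyFinsuppWithin.coe_add, Pi.add_apply]
    show Cyc.pullFun f δ δY c ⇑(α + β) x = Cyc.pullFun f δ δY c ⇑α x + Cyc.pullFun f δ δY c ⇑β x
    unfold Cyc.pullFun
    split_ifs
    · rw [Function.locallyFinsuppWithin.coe_add, Pi.add_apply, add_mul]
    · rw [add_zero]

lemma coe_pullHom (α : AlgebraicCycle Y ℤ) : ⇑(pullHom f hX hc α) = Cyc.pullFun f δ δY c ⇑α := rfl

lemma pullHom_mem {k : ℤ} {α : AlgebraicCycle Y ℤ} (hα : α ∈ Cyc.Zk Y δY k) :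
    pullHom f hX hc α ∈ Cyc.Zk X δ (k + c) := pullCycle_mem f hX hc hα

lemma pullHom_rat [Flat f] (hY : Cyc.IsSetup Y δY) {k : ℤ} {α : AlgebraicCycle Y ℤ}
    (h : Cyc.RatEquivZero δY k α) : Cyc.RatEquivZero δ (k + c) (pullHom f hX hc α) :=
  ratEquivZero_pullFun hX hY f hc h _ rfl

lemma pullHom_cap1 [Flat f] (hY : Cyc.IsSetup Y δY) {L : Y.Modules} (hL : PicF.IsInvertible L)
    (v : (η : Y) → Cyc.secFibre L η) (hv : ∀ η, v η ≠ 0) (α : AlgebraicCycle Y ℤ) :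
    pullHom f hX hc (cap1 hY hL v hv α) =
      cap1 hX (Amp73.isInvertible_pullback f hL) (pullSec f hL v hv) (pullSec_ne_zero f hL v hv)
        (pullHom f hX hc α) := by
  refine DFunLike.coe_injective ?_
  rw [coe_pullHom, coe_cap1, coe_cap1, pullFun_c1Cap f hX hY hc hL α v hv]
  rfl

end Pull

section Push

variable {δY : Y → ℤ} (f : X ⟶ Y) [IsProper f]

/-- Proper pushforward of cycles. -/
def mapHom (δ : X → ℤ) (δY : Y → ℤ) : AlgebraicCycle X ℤ →+ AlgebraicCycle Y ℤ :=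
  AddMonoidHom.ofMapSub (fun a => AlgebraicCycle.map f δ δY a) (map_sub_cycle f)

lemma mapHom_apply (α : AlgebraicCycle X ℤ) : mapHom f δ δY α = AlgebraicCycle.map f δ δY α := rfl

lemma mapHom_rat (hX : Cyc.IsSetup X δ) (hY : Cyc.IsSetup Y δY) (hδ : Cyc.DeltaCompat f δ δY) {k : ℤ}
    {α : AlgebraicCycle X ℤ} (h : Cyc.RatEquivZero δ k α) :
    Cyc.RatEquivZero δY k (mapHom f δ δY α) :=
  ratEquivZero_map hX hY f hδ h

lemma mapHom_mem {k : ℤ} {α : AlgebraicCycle X ℤ} (hα : α ∈ Cyc.Zk X δ k) :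
    mapHom f δ δY α ∈ Cyc.Zk Y δY k := fun y hy => by
  rw [mapHom_apply, map_apply_eq]
  refine finsum_mem_eq_zero_of_forall_eq_zero fun x hx => ?_
  split_ifs with h
  · rw [hα x (fun e => hy (by rw [← show f x = y from hx, ← h]; exact e)), zero_mul]
  · rw [mul_zero]

lemma mapHom_capPow (hX : Cyc.IsSetup X δ) (hY : Cyc.IsSetup Y δY) (hδ : Cyc.DeltaCompat f δ δY)
    {L : Y.Modules} (hL : PicF.IsInvertible L)
    (t' : ℕ → (ξ : X) → Cyc.secFibre ((Scheme.Modules.pullback f).obj L) ξ) (ht' : ∀ i ξ, t' i ξ ≠ 0)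
    (t : ℕ → (η : Y) → Cyc.secFibre L η) (ht : ∀ i η, t i η ≠ 0) {k : ℤ} {α : AlgebraicCycle X ℤ}
    (hα : α ∈ Cyc.Zk X δ k) :
    ∀ m : ℕ, mapHom f δ δY (capPow hX (Amp73.isInvertible_pullback f hL) t' ht' m α) -
      capPow hY hL t ht m (mapHom f δ δY α) ∈ ratZ hY (k - m)
  | 0 => by rw [capPow_zero, capPow_zero, sub_self]; exact zero_mem _
  | m + 1 => by
    rw [capPow_succ, capPow_succ]
    have e : k - ((m + 1 : ℕ) : ℤ) + 1 = k - m := by push_cast; ring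
    rw [← sub_add_sub_cancel _ (cap1 hY hL (t m) (ht m)
      (mapHom f δ δY (capPow hX (Amp73.isInvertible_pullback f hL) t' ht' m α))) _, ← map_sub]
    exact add_mem
      (ratEquiv_map_c1Cap hX hY f hδ hL _ _
        (by rw [e]; exact capPow_mem hX _ t' ht' hα m) (t' m) (ht' m) (t m) (ht m) _
        (coe_cap1 hX _ _ _ _) _ (coe_cap1 hY hL _ _ _))
      (cap1_rat hY hL (t m) (ht m) (by rw [e]; exact mapHom_capPow hX hY hδ hL t' ht' t ht hα m))

end Push

end Groth.Agent.Cyc90.Dev
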