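import Groth.Agent.Cyc90.Dev.Filt
import Groth.Agent.KCohDev46.Main

/-! The class of a module is the class of its cycle. -/

set_option autoImplicit false
set_option backward.isDefEq.respectTransparency.types false
set_option linter.style.haveILetI false
universe u

open CategoryTheory CategoryTheory.Limits AlgebraicGeometry TopologicalSpace IsLocalRing

namespace Groth.Agent.Cyc90.Dev

open QC70

variable {X : Scheme.{u}} {δ : X → ℤ} {a k : ℤ}

/-- At a maximal point of its support the graded pieces are killed by the maximal ideal. -/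
lemma gr_killed [IsLocallyNoetherian X] (Y : Closeds X) {F : X.Modules} (hF : Coh.IsCoh F) {η : X}
    (hη : η ∈ (Y : Set X)) (hmax : ∀ y ∈ (Y : Set X), y ⤳ η → y = η) (n : ℕ) :
    ∀ r ∈ maximalIdeal (X.presheaf.stalk η),
      ∀ e : (gr (Scheme.IdealSheafData.vanishingIdeal Y) F n).presheaf.stalk η, r • e = 0 := by
  let I := Scheme.IdealSheafData.vanishingIdeal Y
  have hI : (I.support : Set X) = Y := Scheme.IdealSheafData.coe_support_vanishingIdeal Y
  obtain ⟨_, ⟨U, hU, rfl⟩, hηU, -⟩ :=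
    X.isBasis_affineOpens.exists_subset_of_mem_open (Set.mem_univ η) isOpen_univ
  haveI := (isCoh_powMod (I := I) hF n).1
  haveI := (isCoh_quot I (isCoh_powMod (I := I) hF n)).1
  letI : Algebra Γ(X, U) (X.presheaf.stalk η) := (X.presheaf.germ U η hηU).hom.toAlgebra
  let p := (hU.primeIdealOf ⟨η, hηU⟩).asIdeal
  haveI : IsLocalization.AtPrime (X.presheaf.stalk η) p := hU.isLocalization_stalk ⟨η, hηU⟩
  have hmem : ∀ (y : X) (hy : y ∈ U), y ∈ (Y : Set X) ↔
      I.ideal ⟨U, hU⟩ ≤ (hU.primeIdealOf ⟨y, hy⟩).asIdeal := fun y hy => by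
    rw [← hI]
    refine (I.mem_support_iff_of_mem (U := ⟨U, hU⟩) hy).trans ((Scheme.mem_zeroLocus_iff _ _ _).trans ?_)
    constructor
    · intro h c hc
      by_contra hne
      exact h c hc ((QCSupp72.mem_basicOpen_iff_notMem hU hy c).2 hne)
    · intro h c hc hb
      exact (QCSupp72.mem_basicOpen_iff_notMem hU hy c).1 hb (h hc)
  have hmin : p ∈ (I.ideal ⟨U, hU⟩).minimalPrimes := by
    refine ⟨⟨inferInstance, (hmem η hηU).1 hη⟩, fun q hq hqp => ?_⟩
    obtain ⟨y, hy, hyq⟩ := QCSupp72.range_primeIdealOf hU ⟨q, hq.1⟩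
    have hyY : y ∈ (Y : Set X) := (hmem y hy).2 (by rw [hyq]; exact hq.2)
    have hsp : y ⤳ η := by
      have h0 : hU.primeIdealOf ⟨y, hy⟩ ⤳ hU.primeIdealOf ⟨η, hηU⟩ :=
        (PrimeSpectrum.le_iff_specializes _ _).1 (by rw [hyq]; exact hqp)
      have h1 := h0.map hU.fromSpec.continuous
      rwa [hU.fromSpec_primeIdealOf, hU.fromSpec_primeIdealOf] at h1
    obtain rfl := hmax y hyY hsp
    exact le_of_eq (congrArg PrimeSpectrum.asIdeal hyq)
  have hrad : (I.ideal ⟨U, hU⟩).IsRadical := by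
    change ((Scheme.IdealSheafData.vanishingIdeal Y).ideal ⟨U, hU⟩).IsRadical
    rw [Scheme.IdealSheafData.vanishingIdeal_ideal]
    exact PrimeSpectrum.isRadical_vanishingIdeal _
  have hmap : (I.ideal ⟨U, hU⟩).map (algebraMap Γ(X, U) (X.presheaf.stalk η)) =
      maximalIdeal (X.presheaf.stalk η) := by
    rw [← IsLocalization.AtPrime.map_eq_maximalIdeal p (X.presheaf.stalk η),
      ← IsLocalization.AtPrime.radical_map_of_mem_minimalPrimes (A := X.presheaf.stalk η) p _ hmin,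
      ← IsLocalization.map_radical p.primeCompl, hrad.radical]
  intro r hr e
  obtain ⟨f, t, hηf, ht⟩ := stalk_exists_smul (isLocAt_of_isQuasicoherent (gr I F n) hU) hU hηU e
  refine (isUnit_germ hηf).smul_eq_zero.1 ?_
  rw [smul_comm, ht]
  have hle : (I.ideal ⟨U, hU⟩).map (algebraMap Γ(X, U) (X.presheaf.stalk η)) ≤
      LinearMap.ker (LinearMap.toSpanSingleton (X.presheaf.stalk η) _
        (germM (gr I F n) U η hηU t)) := by
    rw [Ideal.map_le_iff_le_comap]
    intro c hc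
    rw [Ideal.mem_comap, LinearMap.mem_ker, LinearMap.toSpanSingleton_apply]
    change X.presheaf.germ U η hηU c • _ = 0
    rw [← germM_smul, smul_quot_eq_zero I (powMod I F n) ⟨U, hU⟩ hc t, germM_zero]
  simpa using hle (hmap ▸ hr)

/-- Modules killed by the maximal ideal are classified by their length. -/
lemma nonempty_equiv_of_killed {R : Type*} [CommRing R] [IsLocalRing R] {A B : Type*}
    [AddCommGroup A] [Module R A] [AddCommGroup B] [Module R B]
    (hA : ∀ r ∈ maximalIdeal R, ∀ e : A, r • e = 0) (hB : ∀ r ∈ maximalIdeal R, ∀ e : B, r • e = 0)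
    (fA : Module.length R A ≠ ⊤) (hl : Module.length R A = Module.length R B) :
    Nonempty (A ≃ₗ[R] B) := by
  have fB : Module.length R B ≠ ⊤ := hl ▸ fA
  obtain ⟨hAN, -⟩ := isFiniteLength_iff_isNoetherian_isArtinian.1 (Module.length_ne_top_iff.1 fA)
  obtain ⟨hBN, -⟩ := isFiniteLength_iff_isNoetherian_isArtinian.1 (Module.length_ne_top_iff.1 fB)
  haveI : IsSimpleModule R (R ⧸ maximalIdeal R) :=
    isSimpleModule_iff_isCoatom.2 (IsLocalRing.maximalIdeal.isMaximal R).out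
  obtain ⟨m, ⟨eA⟩⟩ := KCohDev46.exists_pow_equiv (A := R ⧸ maximalIdeal R) hA
  obtain ⟨n, ⟨eB⟩⟩ := KCohDev46.exists_pow_equiv (A := R ⧸ maximalIdeal R) hB
  have key : ∀ p : ℕ, Module.length R (Fin p → R ⧸ maximalIdeal R) = p := fun p => by
    rw [Module.length_pi_of_fintype, Finset.sum_congr rfl fun _ _ => Module.length_eq_one R _]
    simp
  have e : (m : ℕ∞) = n := by rw [← key m, ← key n, eA.length_eq, eB.length_eq, hl]
  obtain rfl : m = n := by exact_mod_cast e
  exact ⟨eA.symm.trans eB⟩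

lemma killed_of_length_one {R : Type*} [CommRing R] [IsLocalRing R] {A : Type*} [AddCommGroup A]
    [Module R A] (h : Module.length R A = 1) : ∀ r ∈ maximalIdeal R, ∀ e : A, r • e = 0 := by
  intro r hr e
  haveI : IsSimpleModule R A := Module.length_eq_one_iff.1 h
  refine Module.mem_annihilator.1 ?_ e
  rw [IsLocalRing.eq_maximalIdeal (IsSimpleModule.annihilator_isMaximal (R := R) (M := A))]
  exact hr

/-- Locally finite functions on the points of dimension `k`. -/
structure IsCycFun (δ : X → ℤ) (k : ℤ) (α : X → ℤ) : Prop where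
  dim : ∀ x, α x ≠ 0 → δ x = k
  locFin : ∀ x : X, ∃ U : Set X, IsOpen U ∧ x ∈ U ∧ {ζ | α ζ ≠ 0 ∧ ζ ∈ U}.Finite

lemma IsCycFun.neg {α : X → ℤ} (h : IsCycFun δ k α) : IsCycFun δ k (-α) := by
  refine ⟨fun x hx => h.dim x (by simpa using hx), fun x => ?_⟩
  obtain ⟨U, hU, hxU, hf⟩ := h.locFin x
  exact ⟨U, hU, hxU, hf.subset fun ζ hζ => ⟨by simpa using hζ.1, hζ.2⟩⟩

lemma IsCycFun.cohLe_pos (hX : Cyc.IsSetup X δ) {α : X → ℤ} (h : IsCycFun δ k α) :
    Cyc.CohLe δ k (Cyc.cycleSheafPos α) := by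
  refine CycSh.cohLe_pos hX α (fun x => ?_) fun ζ hζ => h.dim ζ hζ.ne'
  obtain ⟨U, hU, hxU, hf⟩ := h.locFin x
  exact ⟨U, hU, hxU, hf.subset fun ζ hζ => ⟨hζ.1.ne', hζ.2⟩⟩

lemma IsCycFun.sheafFun_pos (hX : Cyc.IsSetup X δ) {α : X → ℤ} (h : IsCycFun δ k α) (x : X) :
    Cyc.sheafFun δ k (Cyc.cycleSheafPos α) x = if 0 < α x then α x else 0 :=
  CycSh.sheafFun_pos hX α (fun ζ hζ => h.dim ζ hζ.ne') x

lemma isCycFun_of_cycle {α : AlgebraicCycle X ℤ} (hα : α ∈ Cyc.Zk X δ k) : IsCycFun δ k ⇑α := by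
  refine ⟨fun x hx => by_contra fun h => hx (hα x h), fun x => ?_⟩
  obtain ⟨N, hN, hfin⟩ := α.supportLocallyFiniteWithinDomain' x trivial
  obtain ⟨U, hUN, hU, hxU⟩ := mem_nhds_iff.1 hN
  exact ⟨U, hU, hxU, hfin.subset fun ζ hζ => ⟨hUN hζ.2, hζ.1⟩⟩

theorem isCycFun_sheafFun (hX : Cyc.IsSetup X δ) {F : X.Modules} (hF : Cyc.CohLe δ k F) :
    IsCycFun δ k (Cyc.sheafFun δ k F) := by
  refine ⟨fun x hx => by_contra fun h => hx (if_neg h), fun x => ?_⟩
  obtain ⟨U, hU, hxU, -⟩ := exists_isAffineOpen_mem_and_subset (X := X) (x := x) (U := ⊤) trivial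
  refine ⟨U, U.2, hxU, (finite_top hX hF hU).subset fun ζ hζ => ?_⟩
  refine ⟨hζ.2, by_contra fun h => hζ.1 (if_neg h), ?_⟩
  by_contra hn
  exact hζ.1 (sheafFun_eq_zero (not_nontrivial_iff_subsingleton.1 hn))

lemma sheafFun_pos_eq (hX : Cyc.IsSetup X δ) {F : X.Modules} (hF : Cyc.CohLe δ k F) :
    Cyc.sheafFun δ k (Cyc.cycleSheafPos (Cyc.sheafFun δ k F)) = Cyc.sheafFun δ k F := by
  funext x
  rw [(isCycFun_sheafFun hX hF).sheafFun_pos hX]
  have : 0 ≤ Cyc.sheafFun δ k F x := by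
    unfold Cyc.sheafFun
    split_ifs
    · exact Int.natCast_nonneg _
    · exact le_refl _
  split_ifs <;> omega

lemma pos_killed (hX : Cyc.IsSetup X δ) {α : X → ℤ} (h : IsCycFun δ k α) {η : X} (hη : δ η = k) :
    ∀ r ∈ maximalIdeal (X.presheaf.stalk η),
      ∀ e : (Cyc.cycleSheafPos α).presheaf.stalk η, r • e = 0 := by
  classical
  haveI := hX.1
  refine coprod_killed ?_ fun j r hr e => ?_
  · intro x
    obtain ⟨U, hU, hxU, hf⟩ := h.locFin x
    refine ⟨U, hU, hxU, ?_⟩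
    have hf' : {ζ : {ζ : X // 0 < α ζ} | ζ.1 ∈ U}.Finite :=
      (hf.preimage Subtype.val_injective.injOn).subset fun ζ hζ => ⟨ζ.2.ne', hζ⟩
    refine (hf'.biUnion fun ζ _ => Set.finite_range fun m =>
      (⟨ζ, m⟩ : Σ ζ : {ζ : X // 0 < α ζ}, Fin (α ζ.1).toNat)).subset ?_
    rintro ⟨ζ, m⟩ ⟨y, hy, hyU⟩
    exact Set.mem_biUnion
      (show ζ.1 ∈ U from (CycSh.specializes_of_mem_support hy).mem_open hU hyU) ⟨m, rfl⟩
  · by_cases hs : η ∈ CohB1.support (Cyc.closureStructureSheaf j.1.1)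
    · have hsp := CycSh.specializes_of_mem_support hs
      have := eq_of_delta_le hX.2.2 hsp (by rw [h.dim _ j.1.2.ne', hη])
      exact killed_of_length_one (this ▸ CycSh.length_css j.1.1) r hr e
    · exact @Subsingleton.elim _ (notMem_support_iff.1 hs) _ _

/-- The class of a module is the class of its cycle. -/
theorem toK_eq_pos (hX : Cyc.IsSetup X δ) {F : X.Modules} (hF : Cyc.CohLe δ k F) (hka : k ≤ a) :
    Cyc.toK0CohQuot δ a (k - 1) F =
      Cyc.toK0CohQuot δ a (k - 1) (Cyc.cycleSheafPos (Cyc.sheafFun δ k F)) := by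
  haveI := hX.1
  haveI := hF.1.2
  let Y : Closeds X := ⟨CohB1.support F, isClosed_support F⟩
  let I := Scheme.IdealSheafData.vanishingIdeal Y
  have hI : CohB1.support F ⊆ (I.support : Set X) := by
    rw [Scheme.IdealSheafData.coe_support_vanishingIdeal]; exact subset_rfl
  rw [toK_eq_gr hF hI hka]
  obtain ⟨-, -, hG⟩ := cohLe_filt (I := I) hF hI
  have hα := isCycFun_sheafFun hX hF
  refine toK_eq_of_stalk_equiv hX hG (hα.cohLe_pos hX) hka fun η hη => ?_
  have hlen : Cyc.sheafFun δ k (grSC I F).X₃ η =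
      Cyc.sheafFun δ k (Cyc.cycleSheafPos (Cyc.sheafFun δ k F)) η := by
    rw [sheafFun_pos_eq hX hF, ← sheafFun_eq_gr hX hF hI]
  refine nonempty_equiv_of_killed ?_ (pos_killed hX hα hη) (length_top_ne_top hX hG hη) ?_
  · refine coprod_killed ((locFin_powMod hF.1 hI).mono fun j => support_quot_subset_left I _)
      fun j r hr e => ?_
    by_cases hs : η ∈ CohB1.support F
    · refine gr_killed Y hF.1 hs (fun y hy hyη => ?_) j.down r hr e
      exact eq_of_delta_le hX.2.2 hyη (by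
        rw [hη]; exact hF.2 y (not_subsingleton_iff_nontrivial.1 hy))
    · exact @Subsingleton.elim _ (notMem_support_iff.1 fun h => hs (support_gr j.down h)) _ _
  · obtain ⟨p, hp⟩ := ENat.ne_top_iff_exists.1 (length_top_ne_top hX hG hη)
    obtain ⟨q, hq⟩ := ENat.ne_top_iff_exists.1 (length_top_ne_top hX (hα.cohLe_pos hX) hη)
    simp only [Cyc.sheafFun, if_pos hη] at hlen ⊢
    rw [← hp, ← hq] at hlen ⊢
    simp only [ENat.toNat_natCast] at hlen
    exact_mod_cast hlen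

/-- Modules with the same cycle have the same class. -/
theorem toK_eq_of_sheafFun_eq (hX : Cyc.IsSetup X δ) {F G : X.Modules} (hF : Cyc.CohLe δ k F)
    (hG : Cyc.CohLe δ k G) (h : Cyc.sheafFun δ k F = Cyc.sheafFun δ k G) (hka : k ≤ a) :
    Cyc.toK0CohQuot δ a (k - 1) F = Cyc.toK0CohQuot δ a (k - 1) G := by
  rw [toK_eq_pos hX hF hka, toK_eq_pos hX hG hka, h]

/-- The class of a difference of modules is determined by the difference of cycles. -/
theorem toK_sub_eq (hX : Cyc.IsSetup X δ) {D D' : X.Modules} (hD : Cyc.CohLe δ k D)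
    (hD' : Cyc.CohLe δ k D') {γ : X → ℤ} (hγ : IsCycFun δ k γ)
    (h : ∀ x, Cyc.sheafFun δ k D x - Cyc.sheafFun δ k D' x = γ x) (hka : k ≤ a) :
    Cyc.toK0CohQuot δ a (k - 1) D - Cyc.toK0CohQuot δ a (k - 1) D' =
      Cyc.toK0CohQuot δ a (k - 1) (Cyc.cycleSheafPos γ) -
        Cyc.toK0CohQuot δ a (k - 1) (Cyc.cycleSheafNeg γ) := by
  have hP := hγ.cohLe_pos hX
  have hN : Cyc.CohLe δ k (Cyc.cycleSheafNeg γ) := hγ.neg.cohLe_pos hX
  have key := toK_eq_of_sheafFun_eq hX (cohLe_sum hD hN) (cohLe_sum hD' hP) (a := a) ?_ hka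
  · rw [toK_sum (cohLe_mono hD hka) (cohLe_mono hN hka),
      toK_sum (cohLe_mono hD' hka) (cohLe_mono hP hka)] at key
    rw [sub_eq_sub_iff_add_eq_add, key, add_comm]
  · funext x
    have e1 := congrFun (sheafFun_shortExact hX k _ (sumSC_shortExact D (Cyc.cycleSheafNeg γ))
      (cohLe_sum hD hN).1 (cohLe_sum hD hN).2) x
    have e2 := congrFun (sheafFun_shortExact hX k _ (sumSC_shortExact D' (Cyc.cycleSheafPos γ))
      (cohLe_sum hD' hP).1 (cohLe_sum hD' hP).2) x
    have e3 := hγ.sheafFun_pos hX x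
    have e4 : Cyc.sheafFun δ k (Cyc.cycleSheafNeg γ) x = if 0 < -γ x then -γ x else 0 :=
      hγ.neg.sheafFun_pos hX x
    simp only [sumSC, Pi.add_apply] at e1 e2
    rw [e1, e2, e3, e4]
    have := h x
    split_ifs <;> omega

end Groth.Agent.Cyc90.Dev
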