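import Groth.Agent.Cyc90.Dev.Graph
import Groth.Agent.Cyc90.CycleSheaf

/-! Locally finite sums of coherent modules. -/

set_option autoImplicit false
set_option backward.isDefEq.respectTransparency.types false
set_option linter.style.haveILetI false
universe u

open CategoryTheory CategoryTheory.Limits AlgebraicGeometry TopologicalSpace IsLocalRing

namespace Groth.Agent.Cyc90.Dev

open QC70

variable {X : Scheme.{u}} {δ : X → ℤ} {a k : ℤ} {κ : Type u}

/-- Supports are locally finite. -/
def LocFin (M : κ → X.Modules) : Prop :=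
  ∀ x : X, ∃ U : Set X, IsOpen U ∧ x ∈ U ∧ {j | (CohB1.support (M j) ∩ U).Nonempty}.Finite

lemma LocFin.mono {M N : κ → X.Modules} (h : LocFin M)
    (hsub : ∀ j, CohB1.support (N j) ⊆ CohB1.support (M j)) : LocFin N := fun x => by
  obtain ⟨U, hU, hxU, hf⟩ := h x
  exact ⟨U, hU, hxU, hf.subset fun j ⟨y, hy, hyU⟩ => ⟨y, hsub j hy, hyU⟩⟩

lemma LocFin.of_closure {M : κ → X.Modules} (ξ : κ → X)
    (hsub : ∀ j, CohB1.support (M j) ⊆ closure {ξ j})
    (hlf : ∀ x : X, ∃ U : Set X, IsOpen U ∧ x ∈ U ∧ {j | (closure {ξ j} ∩ U).Nonempty}.Finite) :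
    LocFin M := fun x => by
  obtain ⟨U, hU, hxU, hf⟩ := hlf x
  exact ⟨U, hU, hxU, hf.subset fun j ⟨y, hy, hyU⟩ => ⟨y, hsub j hy, hyU⟩⟩

lemma LocFin.finite {M : κ → X.Modules} (h : LocFin M) (x : X) :
    {j | Nontrivial ((M j).presheaf.stalk x)}.Finite := by
  obtain ⟨U, -, hxU, hf⟩ := h x
  exact hf.subset fun j hj => ⟨x, not_subsingleton_iff_nontrivial.2 hj, hxU⟩

lemma cohLe_coprod [IsLocallyNoetherian X] {M : κ → X.Modules} (hM : ∀ j, Cyc.CohLe δ a (M j))
    (hlf : LocFin M) : Cyc.CohLe δ a (∐ M) := by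
  refine ⟨CycSh.isCoh_coproduct M (fun j => (hM j).1) hlf, fun x hx => ?_⟩
  by_contra h
  exact not_subsingleton_iff_nontrivial.2 hx (CycSh.subsingleton_coprod_stalk M x fun j =>
    not_nontrivial_iff_subsingleton.1 fun hn => h ((hM j).2 x hn))

lemma stalk_coprod_ext (M : κ → X.Modules) (x : X) {e e' : (∐ M).presheaf.stalk x}
    (h : ∀ j, stalkMapM (coprojection M j) x e = stalkMapM (coprojection M j) x e') : e = e' := by
  classical
  obtain ⟨v, rfl⟩ := surjective_coprodStalkMap M x e
  obtain ⟨v', rfl⟩ := surjective_coprodStalkMap M x e'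
  congr 1
  refine DFunLike.ext _ _ fun j => ?_
  rw [← stalkMapM_coprojection_coprodStalkMap, h j, stalkMapM_coprojection_coprodStalkMap]

lemma map_coprojection {A B : κ → X.Modules} (f : ∀ j, A j ⟶ B j) (j : κ) :
    Limits.Sigma.map f ≫ coprojection B j = coprojection A j ≫ f j := by
  refine Sigma.hom_ext _ _ fun i => ?_
  rw [Sigma.ι_map_assoc]
  by_cases h : i = j
  · subst h; rw [ι_coprojection_self, reassoc_of% (ι_coprojection_self A i), Category.comp_id]
  · rw [ι_coprojection_ne B h, reassoc_of% (ι_coprojection_ne A h), comp_zero, zero_comp]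

/-- The sum of short complexes. -/
noncomputable def sumMap (S : κ → ShortComplex X.Modules) : ShortComplex X.Modules :=
  ShortComplex.mk (Limits.Sigma.map fun j => (S j).f) (Limits.Sigma.map fun j => (S j).g)
    (Sigma.hom_ext _ _ fun j => by
      rw [Sigma.ι_map_assoc, Sigma.ι_map, (S j).zero_assoc, zero_comp, comp_zero])

theorem sumMap_shortExact (S : κ → ShortComplex X.Modules) (hS : ∀ j, (S j).ShortExact) :
    (sumMap S).ShortExact := by
  haveI := fun j => (hS j).mono_f
  haveI := fun j => (hS j).epi_g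
  refine
    { exact := ShortComplex.exact_of_g_is_cokernel _
        (CokernelCofork.IsColimit.ofπ _ _
          (fun h w => Sigma.desc fun j => (hS j).gIsCokernel.desc (CokernelCofork.ofπ (Sigma.ι (fun j => (S j).X₂) j ≫ h) ?_))
          (fun h w => ?_) (fun h w m hm => ?_))
      mono_f := ?_
      epi_g := ?_ }
  · have := congrArg (Sigma.ι (fun j => (S j).X₁) j ≫ ·) w
    simp only [sumMap, Sigma.ι_map_assoc] at this
    exact this.trans comp_zero
  · refine Sigma.hom_ext _ _ fun j => ?_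
    simp only [sumMap, Sigma.ι_map_assoc, Sigma.ι_desc]
    exact Cofork.IsColimit.π_desc (hS j).gIsCokernel
  · refine Sigma.hom_ext _ _ fun j => ?_
    rw [Sigma.ι_desc]
    refine (cancel_epi (S j).g).1 ?_
    simp only [sumMap] at hm
    rw [← Sigma.ι_map_assoc (fun j => (S j).g), hm]
    symm
    exact Cofork.IsColimit.π_desc (hS j).gIsCokernel
  · refine mono_of_injective_stalkMapM _ fun x e e' he => stalk_coprod_ext _ x fun j => ?_
    refine injective_stalkMapM_of_mono (S j).f x ?_
    rw [← stalkMapM_comp, ← stalkMapM_comp, ← map_coprojection (fun j => (S j).f) j,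
      stalkMapM_comp, stalkMapM_comp]
    exact congrArg _ he
  · change Epi (Limits.Sigma.map fun j => (S j).g)
    refine ⟨fun p q h => Sigma.hom_ext _ _ fun j => (cancel_epi (S j).g).1 ?_⟩
    have := congrArg (Sigma.ι (fun j => (S j).X₂) j ≫ ·) h
    simpa using this

/-- A stalk of a sum is the product of finitely many stalks. -/
lemma exists_coprod_equiv {M : κ → X.Modules} {x : X} (S : Finset κ)
    (h0 : ∀ j, j ∉ S → Subsingleton ((M j).presheaf.stalk x)) :
    Nonempty ((∐ M).presheaf.stalk x ≃ₗ[X.presheaf.stalk x] ((j : S) → (M j.1).presheaf.stalk x)) := by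
  refine CycSh.exists_stalk_proj M (fun j : S => j.1) Subtype.val_injective x fun j hj => h0 j fun h => ?_
  exact hj ⟨⟨j, h⟩, rfl⟩

lemma coprod_killed {M : κ → X.Modules} (hlf : LocFin M) {x : X}
    (h : ∀ j, ∀ r ∈ maximalIdeal (X.presheaf.stalk x), ∀ e : (M j).presheaf.stalk x, r • e = 0) :
    ∀ r ∈ maximalIdeal (X.presheaf.stalk x), ∀ e : (∐ M).presheaf.stalk x, r • e = 0 := by
  intro r hr e
  obtain ⟨f⟩ := exists_coprod_equiv (M := M) (x := x) (hlf.finite x).toFinset fun j hj =>
    not_nontrivial_iff_subsingleton.1 fun hn => hj ((hlf.finite x).mem_toFinset.2 hn)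
  refine f.injective ?_
  rw [map_smul, map_zero]
  exact funext fun j => h j.1 r hr _

lemma sheafFun_eq_zero {F : X.Modules} {x : X} (h : Subsingleton (F.presheaf.stalk x)) :
    Cyc.sheafFun δ k F x = 0 := by
  unfold Cyc.sheafFun
  split_ifs
  · rw [Module.length_eq_zero]; rfl
  · rfl

theorem sheafFun_coprod (hX : Cyc.IsSetup X δ) {M : κ → X.Modules}
    (hM : ∀ j, Cyc.CohLe δ k (M j)) (hlf : LocFin M) (x : X) :
    Cyc.sheafFun δ k (∐ M) x = ∑ᶠ j, Cyc.sheafFun δ k (M j) x := by
  classical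
  let S := (hlf.finite x).toFinset
  have h0 : ∀ j, j ∉ S → Subsingleton ((M j).presheaf.stalk x) := fun j hj =>
    not_nontrivial_iff_subsingleton.1 fun hn => hj ((hlf.finite x).mem_toFinset.2 hn)
  rw [finsum_eq_sum_of_support_subset (s := S) _ fun j hj => by
    by_contra hn
    exact hj (sheafFun_eq_zero (h0 j hn))]
  simp only [Cyc.sheafFun]
  by_cases hx : δ x = k
  swap
  · simp [hx]
  simp only [if_pos hx]
  obtain ⟨e⟩ := exists_coprod_equiv S h0
  rw [e.length_eq, Module.length_pi_of_fintype, Finset.sum_coe_sort S fun j =>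
    Module.length (X.presheaf.stalk x) ((M j).presheaf.stalk x)]
  rw [ENat.toNat_sum fun j _ => length_top_ne_top hX (hM j) hx]
  push_cast
  rfl

end Groth.Agent.Cyc90.Dev
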