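import Groth.Agent.Cyc90.Dev.SplitPrinciple
import Groth.Agent.Amp73.Powers

/-! Facts on the first Chern operators used with the roots. -/

set_option autoImplicit false
set_option backward.isDefEq.respectTransparency.types false
set_option synthInstance.maxHeartbeats 200000
universe u

open CategoryTheory CategoryTheory.Limits AlgebraicGeometry TopologicalSpace Opposite

noncomputable section

namespace Groth.Agent.Cyc90.Dev

variable {X : Scheme.{u}} {δ : X → ℤ} (hX : Cyc.IsSetup X δ)

lemma lc1_structureModule : lc1 hX (Coh.structureModule X) = 0 :=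
  lc1_of_frame hX EGA73.isInvertible_structureModule (Amp73.isFrame_one (X := X) ⊤)

/-- The structure module stays trivial after pullback. -/
lemma lc1_pullback_structureModule {P : Scheme.{u}} (f : P ⟶ X) {δP : P → ℤ} (hP : Cyc.IsSetup P δP) :
    lc1 hP ((Scheme.Modules.pullback f).obj (Coh.structureModule X)) = 0 := by
  rw [lc1_iso hP (Amp73.isInvertible_pullback f EGA73.isInvertible_structureModule)
    EGA73.isInvertible_structureModule (PicLoc.pullbackStructureIso f), lc1_structureModule]

end Groth.Agent.Cyc90.Dev

namespace Groth.Agent.Cyc90.Dev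

lemma esymm_cons_zero {R : Type u} [CommRing R] (s : Multiset R) (j : ℕ) :
    ((0 : R) ::ₘ s).esymm j = s.esymm j := by
  rcases j with _ | j
  · rw [esymm_zero_right, esymm_zero_right]
  · rw [esymm_cons_succ, zero_mul, add_zero]

lemma rootsOp_append_single {X : Scheme.{u}} {δ : X → ℤ} (hX : Cyc.IsSetup X δ) (ls : List X.Modules)
    (L : X.Modules) : rootsOp hX (ls ++ [L]) = lc1 hX L ::ₘ rootsOp hX ls := by
  rw [rootsOp_append, add_comm]
  rfl

end Groth.Agent.Cyc90.Dev
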