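import Groth.Agent.Cyc90.Dev.FiltBasis
import Groth.Agent.Cyc90.Dev.RootFacts
import Groth.Agent.Om3.ExtPowFrames
import Groth.Agent.FBase64.ExtPow.Exists
import Groth.Agent.EGA73.Invertible
import Groth.Agent.FlatMor68.LocFree

/-! The determinant of a filtered module. -/

set_option autoImplicit false
set_option backward.isDefEq.respectTransparency.types false
set_option synthInstance.maxHeartbeats 200000
universe u

open CategoryTheory CategoryTheory.Limits AlgebraicGeometry TopologicalSpace Opposite exteriorPower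

noncomputable section

namespace Groth.Agent.Cyc90.Dev

open QC70 Props58.LocFree
open Var76.LineBundle (IsFrame)

variable {X : Scheme.{u}}

lemma isExtPow_zero {M : X.Modules} {ls : List X.Modules} (h : HasFilt M ls) (hls : ls = []) :
    ExtPow.IsExtPow 0 M (Coh.structureModule X) := by
  haveI := Props58.LocFree.isQuasicoherent_of_isFinLocFree h.isFinLocFree
  haveI := Props58.LocFree.isQuasicoherent_of_isFinLocFree
    (HasFilt.isFinLocFree_of_isInvertible (EGA73.isInvertible_structureModule (X := X)))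
  subst hls
  choose U s hx hs using h.exists_stalkBasis
  refine Om3.isExtPow_of_frames (fun x : X => U x) (fun x => ⟨x, hx x⟩) s hs
    (fun x => ((1 : Γ(X, U x)) : Γ(Coh.structureModule X, U x))) (fun x => Amp73.isFrame_one (X := X) (U x))
    fun i j => ⟨1, ?_, ?_⟩
  · rw [one_smul]
    exact congrArg _ (funext fun k : Fin 0 => k.elim0)
  · rw [one_smul]
    exact (map_one (X.presheaf.map (homOfLE (inf_le_right : U i ⊓ U j ≤ U j)).op).hom).trans
      (map_one (X.presheaf.map (homOfLE (inf_le_left : U i ⊓ U j ≤ U i)).op).hom).symm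

lemma isExtPow_one_self {L : X.Modules} (hL : PicF.IsInvertible L) : ExtPow.IsExtPow 1 L L := by
  haveI := Props58.LocFree.isQuasicoherent_of_isFinLocFree (HasFilt.isFinLocFree_of_isInvertible hL)
  choose U hx g hg using Mero90.exists_frame' hL
  refine Om3.isExtPow_of_frames U (fun x => ⟨x, hx x⟩) (fun x _ => g x) (fun x => ?_) g hg fun i j => ?_
  · refine Formal27.stalkBasis_of_bijective fun W hW => ?_
    have h := hg x W hW
    refine ⟨fun c c' e => funext fun i => ?_, fun y => ?_⟩
    · simp only [Fin.sum_univ_one] at e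
      rw [Fin.fin_one_eq_zero i]
      exact h.1 e
    · obtain ⟨c, hc⟩ := h.2 y
      exact ⟨fun _ => c, (Fin.sum_univ_one _).trans hc⟩
  · obtain ⟨c, hc⟩ := (hg i (U i ⊓ U j) inf_le_left).2 (res L inf_le_right (g j))
    have hc' : res L inf_le_right (g j) = c • res L inf_le_left (g i) := hc.symm
    refine ⟨c, ?_, hc'⟩
    have e := (ιMulti Γ(X, U i ⊓ U j) 1 (M := Γ(L, U i ⊓ U j))).map_update_smul
      (fun _ : Fin 1 => res L inf_le_left (g i)) 0 c (res L inf_le_left (g i))
    rw [show Function.update (fun _ : Fin 1 => res L (inf_le_left : U i ⊓ U j ≤ U i) (g i)) 0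
        (res L inf_le_left (g i)) = fun _ => res L inf_le_left (g i) from Function.update_eq_self _ _] at e
    refine Eq.trans (congrArg _ (funext fun k => ?_)) e
    rw [Fin.fin_one_eq_zero k, Function.update_self]
    exact hc'

/-- The top exterior power of a bundle is invertible. -/
lemma isInvertible_topExtPow {E D : X.Modules} {n : ℕ} (hE : FlatMod.IsFinLocFreeOfRank n E)
    (hD : ExtPow.IsExtPow n E D) : PicF.IsInvertible D := by
  haveI : E.IsQuasicoherent := Props58.LocFree.isQuasicoherent_of_isFinLocFree fun x => by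
    obtain ⟨U, hx, h⟩ := hE x
    exact ⟨U, n, hx, h⟩
  haveI := Om3.isQuasicoherent_of_isExtPow hD
  obtain ⟨ψ, -⟩ := Om3.exists_psi hD
  refine isInvertible_of_rank_one fun x => ?_
  obtain ⟨U, hU, hU'⟩ := Om3.DetSeq.exists_basis hE x
  obtain ⟨W, hW, hxW, hle⟩ := exists_isAffineOpen_mem_and_subset hU
  obtain ⟨b⟩ := hU' W hle
  let e₁ := LinearEquiv.ofBijective (LinearMap.toSpanSingleton Γ(X, W) _ (ιMulti Γ(X, W) n b))
    (Om3.DetSeq.bijective_smul_top b)
  exact ⟨W, hxW, FlatMor68.LocFree.restrict_iso_free D hW 1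
    ((ψ ⟨W, hW⟩).symm ≪≫ₗ e₁.symm ≪≫ₗ (LinearEquiv.funUnique (Fin 1) Γ(X, W) Γ(X, W)).symm)⟩

variable {δ : X → ℤ} (hX : Cyc.IsSetup X δ)

/-- The first Chern operator of the determinant is the sum of the roots. -/
theorem lc1_det {M : X.Modules} {ls : List X.Modules} (h : HasFilt M ls) :
    ∀ D : X.Modules, ExtPow.IsExtPow ls.length M D →
      PicF.IsInvertible D ∧ lc1 hX D = (rootsOp hX ls).esymm 1 := by
  induction h with
  | @zero M h0 =>
    intro D hD
    have hf : HasFilt M [] := .zero h0
    haveI := Props58.LocFree.isQuasicoherent_of_isFinLocFree hf.isFinLocFree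
    obtain ⟨e⟩ := Om3.nonempty_iso_of_isExtPow (isExtPow_zero hf rfl) hD
    have hinv := EGA73.isInvertible_of_iso e EGA73.isInvertible_structureModule
    refine ⟨hinv, ?_⟩
    rw [lc1_iso hX hinv EGA73.isInvertible_structureModule e.symm, lc1_structureModule]
    exact (esymm_zero_left 0).symm
  | @step M' M L ls a b w hs hL h' ih =>
    intro D hD
    have hf : HasFilt M (L :: ls) := .step a b w hs hL h'
    haveI := Props58.LocFree.isQuasicoherent_of_isFinLocFree h'.isFinLocFree
    haveI := Props58.LocFree.isQuasicoherent_of_isFinLocFree hf.isFinLocFree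
    haveI := Props58.LocFree.isQuasicoherent_of_isFinLocFree (HasFilt.isFinLocFree_of_isInvertible hL)
    obtain ⟨D', hD'⟩ := FBase64.ExtPowExists.exists_isExtPow (E := M') (p := ls.length)
    obtain ⟨hD'i, hD'c⟩ := ih D' hD'
    obtain ⟨e⟩ := Om3.DetSeq.nonempty_det_iso (f := a) (g := b) w hs h'.isFinLocFreeOfRank
      (Mero90.isFinLocFreeOfRank_of_isInvertible hL) hD'
      (show ExtPow.IsExtPow (1 + ls.length) M D by rw [add_comm]; exact hD) (isExtPow_one_self hL)
    have hT := EGA73.isInvertible_tensorMod hL hD'i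
    have hinv := EGA73.isInvertible_of_iso e.symm hT
    refine ⟨hinv, ?_⟩
    rw [lc1_iso hX hinv hT e, lc1_tensor hX hL hD'i hT, hD'c]
    simp only [rootsOp, List.map_cons, ← Multiset.cons_coe]
    rw [esymm_cons_succ, esymm_zero_right, mul_one, add_comm]

end Groth.Agent.Cyc90.Dev
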