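import Groth.Agent.Cyc90.Dev.FiltBasis
import Groth.Agent.Cyc90.Dev.DualPull
import Groth.Agent.Cyc90.Dev.RootFacts
import Groth.Agent.EGA73.Tensor
import Groth.Agent.EGA73.Invertible

/-! Filtrations of duals. -/

set_option autoImplicit false
set_option backward.isDefEq.respectTransparency.types false
set_option synthInstance.maxHeartbeats 200000
universe u

open CategoryTheory CategoryTheory.Limits AlgebraicGeometry TopologicalSpace Opposite

noncomputable section

namespace Groth.Agent.Cyc90.Dev

open QC70 Props58.LocFree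
open Var76.LineBundle (IsFrame)

variable {X : Scheme.{u}} {A B L : X.Modules}

/-- Precomposition. -/
def dualMapHom (a : A ⟶ B) : dualMod B ⟶ dualMod A :=
  HomOn.toHom
    { app := fun W _ =>
        { toFun := fun φ => ((HomOn.ofHom a W).comp (ofSec φ)).toSec
          map_add' := fun φ φ' => HomOn.ext' fun V hV s => rfl
          map_smul' := fun r φ => HomOn.ext' fun V hV s => rfl }
      app_res := fun _ _ _ => rfl }

lemma dualMapHom_app (a : A ⟶ B) {W V : X.Opens} (φ : Γ(dualMod B, W)) (hV : V ≤ W) (z : Γ(A, V)) :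
    (ofSec ((dualMapHom a).app W φ)).app V hV z = (ofSec φ).app V hV (a.app V z) := rfl

variable {a : A ⟶ B} {b : B ⟶ L} {w : a ≫ b = 0}

include w in
lemma dualMapHom_comp : dualMapHom b ≫ dualMapHom a = 0 :=
  Scheme.Modules.hom_ext _ _ fun W => by
    ext φ
    refine HomOn.ext' fun V hV s => ?_
    show (ofSec φ).app V hV (b.app V (a.app V s)) = 0
    rw [show b.app V (a.app V s) = (a ≫ b).app V s from rfl, w]
    exact map_zero _

/-- Dualising an extension of an invertible module by a bundle. -/
theorem shortExact_dual (hs : (ShortComplex.mk a b w).ShortExact) (hL : PicF.IsInvertible L) {n : ℕ}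
    (hA : ∀ x : X, ∃ (U : X.Opens) (s : Fin n → Γ(A, U)), x ∈ U ∧ StalkBasis s) :
    (ShortComplex.mk (dualMapHom b) (dualMapHom a) (dualMapHom_comp (w := w))).ShortExact := by
  have := hs.mono_f
  have := hs.epi_g
  have hmono : Mono (dualMapHom b) := by
    refine EGAProj74.mono_of_app_injective _ fun W φ φ' h => HomOn.ext' fun V hV z => ?_
    refine section_ext _ _ _ fun p hp => ?_
    obtain ⟨V', hV', t, hpV', ht⟩ := exists_local_lift b z hp
    refine ⟨V', hV', hpV', ?_⟩
    rw [← (ofSec φ).app_res, ← (ofSec φ').app_res, ← ht]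
    exact congrArg (fun χ : Γ(dualMod B, W) => (ofSec χ).app V' (hV'.trans hV) t) h
  have hepi : Epi (dualMapHom a) := by
    refine EGAProj74.epi_of_locally_surjective _ fun W ψ z => ?_
    obtain ⟨U, s, g, m, hzU, h1, h2, h3⟩ := exists_stalkBasis_cons hs hL hA z.1
    have hB := (stalkBasis_cons hs h1 h2 h3).restrict (inf_le_right : W ⊓ U ≤ U)
    refine ⟨W ⊓ U, inf_le_left, ⟨z.2, hzU⟩, (HomOn.ofBasis (P := unitMod X) hB
      (Fin.cons 0 fun i => (ofSec ψ).app (W ⊓ U) inf_le_left (res A inf_le_right (s i)))).toSec, ?_⟩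
    refine Formal27.homOn_ext_basis (W := W ⊓ U) h1 inf_le_right fun i => ?_
    rw [dualMapHom_app, QC70.app_res]
    have e := Formal27.ofBasis_app_basis (G := unitMod X) hB
      (Fin.cons 0 fun i => (ofSec ψ).app (W ⊓ U) inf_le_left (res A inf_le_right (s i))) le_rfl i.succ
    simp only [Fin.cons_succ, res_self] at e
    refine e.trans ?_
    rfl
  refine { exact := ?_, mono_f := hmono, epi_g := hepi }
  refine (ShortComplex.exact_iff_epi_kernel_lift _).2 (EGAProj74.epi_of_locally_surjective _ fun W φ z => ?_)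
  obtain ⟨U, s, g, m, hzU, h1, h2, h3⟩ := exists_stalkBasis_cons hs hL hA z.1
  let V := W ⊓ U
  have hB := (stalkBasis_cons hs h1 h2 h3).restrict (inf_le_right : V ≤ U)
  have hgV : IsFrame L V (res L (inf_le_right : V ≤ U) g) := Var76.LineBundle.IsFrame.res h2 _
  let φ₀ : Γ(dualMod B, W) := (kernel.ι (dualMapHom a)).app W φ
  have hφ₀ : (dualMapHom a).app W φ₀ = 0 := by
    show (kernel.ι (dualMapHom a) ≫ dualMapHom a).app W φ = 0
    rw [kernel.condition]; rfl
  have hgb : StalkBasis (fun _ : Fin 1 => res L (inf_le_right : V ≤ U) g) :=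
    Formal27.stalkBasis_of_bijective fun Z hZ => by
      have h := hgV Z hZ
      refine ⟨fun c c' e => funext fun i => ?_, fun y => ?_⟩
      · simp only [Fin.sum_univ_one] at e
        rw [Fin.fin_one_eq_zero i]
        exact h.1 e
      · obtain ⟨c, hc⟩ := h.2 y
        exact ⟨fun _ => c, (Fin.sum_univ_one _).trans hc⟩
  let χ : Γ(dualMod L, V) := (HomOn.ofBasis (P := unitMod X) hgb
    fun _ => (ofSec φ₀).app V inf_le_left (res B inf_le_right m)).toSec
  refine ⟨V, inf_le_left, ⟨z.2, hzU⟩, χ, EGAProj74.app_injective_of_mono (kernel.ι (dualMapHom a)) V ?_⟩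
  refine Eq.trans ?_ (QC70.app_res (kernel.ι (dualMapHom a)) (inf_le_left : V ≤ W) φ).symm
  show (kernel.lift (dualMapHom a) (dualMapHom b) _ ≫ kernel.ι _).app V χ = _
  rw [kernel.lift_ι]
  refine Formal27.homOn_ext_basis (W := V) hB le_rfl fun i => ?_
  rw [res_self, dualMapHom_app, homMod_res_app, QC70.app_res]
  induction i using Fin.cases with
  | zero =>
    rw [Fin.cons_zero, h3]
    refine Eq.trans ?_ (res_self (M := unitMod X) _)
    have e := Formal27.ofBasis_app_basis (G := unitMod X) hgb
      (fun _ => (ofSec φ₀).app V inf_le_left (res B inf_le_right m)) le_rfl 0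
    rw [res_self] at e
    exact e
  | succ i =>
    rw [Fin.cons_succ, show b.app U (a.app U (s i)) = (a ≫ b).app U (s i) from rfl, w]
    refine Eq.trans (b := (0 : Γ(unitMod X, V))) ?_ (Eq.symm ?_)
    · exact (congrArg _ (res_zero (M := L) _)).trans (map_zero _)
    · rw [← QC70.app_res]
      exact congrArg (fun χ : Γ(dualMod A, W) => (ofSec χ).app V inf_le_left _) hφ₀

/-- The dual of a zero module is zero. -/
lemma isZero_dualMod {M : X.Modules} (h : IsZero M) : IsZero (dualMod M) := by
  rw [IsZero.iff_id_eq_zero]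
  refine Scheme.Modules.hom_ext _ _ fun W => ?_
  ext φ
  refine HomOn.ext' fun V hV s => ?_
  show (ofSec φ).app V hV s = 0
  rw [show s = (𝟙 M : M ⟶ M).app V s from rfl, h.eq_of_src (𝟙 M) 0]
  exact map_zero _

lemma exists_stalkBasis_of_invertible (hL : PicF.IsInvertible L) (x : X) :
    ∃ (U : X.Opens) (s : Fin 1 → Γ(L, U)), x ∈ U ∧ StalkBasis s := by
  obtain ⟨U, hx, ⟨e⟩⟩ := Mero90.isFinLocFreeOfRank_of_isInvertible hL x
  obtain ⟨s, hs⟩ := exists_stalkBasis_of_iso e
  exact ⟨U, s, hx, hs⟩

lemma isInvertible_dualMod (hL : PicF.IsInvertible L) : PicF.IsInvertible (dualMod L) := by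
  refine isInvertible_of_rank_one fun x => ?_
  obtain ⟨U, s, hx, hs⟩ := exists_stalkBasis_of_invertible hL x
  exact ⟨U, hx, nonempty_iso_of_stalkBasis (Formal27.stalkBasis_dualBasis hs)⟩

/-- An invertible module times its dual is trivial. -/
lemma nonempty_tensor_dual (hL : PicF.IsInvertible L) :
    Nonempty (CohB1.tensorMod L (dualMod L) ≅ Coh.structureModule X) := by
  obtain ⟨e⟩ := QC70.nonempty_tensor_dual_iso (HasFilt.isFinLocFree_of_isInvertible hL) L
  suffices h : IsIso (QC70.idSec L) from ⟨e ≪≫ (asIso (QC70.idSec L)).symm⟩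
  refine isIso_of_stalkBases _ fun x => ?_
  obtain ⟨U, s, hx, hs⟩ := exists_stalkBasis_of_invertible hL x
  refine ⟨U, 1, fun _ => toUnit 1, hx, Formal27.stalkBasis_of_bijective fun W hW => ?_,
    Formal27.stalkBasis_of_bijective fun W hW => ?_⟩
  · have h1 : ∀ c : Fin 1 → Γ(X, W), ∑ i, c i • res (unitMod X) hW (toUnit (1 : Γ(X, U))) = toUnit (c 0) :=
      fun c => by rw [Fin.sum_univ_one, res_unit, resO, map_one, smul_unit, mul_one]
    refine ⟨fun c c' e => funext fun i => ?_, fun y => ⟨fun _ => y, h1 _⟩⟩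
    rw [Fin.fin_one_eq_zero i]
    exact (h1 c).symm.trans (e.trans (h1 c'))
  · have h1 : ∀ c : Fin 1 → Γ(X, W),
        (ofSec (∑ i, c i • res (homMod L L) hW ((QC70.idSec L).app U (toUnit 1)))).app W le_rfl
          (res L hW (s 0)) = c 0 • res L hW (s 0) := fun c => by
      rw [Fin.sum_univ_one]
      show (resO X le_rfl (c 0)) • (ofSec (res (homMod L L) hW ((QC70.idSec L).app U (toUnit 1)))).app W le_rfl
        (res L hW (s 0)) = _
      rw [resO_self]
      refine congrArg (c 0 • ·) ?_
      show (resO X hW (1 : Γ(X, U))) • res L hW (s 0) = res L hW (s 0)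
      rw [resO, map_one, one_smul]
    refine ⟨fun c c' e => funext fun i => ?_, fun φ => ?_⟩
    · rw [Fin.fin_one_eq_zero i]
      have e2 := congrArg (fun φ : Γ(homMod L L, W) => (ofSec φ).app W le_rfl (res L hW (s 0))) e
      simp only [h1] at e2
      have hb := hs.eq_of_comb hW (a := c) (b := c') (by rw [Fin.sum_univ_one, Fin.sum_univ_one]; exact e2)
      exact congrFun hb 0
    · obtain ⟨c, hc⟩ := hs.exists_comb hW ((ofSec φ).app W le_rfl (res L hW (s 0)))
      refine ⟨c, Formal27.homOn_ext_basis hs hW fun i => ?_⟩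
      rw [Fin.fin_one_eq_zero i, h1, ← hc, Fin.sum_univ_one]

/-- The dual of a filtered module. -/
theorem HasFilt.dual {M : X.Modules} {ls : List X.Modules} (h : HasFilt M ls) :
    HasFilt (dualMod M) (ls.map dualMod).reverse := by
  induction h with
  | zero h0 => exact .zero (isZero_dualMod h0)
  | step a b w hs hL h' ih =>
    rw [List.map_cons, List.reverse_cons]
    exact HasFilt.append _ _ _ (shortExact_dual hs hL h'.exists_stalkBasis)
      (.single (isInvertible_dualMod hL)) ih

variable {δ : X → ℤ} (hX : Cyc.IsSetup X δ)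

lemma lc1_dualMod (hL : PicF.IsInvertible L) : lc1 hX (dualMod L) = -lc1 hX L := by
  obtain ⟨e⟩ := nonempty_tensor_dual hL
  have hT := EGA73.isInvertible_tensorMod hL (isInvertible_dualMod hL)
  have h := lc1_tensor hX hL (isInvertible_dualMod hL) hT
  rw [lc1_iso hX hT EGA73.isInvertible_structureModule e, lc1_structureModule] at h
  exact eq_neg_of_add_eq_zero_right h.symm

lemma rootsOp_dual {ls : List X.Modules} (hls : ∀ A ∈ ls, PicF.IsInvertible A) :
    rootsOp hX (ls.map dualMod).reverse = (rootsOp hX ls).map (- ·) := by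
  rw [rootsOp, rootsOp, List.map_reverse, Multiset.coe_reverse, List.map_map, Multiset.map_coe, List.map_map]
  exact congrArg _ (List.map_congr_left fun A hA => lc1_dualMod hX (hls A hA))

lemma esymm_map_neg {R : Type u} [CommRing R] (s : Multiset R) :
    ∀ j : ℕ, (s.map (- ·)).esymm j = (-1) ^ j * s.esymm j := by
  induction s using Multiset.induction with
  | empty =>
    rintro (_ | j)
    · simp [esymm_zero_right]
    · simp [esymm_zero_left]
  | cons a s ih =>
    rintro (_ | j)
    · simp [esymm_zero_right]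
    · rw [Multiset.map_cons, esymm_cons_succ, esymm_cons_succ, ih, ih, pow_succ]
      ring

end Groth.Agent.Cyc90.Dev
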