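import Mathlib.RingTheory.MvPolynomial.Symmetric.Defs
import Mathlib.RingTheory.Polynomial.Vieta
import Mathlib.Algebra.Polynomial.Taylor

/-! Elementary symmetric functions of multisets. -/

set_option autoImplicit false
universe u

namespace Groth.Agent.Cyc90.Dev

variable {R : Type u} [CommRing R]

lemma esymm_zero_right (s : Multiset R) : s.esymm 0 = 1 := by simp [Multiset.esymm]

lemma esymm_zero_left (j : ℕ) : (0 : Multiset R).esymm (j + 1) = 0 := by simp [Multiset.esymm]

lemma esymm_cons_succ (a : R) (s : Multiset R) (j : ℕ) :
    (a ::ₘ s).esymm (j + 1) = s.esymm (j + 1) + a * s.esymm j := by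
  simp only [Multiset.esymm, Multiset.powersetCard_cons, Multiset.map_add, Multiset.sum_add,
    Multiset.map_map, ← Multiset.sum_map_mul_left, Function.comp_def, Multiset.prod_cons]

lemma esymm_eq_zero_of_card_lt {s : Multiset R} {j : ℕ} (h : Multiset.card s < j) : s.esymm j = 0 := by
  simp [Multiset.esymm, Multiset.powersetCard_eq_empty _ h]

/-- The symmetric functions of a union. -/
lemma esymm_add (s t : Multiset R) (j : ℕ) :
    (s + t).esymm j = ∑ a ∈ Finset.range (j + 1), s.esymm a * t.esymm (j - a) := by
  induction s using Multiset.induction generalizing j with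
  | empty =>
    rw [zero_add, Finset.sum_eq_single 0 (fun a _ ha => ?_) (by simp), esymm_zero_right, one_mul, Nat.sub_zero]
    obtain ⟨b, rfl⟩ := Nat.exists_eq_succ_of_ne_zero ha
    rw [esymm_zero_left, zero_mul]
  | cons c s ih =>
    rcases j with _ | j
    · simp [esymm_zero_right]
    · rw [Multiset.cons_add, esymm_cons_succ, ih, ih, Finset.sum_range_succ' _ (j + 1), Finset.mul_sum,
        Finset.sum_range_succ' (fun a => (c ::ₘ s).esymm a * t.esymm (j + 1 - a)) (j + 1),
        esymm_zero_right, esymm_zero_right, add_right_comm, ← Finset.sum_add_distrib]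
      congr 1
      refine Finset.sum_congr rfl fun a _ => ?_
      rw [esymm_cons_succ, Nat.add_sub_add_right]
      ring

open Polynomial in
/-- The symmetric functions of translated elements. -/
lemma esymm_map_add (l : R) (s : Multiset R) {i : ℕ} (hi : i ≤ Multiset.card s) :
    (s.map (· + l)).esymm i = ∑ j ∈ Finset.range (i + 1),
      ((Multiset.card s - i + j).choose j : R) * (l ^ j * s.esymm (i - j)) := by
  nontriviality R
  let f : R[X] := (s.map fun r => X + C r).prod
  have hf : ((s.map (· + l)).map fun r => X + C r).prod = taylor l f := by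
    show _ = f.comp (X + C l)
    rw [multiset_prod_comp, Multiset.map_map, Multiset.map_map]
    refine congrArg _ (Multiset.map_congr rfl fun x _ => ?_)
    simp only [Function.comp_apply, add_comp, X_comp, C_comp, map_add]
    ring
  have h := congrArg (fun g : R[X] => g.coeff (Multiset.card s - i)) hf
  simp only [taylor_coeff] at h
  rw [Multiset.prod_X_add_C_coeff _ (by rw [Multiset.card_map]; omega), Multiset.card_map,
    show Multiset.card s - (Multiset.card s - i) = i by omega] at h
  have hdeg : f.natDegree ≤ Multiset.card s := by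
    refine (natDegree_multiset_prod_le _).trans ?_
    rw [Multiset.map_map]
    refine (Multiset.sum_le_card_nsmul _ 1 fun x hx => ?_).trans (by simp)
    obtain ⟨y, -, rfl⟩ := Multiset.mem_map.1 hx
    exact natDegree_X_add_C y |>.le
  rw [h, hasseDeriv_apply, sum_over_range' f (by intro; simp) _ (Nat.lt_succ_of_le hdeg), eval_finsetSum]
  have hzero : ∀ m ∈ Finset.range (Multiset.card s + 1), m ∉ Finset.Ico (Multiset.card s - i) (Multiset.card s + 1) →
      (monomial (m - (Multiset.card s - i)) ((m.choose (Multiset.card s - i) : R) * f.coeff m)).eval l = 0 := by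
    intro m hm hm'
    rw [Finset.mem_range] at hm
    simp only [Finset.mem_Ico, not_and_or, not_le, not_lt] at hm'
    rw [Nat.choose_eq_zero_of_lt (by omega), Nat.cast_zero, zero_mul, map_zero, eval_zero]
  rw [← Finset.sum_subset (fun m hm => Finset.mem_range.2 (Finset.mem_Ico.1 hm).2) hzero,
    Finset.sum_Ico_eq_sum_range, show Multiset.card s + 1 - (Multiset.card s - i) = i + 1 by omega]
  refine Finset.sum_congr rfl fun j hj => ?_
  rw [Finset.mem_range] at hj
  rw [eval_monomial, Nat.add_sub_cancel_left, Multiset.prod_X_add_C_coeff _ (by omega),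
    show Multiset.card s - (Multiset.card s - i + j) = i - j by omega, Nat.choose_symm_add]
  ring

end Groth.Agent.Cyc90.Dev
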