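import Groth.Agent.Cyc90.Dev.EsymmLemmas
import Mathlib.Data.Multiset.Bind
import Mathlib.Tactic.LinearCombination

/-! The first two symmetric functions of pairwise sums. -/

set_option autoImplicit false
universe u

namespace Groth.Agent.Cyc90.Dev

variable {R : Type u} [CommRing R]

lemma esymm_map_add_one (a : R) (s : Multiset R) :
    (s.map (· + a)).esymm 1 = s.esymm 1 + (Multiset.card s : R) * a := by
  induction s using Multiset.induction with
  | empty => simp [esymm_zero_left 0]
  | cons x s ih =>
    rw [Multiset.map_cons, esymm_cons_succ, esymm_cons_succ, esymm_zero_right, esymm_zero_right, ih,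
      Multiset.card_cons, Nat.cast_succ]
    ring

lemma esymm_map_add_two (a : R) (s : Multiset R) :
    (s.map (· + a)).esymm 2 = s.esymm 2 + ((Multiset.card s : R) - 1) * (a * s.esymm 1) +
      ((Multiset.card s).choose 2 : R) * a ^ 2 := by
  induction s using Multiset.induction with
  | empty => simp [esymm_zero_left]
  | cons x s ih =>
    rw [Multiset.map_cons, esymm_cons_succ, esymm_cons_succ x s 1, esymm_cons_succ x s 0, esymm_zero_right,
      ih, esymm_map_add_one, Multiset.card_cons, Nat.choose_succ_succ', Nat.choose_one_right]
    push_cast
    ring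

lemma two_mul_choose_two (n : ℕ) : (2 : R) * (n.choose 2 : R) = (n : R) * ((n : R) - 1) := by
  induction n with
  | zero => simp
  | succ n ih =>
    rw [Nat.choose_succ_succ', Nat.choose_one_right, Nat.cast_add, Nat.cast_succ]
    linear_combination ih

/-- All sums of an element of `r` and an element of `s`. -/
def pairSums (r s : Multiset R) : Multiset R := r.bind fun a => s.map (· + a)

lemma esymm_pairSums_one (r s : Multiset R) :
    (pairSums r s).esymm 1 =
      (Multiset.card r : R) * s.esymm 1 + (Multiset.card s : R) * r.esymm 1 := by
  induction r using Multiset.induction with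
  | empty => simp [pairSums, esymm_zero_left 0]
  | cons a r ih =>
    rw [pairSums, Multiset.cons_bind, esymm_add, Finset.sum_range_succ, Finset.sum_range_one,
      esymm_zero_right, Nat.sub_self, esymm_zero_right, esymm_map_add_one, ← pairSums, ih, esymm_cons_succ,
      esymm_zero_right, Multiset.card_cons, Nat.cast_succ]
    ring

lemma esymm_pairSums_two (r s : Multiset R) :
    (pairSums r s).esymm 2 = (Multiset.card r : R) * s.esymm 2 + (Multiset.card s : R) * r.esymm 2 +
      ((Multiset.card r).choose 2 : R) * s.esymm 1 ^ 2 +
      ((Multiset.card r : R) * Multiset.card s - 1) * (r.esymm 1 * s.esymm 1) +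
      ((Multiset.card s).choose 2 : R) * r.esymm 1 ^ 2 := by
  induction r using Multiset.induction with
  | empty => simp [pairSums, esymm_zero_left]
  | cons a r ih =>
    rw [pairSums, Multiset.cons_bind, esymm_add, Finset.sum_range_succ, Finset.sum_range_succ,
      Finset.sum_range_one, esymm_zero_right, esymm_map_add_one, esymm_map_add_two, ← pairSums,
      esymm_zero_right, show 2 - 1 = 1 from rfl, Nat.sub_zero, esymm_pairSums_one, ih, esymm_cons_succ a r 1,
      esymm_cons_succ a r 0, esymm_zero_right, Multiset.card_cons, Nat.choose_succ_succ', Nat.choose_one_right]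
    push_cast
    linear_combination (norm := ring_nf) (-(a * r.esymm 1)) * two_mul_choose_two (R := R) (Multiset.card s)

end Groth.Agent.Cyc90.Dev
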