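import Groth.Agent.Cyc90.Dev.ProperField
import Groth.Agent.Cyc90.Dev.TwistK
import Groth.Agent.Cyc90.PushLen
import Groth.Agent.Crv77.Euler
import Groth.Agent.Crv77.Degree
import Groth.Agent.Crv77.PointDeg
import Groth.Agent.SpecVan49.Final
import Groth.Agent.TopCoh49.Top
import Groth.Agent.Serre71.Finite
import Groth.Prelude.Def_FGA

/-! Euler characteristics of coherent modules of bounded support on proper schemes over a field. -/

set_option autoImplicit false
set_option backward.isDefEq.respectTransparency.types false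
set_option linter.style.haveILetI false
universe u w

open CategoryTheory CategoryTheory.Limits CategoryTheory.Abelian AlgebraicGeometry TopologicalSpace

namespace Groth.Agent.Cyc90.Dev

section Descend

variable {X : Scheme.{u}} {δ : X → ℤ} {a b : ℤ} {A : Type w} [AddCommGroup A]

/-- An additive function killing the small modules is a homomorphism on K₀. -/
noncomputable def quotHom (φ : X.Modules → A)
    (hadd : ∀ S : ShortComplex X.Modules, S.ShortExact → Cyc.CohLe δ a S.X₁ →
      Cyc.CohLe δ a S.X₂ → Cyc.CohLe δ a S.X₃ → φ S.X₂ = φ S.X₁ + φ S.X₃)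
    (hzero : ∀ F, Cyc.CohLe δ a F → Cyc.CohLe δ b F → φ F = 0) :
    Cyc.K0CohQuot δ a b →+ A :=
  QuotientAddGroup.lift _
    (QuotientAddGroup.lift _ (FreeAbelianGroup.lift fun F => φ F.1) (by
      refine (AddSubgroup.closure_le _).2 ?_
      rintro _ ⟨S, h1, h2, h3, hS, rfl⟩
      rw [SetLike.mem_coe, AddMonoidHom.mem_ker, map_sub, map_sub,
        FreeAbelianGroup.lift_apply_of, FreeAbelianGroup.lift_apply_of,
        FreeAbelianGroup.lift_apply_of, hadd S hS h1 h2 h3]
      abel)) (by
    classical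
    refine (AddSubgroup.closure_le _).2 ?_
    rintro _ ⟨F, hF, rfl⟩
    rw [SetLike.mem_coe, AddMonoidHom.mem_ker, KZero.clSub]
    split_ifs with h
    · exact (FreeAbelianGroup.lift_apply_of _ _).trans (hzero F h hF)
    · exact map_zero _)

lemma quotHom_apply (φ : X.Modules → A)
    (hadd : ∀ S : ShortComplex X.Modules, S.ShortExact → Cyc.CohLe δ a S.X₁ →
      Cyc.CohLe δ a S.X₂ → Cyc.CohLe δ a S.X₃ → φ S.X₂ = φ S.X₁ + φ S.X₃)
    (hzero : ∀ F, Cyc.CohLe δ a F → Cyc.CohLe δ b F → φ F = 0)
    {F : X.Modules} (hF : Cyc.CohLe δ a F) :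
    quotHom φ hadd hzero (Cyc.toK0CohQuot δ a b F) = φ F := by
  rw [Cyc.toK0CohQuot, KCohDev46.clSub_eq _ hF]
  exact FreeAbelianGroup.lift_apply_of _ _

lemma isZero_of_cohLe_neg (hX : ∀ x, 0 ≤ δ x) {F : X.Modules} (hb : b < 0)
    (hF : Cyc.CohLe δ b F) : IsZero F := by
  have h : ∀ x : X, Subsingleton (F.presheaf.stalk x) := fun x =>
    not_nontrivial_iff_subsingleton.1 fun hn => by
      have h1 := hF.2 x hn
      have h2 := hX x
      omega
  rw [IsZero.iff_id_eq_zero]
  refine Scheme.Modules.hom_ext _ _ fun U => ?_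
  ext s
  change s = (0 : Γ(F, U))
  refine QC70.section_ext F s 0 fun p hp => ?_
  have := h p
  obtain ⟨W, hW, hpW, e⟩ := QC70.germM_eq_zero (M := F) (hx := hp) (s := s) (Subsingleton.elim _ _)
  exact ⟨W, hW, hpW, e.trans (map_zero _).symm⟩

end Descend

variable (k : Type u) [Field k] {X : Scheme.{u}} {δ : X → ℤ}
variable [X.Over (Spec (CommRingCat.of k))]
variable [IsProper (X ↘ Spec (CommRingCat.of k))]

/-- The degree of a coefficient function of a zero-cycle. -/
noncomputable def degFun (f : X → ℤ) : ℤ :=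
  ∑ᶠ x : X, ((X ↘ Spec (CommRingCat.of k)).residueDegree x : ℤ) * f x

omit [IsProper (X ↘ Spec (CommRingCat.of k))] in
lemma degFun_zero : degFun k (fun _ : X => (0 : ℤ)) = 0 := by simp [degFun]

omit [IsProper (X ↘ Spec (CommRingCat.of k))] in
lemma degFun_add {f g : X → ℤ} (hf : (Function.support f).Finite)
    (hg : (Function.support g).Finite) : degFun k (f + g) = degFun k f + degFun k g := by
  unfold degFun
  rw [← finsum_add_distrib]
  · exact finsum_congr fun x => by rw [Pi.add_apply, mul_add]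
  · exact hf.subset fun x hx => right_ne_zero_of_mul (Function.mem_support.1 hx)
  · exact hg.subset fun x hx => right_ne_zero_of_mul (Function.mem_support.1 hx)

include k in
theorem compactSpace_of_proper : CompactSpace X :=
  QuasiCompact.compactSpace_of_compactSpace (X ↘ Spec (CommRingCat.of k))

include k in
theorem IsCycFun.finite_support {r : ℤ} {α : X → ℤ} (h : IsCycFun δ r α) :
    (Function.support α).Finite := by
  have := compactSpace_of_proper k (X := X)
  choose U hU hxU hf using h.locFin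
  obtain ⟨t, ht⟩ := isCompact_univ.elim_finite_subcover U hU fun x _ => Set.mem_iUnion.2 ⟨x, hxU x⟩
  refine (t.finite_toSet.biUnion fun x _ => hf x).subset fun ζ hζ => ?_
  obtain ⟨x, hx, hζx⟩ := Set.mem_iUnion₂.1 (ht (Set.mem_univ ζ))
  exact Set.mem_biUnion hx ⟨hζ, hζx⟩

variable (hδ : Cyc.DeltaCompat (X ↘ Spec (CommRingCat.of k)) δ (fun _ => 0))
  (hX : Cyc.IsSetup X δ)
include hδ hX

/-- Cohomology vanishes above the dimension of the support. -/
theorem subsingleton_HH {r : ℤ} {F : X.Modules} (hF : Cyc.CohLe δ r F) (p : ℕ) (hp : r < p) :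
    Subsingleton (Coh.HH X F p) := by
  have := hX.1
  have := compactSpace_of_proper k (X := X)
  haveI : QuasiSeparatedSpace X := inferInstance
  haveI : SpectralSpace X.carrier := { }
  have hsup : ∀ x : X.carrier, ¬ IsZero (CohTop.stalk (Coh.toAb F) x) →
      SpecVan49.DimLT (closure ({x} : Set X.carrier)) p := fun x hx => by
    refine dimLT_closure hδ hX (lt_of_le_of_lt (hF.2 x ?_) hp)
    refine not_subsingleton_iff_nontrivial.1 fun h => hx ?_
    exact @AddCommGrpCat.isZero_of_subsingleton _ h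
  have := SpecVan49.subsingleton_E_of_supported (SpecVan49.vd_all p) (Coh.toAb F) hsup p le_rfl
  exact (TopCoh49.HEquivTop (Coh.toAb F) p).toEquiv.subsingleton

theorem finBdd {r : ℤ} {F : X.Modules} (hF : Cyc.CohLe δ r F) {D : ℕ} (hD : r < D) :
    Crv77.FinBdd k F D :=
  ⟨fun n => Serre71.finite_hh_of_isProper k F hF.1 n,
    fun n hn => subsingleton_HH k hδ hX hF n (lt_of_lt_of_le hD (by exact_mod_cast hn))⟩

theorem eulerCharLE_eq {r : ℤ} {F : X.Modules} (hF : Cyc.CohLe δ r F) {D : ℕ} (hD : r ≤ D) :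
    FGA.eulerCharLE k X F D = Curv2.euler k X F :=
  ((finBdd k hδ hX hF (D := D + 1) (by omega)).euler_eq).symm

theorem euler_shortExact {r : ℤ} {S : ShortComplex X.Modules} (hS : S.ShortExact)
    (h1 : Cyc.CohLe δ r S.X₁) (h2 : Cyc.CohLe δ r S.X₂) (h3 : Cyc.CohLe δ r S.X₃) :
    Curv2.euler k X S.X₂ = Curv2.euler k X S.X₁ + Curv2.euler k X S.X₃ :=
  have hD : r < ((r + 1).toNat : ℕ) := by omega
  Crv77.euler_add hS (finBdd k hδ hX h1 hD) (finBdd k hδ hX h2 hD) (finBdd k hδ hX h3 hD)

omit hX in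
theorem euler_of_isZero {F : X.Modules} (hF : IsZero F) : Curv2.euler k X F = 0 := by
  refine finsum_eq_zero_of_forall_eq_zero fun i => ?_
  have : Subsingleton (Coh.HH X F i) := ⟨fun a b => by
    have key : ∀ c : Coh.HH X F i, c = 0 := fun c => by
      have hz : IsZero ((Crv77.toAbF X).obj F) := (Crv77.toAbF X).map_isZero hF
      exact (Ext.comp_mk₀_id c).symm.trans
        ((congrArg (fun f => Ext.comp c (Ext.mk₀ f) (add_zero i))
          (hz.eq_of_src (𝟙 (Coh.toAb F)) (0 : Coh.toAb F ⟶ Coh.toAb F))).trans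
          (by rw [Ext.mk₀_zero, Ext.comp_zero]))
    rw [key a, key b]⟩
  rw [Module.finrank_zero_of_subsingleton]
  simp

/-- The structure sheaf of a closed point. -/
theorem euler_css {ζ : X} (hζ : δ ζ = 0) :
    Curv2.euler k X (Cyc.closureStructureSheaf ζ) =
      ((X ↘ Spec (CommRingCat.of k)).residueDegree ζ : ℤ) := by
  have hcl := isClosed_of_delta_eq_zero hδ hX hζ
  have e : IntMult.ptIdeal ζ = Crv77.ptIdeal hcl :=
    congrArg Scheme.IdealSheafData.vanishingIdeal (Closeds.ext hcl.closure_eq)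
  have hs : ((Crv77.ptIdeal hcl).support : Set X).Finite :=
    (Crv77.ptIdeal_support hcl) ▸ Set.finite_singleton ζ
  have hc : ∀ y ∈ ((Crv77.ptIdeal hcl).support : Set X), IsClosed ({y} : Set X) := fun y hy => by
    rw [Crv77.ptIdeal_support hcl, Set.mem_singleton_iff] at hy
    exact hy ▸ hcl
  have e2 : Cyc.closureStructureSheaf ζ = ClSub.quotMod (Crv77.ptIdeal hcl) := by
    rw [Cyc.closureStructureSheaf, e]
  rw [e2, Curv2.euler, finsum_eq_single _ 0 fun i hi => ?_]
  · rw [pow_zero, one_mul, Crv77.finrank_quot_point k hcl]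
    exact congrArg Nat.cast (finrank_resAlgebra (k := k) ζ)
  · obtain ⟨n, rfl⟩ := Nat.exists_eq_succ_of_ne_zero hi
    have := (Crv77.suppIn_quotMod (Crv77.ptIdeal hcl)).subsingleton_HH hs hc n
    rw [Module.finrank_zero_of_subsingleton]
    simp

/-- The Euler characteristic of a module with finite support. -/
theorem euler_eq_degFun {F : X.Modules} (hF : Cyc.CohLe δ 0 F) :
    Curv2.euler k X F = degFun k (Cyc.sheafFun δ 0 F) := by
  classical
  have := hX.1
  have hzero : ∀ G, Cyc.CohLe δ 0 G → Cyc.CohLe δ ((0 : ℤ) - 1) G → Curv2.euler k X G = 0 :=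
    fun G _ hG => euler_of_isZero k hδ (isZero_of_cohLe_neg (delta_nonneg' hδ) (by omega) hG)
  let φ : Cyc.K0CohQuot δ 0 (0 - 1) →+ ℤ :=
    quotHom (fun G => Curv2.euler k X G) (fun S hS => euler_shortExact k hδ hX hS) hzero
  have hφ : ∀ G, Cyc.CohLe δ 0 G → φ (Cyc.toK0CohQuot δ 0 (0 - 1) G) = Curv2.euler k X G :=
    fun G hG => quotHom_apply _ _ _ hG
  have hnn : ∀ (G : X.Modules) (x : X), 0 ≤ Cyc.sheafFun δ 0 G x := fun G x => by
    unfold Cyc.sheafFun
    split_ifs
    · exact Int.natCast_nonneg _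
    · exact le_rfl
  induction hn : (∑ᶠ x, (Cyc.sheafFun δ 0 F x).toNat) using Nat.strong_induction_on generalizing F with
  | _ n ih =>
  have hα := isCycFun_sheafFun hX hF
  have hfin := IsCycFun.finite_support k hα
  by_cases h0 : ∀ x, Cyc.sheafFun δ 0 F x = 0
  · obtain ⟨Z, hZ⟩ := HasZeroObject.zero (C := X.Modules)
    have hZc : Cyc.CohLe δ 0 Z := cohLe_of_isZero hZ
    have key := toK_eq_of_sheafFun_eq hX hF hZc (a := 0) (funext fun x => by
      rw [h0 x, sheafFun_eq_zero]
      exact not_nontrivial_iff_subsingleton.1 fun h =>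
        (cohLe_of_isZero (δ := δ) (a := δ x - 1) hZ).2 x h |> fun h' => by omega) le_rfl
    rw [← hφ F hF, key, hφ Z hZc, euler_of_isZero k hδ hZ,
      show Cyc.sheafFun δ 0 F = fun _ => (0 : ℤ) from funext h0, degFun_zero]
  · push Not at h0
    obtain ⟨ζ, hζ⟩ := h0
    have hζ0 : δ ζ = 0 := hα.dim ζ hζ
    let e : X → ℤ := fun x => if x = ζ then 1 else 0
    let β : X → ℤ := fun x => Cyc.sheafFun δ 0 F x - e x
    have hζ1 : 1 ≤ Cyc.sheafFun δ 0 F ζ := by have := hnn F ζ; omega
    have hβ0 : ∀ x, 0 ≤ β x := fun x => by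
      simp only [β, e]
      split_ifs with h
      · subst h; omega
      · simpa using hnn F x
    have hβ : IsCycFun δ 0 β := by
      refine ⟨fun x hx => ?_, fun x => ?_⟩
      · by_cases h : x = ζ
        · exact h ▸ hζ0
        · exact hα.dim x (by simpa [β, e, h] using hx)
      · obtain ⟨U, hU, hxU, hf⟩ := hα.locFin x
        refine ⟨U, hU, hxU, (hf.union (Set.finite_singleton ζ)).subset fun y hy => ?_⟩
        by_cases h : y = ζ
        · exact Or.inr h
        · exact Or.inl ⟨by simpa [β, e, h] using hy.1, hy.2⟩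
    have hG := hβ.cohLe_pos hX
    have hGfun : Cyc.sheafFun δ 0 (Cyc.cycleSheafPos β) = β := funext fun x => by
      rw [hβ.sheafFun_pos hX x]
      have := hβ0 x
      split_ifs <;> omega
    have hC : Cyc.CohLe δ 0 (Cyc.closureStructureSheaf ζ) :=
      ⟨CycSh.isCoh_css ζ, fun x hx => (delta_le hX.2.2
        (CycSh.specializes_of_mem_support (not_subsingleton_iff_nontrivial.2 hx))).trans hζ0.le⟩
    have hCfun : Cyc.sheafFun δ 0 (Cyc.closureStructureSheaf ζ) = e := funext fun x => by
      simp only [e]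
      split_ifs with h
      · subst h
        rw [Cyc.sheafFun, if_pos hζ0, CycSh.length_css]
        rfl
      · refine sheafFun_eq_zero (QC70.notMem_support_iff.1 fun hs => h ?_)
        have hsp := CycSh.specializes_of_mem_support hs
        exact (eq_of_delta_le hX.2.2 hsp (by rw [hζ0]; exact delta_nonneg' hδ x)).symm
    have hsum := cohLe_sum hC hG
    have hfun : Cyc.sheafFun δ 0 F =
        Cyc.sheafFun δ 0 (Cyc.closureStructureSheaf ζ ⊞ Cyc.cycleSheafPos β) := by
      have e1 := sheafFun_shortExact hX 0 _ (sumSC_shortExact (Cyc.closureStructureSheaf ζ)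
        (Cyc.cycleSheafPos β)) hsum.1 hsum.2
      simp only [sumSC] at e1
      rw [e1, hCfun, hGfun]
      funext x
      simp [β]
    have key := toK_eq_of_sheafFun_eq hX hF hsum (a := 0) hfun le_rfl
    rw [toK_sum hC hG] at key
    have hlt : (∑ᶠ x, (β x).toNat) < n := by
      subst hn
      have hs : ∀ f : X → ℤ, (∀ x ∉ hfin.toFinset, f x = 0) →
          (∑ᶠ x, (f x).toNat) = ∑ x ∈ hfin.toFinset, (f x).toNat := fun f hf =>
        finsum_eq_sum_of_support_subset _ fun x hx => by
          by_contra h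
          exact hx (by simp [hf x (fun h' => h (Finset.mem_coe.2 h'))])
      rw [hs β fun x hx => ?_, hs _ fun x hx => by simpa using hx]
      · refine Finset.sum_lt_sum (fun x _ => ?_) ⟨ζ, hfin.mem_toFinset.2 hζ, ?_⟩
        · simp only [β, e]; split_ifs <;> omega
        · have e0 : β ζ = Cyc.sheafFun δ 0 F ζ - 1 := by simp [β, e]
          omega
      · have h : x ≠ ζ := fun h => hx (hfin.mem_toFinset.2 (h ▸ hζ))
        simpa [β, e, h] using hx
    have ihG := ih _ hlt (F := Cyc.cycleSheafPos β) hG (by rw [hGfun])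
    rw [← hφ F hF, key, map_add, hφ _ hC, hφ _ hG, euler_css k hδ hX hζ0, ihG, hGfun]
    have hdeg : degFun k e = ((X ↘ Spec (CommRingCat.of k)).residueDegree ζ : ℤ) := by
      rw [degFun, finsum_eq_single _ ζ fun x hx => by simp [e, hx]]
      simp [e]
    rw [← hdeg, ← degFun_add k ((Set.finite_singleton ζ).subset fun x hx => by
      by_contra h; exact hx (if_neg h)) (IsCycFun.finite_support k hβ)]
    exact congrArg (degFun k) (funext fun x => by simp [β])

end Groth.Agent.Cyc90.Dev
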