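import Groth.Agent.Cyc90.C1Rat
import Groth.Agent.Cyc90.C1Pull
import Groth.Agent.Cyc90.DivCycle
import Groth.Agent.Cyc90.GysinPull
import Groth.Agent.Cyc90.PushDiv
import Groth.Agent.Cyc90.PushDivGeneral
import Groth.Agent.FlatMor68.FibreStalk

/-! Iterated caps of pulled back cycles on a fibre. -/

set_option autoImplicit false
set_option backward.isDefEq.respectTransparency.types false
universe u

open CategoryTheory CategoryTheory.Limits AlgebraicGeometry TopologicalSpace IsLocalRing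

namespace Groth.Agent.Cyc90.Dev

variable {F P W X : Scheme.{u}}

section Square

variable (i : F ⟶ P) [IsPreimmersion i] (j : W ⟶ X) [IsPreimmersion j] (q : F ⟶ W) (p : P ⟶ X)
  (h : q ≫ j = i ≫ p)

include h in
/-- The identification of the residue field extensions in a square with preimmersions. -/
lemma exists_residue_equiv' (z : F) :
    ∃ (_ : j (q z) = p (i z)) (eY : X.residueField (p (i z)) ≃+* W.residueField (q z))
      (eX : P.residueField (i z) ≃+* F.residueField z),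
      (q.residueFieldMap z).hom.comp eY.toRingHom = eX.toRingHom.comp (p.residueFieldMap (i z)).hom := by
  obtain ⟨hz, e⟩ := square_residue i j q p h z
  let eX : P.residueField (i z) ≃+* F.residueField z := RingEquiv.ofBijective (i.residueFieldMap z).hom
    ⟨RingHom.injective _, residueFieldMap_surjective i z⟩
  let eJ : X.residueField (j (q z)) ≃+* W.residueField (q z) :=
    RingEquiv.ofBijective (j.residueFieldMap (q z)).hom
      ⟨RingHom.injective _, residueFieldMap_surjective j (q z)⟩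
  let eY := (X.residueFieldCongr hz).symm.commRingCatIsoToRingEquiv.trans eJ
  refine ⟨hz, eY, eX, RingHom.ext fun a => ?_⟩
  change (q.residueFieldMap z).hom ((j.residueFieldMap (q z)).hom ((X.residueFieldCongr hz).inv a)) =
    (i.residueFieldMap z).hom ((p.residueFieldMap (i z)).hom a)
  refine (congr($(e).hom ((X.residueFieldCongr hz).inv a))).trans ?_
  change (i.residueFieldMap z).hom ((p.residueFieldMap (i z)).hom
    ((X.residueFieldCongr hz).hom ((X.residueFieldCongr hz).inv a))) = _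
  rw [Iso.inv_hom_id_apply]

include h in
lemma residueDegree_square' (z : F) : q.residueDegree z = p.residueDegree (i z) := by
  obtain ⟨hz, eY, eX, hc⟩ := exists_residue_equiv' i j q p h z
  rw [Scheme.Hom.residueDegree, Scheme.Hom.residueDegree]
  letI := (q.residueFieldMap z).hom.toAlgebra
  letI := (p.residueFieldMap (i z)).hom.toAlgebra
  exact (Algebra.finrank_eq_of_equiv_equiv eY eX hc).symm

include h in
lemma deltaCompat_square' {δP : P → ℤ} {δX : X → ℤ} (hδ : Cyc.DeltaCompat p δP δX) (c : ℤ)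
    (hc' : ∀ w : W, δX (j w) = c) :
    Cyc.DeltaCompat q (fun z => δP (i z) - c) (fun _ => 0) := fun z => by
  obtain ⟨hz, eY, eX, hc⟩ := exists_residue_equiv' i j q p h z
  obtain ⟨n, hn, hd⟩ := hδ (i z)
  refine ⟨n, ?_, show δP (i z) - c = 0 + (n : ℤ) by rw [hd, ← hz, hc']; ring⟩
  letI := (q.residueFieldMap z).hom.toAlgebra
  letI := (p.residueFieldMap (i z)).hom.toAlgebra
  exact (E4O.trdeg_eq_of_ringEquiv eY eX hc).symm.trans hn

end Square

/-- Principal divisors are unchanged along preimmersions, with shifted dimension functions. -/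
theorem divFun_preimmersion' (i : F ⟶ P) [IsPreimmersion i] {δ : P → ℤ} (hP : Cyc.IsSetup P δ)
    (c : ℤ) (hF : Cyc.IsSetup F (fun w => δ (i w) - c)) (ζ z : F) (g : P.residueField (i ζ))
    (hg : g ≠ 0) :
    Cyc.divFun δ (i ζ) g (i z) =
      Cyc.divFun (fun w => δ (i w) - c) ζ ((i.residueFieldMap ζ).hom g) z := by
  unfold Cyc.divFun
  have hiff : i ζ ⤳ i z ↔ ζ ⤳ z := i.isEmbedding.isInducing.specializes_iff
  by_cases h : ζ ⤳ z ∧ δ (i z) + 1 = δ (i ζ)
  · rw [dif_pos ⟨hiff.2 h.1, h.2⟩, dif_pos ⟨h.1, by linarith [h.2]⟩]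
    have := hP.1
    have := hF.1
    let e := RingEquiv.ofBijective _ (locQuotMap_bijective i h.1)
    have h1 : ringKrullDim (Cyc.LocQuot (i z) (i ζ) (hiff.2 h.1)) ≤ 1 :=
      ringKrullDim_locQuot_le_one _ fun w h1 h2 => immediate hP.2.2 (hiff.2 h.1) h.2 h1 h2
    have h2 : ringKrullDim (Cyc.LocQuot z ζ h.1) ≤ 1 :=
      (ringKrullDim_eq_of_ringEquiv e).ge.trans h1
    have := krullDimLE_one h1
    have := krullDimLE_one h2
    exact (ordFrac_congr e (i.residueFieldMap ζ).hom (fun a => (locQuotMap_comm i h.1 a).symm) g hg).symm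
  · rw [dif_neg fun h' => h ⟨hiff.1 h'.1, h'.2⟩, dif_neg fun h' => h ⟨h'.1, by linarith [h'.2]⟩]

/-- Divisors of rational sections are unchanged along preimmersions. -/
theorem secDivFun_preimmersion (i : F ⟶ P) [IsPreimmersion i] {δ : P → ℤ} (hP : Cyc.IsSetup P δ)
    (c : ℤ) (hF : Cyc.IsSetup F (fun w => δ (i w) - c)) {L : P.Modules} (hL : PicF.IsInvertible L)
    (v : (η : P) → Cyc.secFibre L η) (hv : ∀ η, v η ≠ 0) (ζ z : F) :
    Cyc.secDivFun (fun w => δ (i w) - c) ((Scheme.Modules.pullback i).obj L) ζ (pullSec i hL v hv ζ) z =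
      Cyc.secDivFun δ L (i ζ) (v (i ζ)) (i z) := by
  by_cases h : i ζ ⤳ i z
  · obtain ⟨g, hg, h1, h2⟩ := secDivFun_local i hF hP hL v hv (i ζ) (i z) h
    rw [h1, h2 ζ z rfl rfl, divFun_preimmersion' i hP c hF ζ z g hg]
    simp
  · unfold Cyc.secDivFun
    rw [dif_neg fun h' => h (h'.1.map i.continuous), dif_neg fun h' => h h'.1]

section Support

variable {p : P ⟶ X} {δ : X → ℤ} {δP : P → ℤ} {n k : ℤ} {α : X → ℤ} {L : P.Modules}
  {t : ℕ → (η : P) → Cyc.secFibre L η} {γ : ℕ → P → ℤ}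

/-- Iterated caps of a pulled back cycle stay over the closure of the cycle. -/
lemma cap_support (hα : ∀ x, δ x ≠ k → α x = 0) (hγ0 : γ 0 = Cyc.pullFun p δP δ n α)
    (hγs : ∀ i, γ (i + 1) = Cyc.c1CapFun δP L (γ i) (t i)) :
    ∀ (i : ℕ) (x : P), γ i x ≠ 0 → δP x = k + n - i ∧ ∃ ξ, α ξ ≠ 0 ∧ ξ ⤳ p x := by
  intro i
  induction i with
  | zero =>
    intro x hx
    rw [hγ0] at hx
    unfold Cyc.pullFun at hx
    split_ifs at hx with h
    · have h1 := left_ne_zero_of_mul hx
      have h2 : δ (p x) = k := by_contra fun h2 => h1 (hα _ h2)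
      exact ⟨by rw [h, h2]; simp, p x, h1, specializes_rfl⟩
    · exact absurd rfl hx
  | succ i ih =>
    intro x hx
    rw [hγs i] at hx
    obtain ⟨η, hη⟩ : ∃ η, γ i η * Cyc.secDivFun δP L η (t i η) x ≠ 0 := by
      by_contra hall
      push Not at hall
      exact hx (finsum_eq_zero_of_forall_eq_zero hall)
    obtain ⟨h1, ξ, hξ, hsp⟩ := ih η (left_ne_zero_of_mul hη)
    have h2 := right_ne_zero_of_mul hη
    unfold Cyc.secDivFun at h2
    split_ifs at h2 with h
    · exact ⟨by push_cast; linarith [h.2], ξ, hξ, hsp.trans (h.1.map p.continuous)⟩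
    · exact absurd rfl h2

/-- Over a point of the top dimension the caps only see that point. -/
lemma eq_of_cap_ne_zero (hX : Cyc.IsSetup X δ) (hα : ∀ x, δ x ≠ k → α x = 0)
    (hγ0 : γ 0 = Cyc.pullFun p δP δ n α) (hγs : ∀ i, γ (i + 1) = Cyc.c1CapFun δP L (γ i) (t i))
    {i : ℕ} {x : P} (hx : γ i x ≠ 0) {ξ : X} (hξ : δ ξ = k) (hsp : p x ⤳ ξ) : p x = ξ := by
  obtain ⟨-, ζ, hζ, hζx⟩ := cap_support hα hγ0 hγs i x hx
  have h1 : δ ζ = k := by_contra fun h => hζ (hα _ h)
  have h2 := delta_le hX.2.2 hζx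
  exact eq_of_delta_le hX.2.2 hsp (by omega)

end Support

section Fibre

variable {K : Type u} [Field K] (p : P ⟶ X) (δ : X → ℤ) (δP : P → ℤ) (ξ : X)

/-- A presentation of the fibre over a point. -/
structure FibreData where
  /-- the fibre -/
  F : Scheme.{u}
  /-- the inclusion -/
  g : F ⟶ P
  /-- the structure map -/
  q : F ⟶ Spec (X.residueField ξ)
  /-- the identification -/
  e : F ≅ p.fiber ξ
  g_eq : g = e.hom ≫ p.fiberι ξ
  q_eq : q = e.hom ≫ p.fiberToSpecResidueField ξ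

variable {p δ δP ξ} (D : FibreData p ξ)

lemma FibreData.isPreimmersion : IsPreimmersion D.g := by
  rw [D.g_eq]; infer_instance

lemma FibreData.comm : D.q ≫ X.fromSpecResidueField ξ = D.g ≫ p := by
  rw [D.g_eq, D.q_eq, Category.assoc, Category.assoc]
  exact congrArg (D.e.hom ≫ ·) (p.fiber_fac ξ).symm

lemma FibreData.range_g : Set.range D.g = p ⁻¹' {ξ} := by
  rw [D.g_eq, ← p.range_fiberι ξ, Scheme.Hom.comp_base, TopCat.coe_comp, Set.range_comp]
  rw [show Set.range D.e.hom = Set.univ from Set.range_eq_univ.2 D.e.hom.homeomorph.surjective,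
    Set.image_univ]

lemma FibreData.apply_g (z : D.F) : p (D.g z) = ξ :=
  Set.ext_iff.1 D.range_g (D.g z) |>.1 ⟨z, rfl⟩

lemma FibreData.deltaCompat (hδ : Cyc.DeltaCompat p δP δ) :
    Cyc.DeltaCompat D.q (fun z => δP (D.g z) - δ ξ) (fun _ => 0) :=
  haveI := D.isPreimmersion
  deltaCompat_square' D.g (X.fromSpecResidueField ξ) D.q p D.comm hδ (δ ξ)
    (fun w => congrArg δ (Scheme.fromSpecResidueField_apply ξ w))

/-- The multiplicity of the fibre. -/
lemma FibreData.length_eq (z : D.F) :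
    Module.length (P.presheaf.stalk (D.g z)) (P.presheaf.stalk (D.g z) ⧸
      (maximalIdeal (X.presheaf.stalk (p (D.g z)))).map (p.stalkMap (D.g z)).hom) =
    Module.length (D.F.presheaf.stalk z) (D.F.presheaf.stalk z) := by
  obtain ⟨F, g, q, e, hg, hq⟩ := D
  subst hg hq
  let w := e.hom z
  let f := ((e.hom ≫ p.fiberι ξ).stalkMap z).hom
  have hf : Function.Surjective f := (e.hom ≫ p.fiberι ξ).stalkMap_surjective z
  have hker : RingHom.ker f = (maximalIdeal (X.presheaf.stalk (p (p.fiberι ξ w)))).map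
      (p.stalkMap (p.fiberι ξ w)).hom := by
    have h2 : f = ((e.hom.stalkMap z).hom).comp ((p.fiberι ξ).stalkMap w).hom :=
      congrArg CommRingCat.Hom.hom (Scheme.Hom.stalkMap_comp e.hom (p.fiberι ξ) z)
    refine Eq.trans ?_ (FlatMor68.FibreStalk.ker_fiberι_stalkMap p ξ w)
    rw [h2]
    exact RingHom.ker_comp_of_injective _
      (ConcreteCategory.bijective_of_isIso (e.hom.stalkMap z)).1
  have h3 := length_quot_map_of_surjective f hf (⊥ : Ideal _)
  rw [Ideal.map_bot, bot_sup_eq] at h3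
  change Module.length (P.presheaf.stalk (p.fiberι ξ w)) (P.presheaf.stalk (p.fiberι ξ w) ⧸
      (maximalIdeal (X.presheaf.stalk (p (p.fiberι ξ w)))).map (p.stalkMap (p.fiberι ξ w)).hom) = _
  rw [← hker]
  exact h3.symm.trans (Submodule.quotEquivOfEqBot (⊥ : Ideal (F.presheaf.stalk z)) rfl).length_eq

lemma FibreData.residueDegree_eq (z : D.F) : D.q.residueDegree z = p.residueDegree (D.g z) :=
  haveI := D.isPreimmersion
  residueDegree_square' D.g (X.fromSpecResidueField ξ) D.q p D.comm z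

/-- The iterated caps on the fibre. -/
theorem FibreData.cap_eq (hX : Cyc.IsSetup X δ)
    (hP : Cyc.IsSetup P δP) {k : ℤ} (hξ : δ ξ = k) {n : ℕ}
    {α : X → ℤ} (hα : ∀ x, δ x ≠ k → α x = 0) {L : P.Modules} (hL : PicF.IsInvertible L)
    (t : ℕ → (η : P) → Cyc.secFibre L η) (ht : ∀ i η, t i η ≠ 0) (γ : ℕ → P → ℤ)
    (hγ0 : γ 0 = Cyc.pullFun p δP δ n α)
    (hγs : ∀ i, γ (i + 1) = Cyc.c1CapFun δP L (γ i) (t i))
    (hF : Cyc.IsSetup D.F (fun z => δP (D.g z) - δ ξ)) (γF : ℕ → D.F → ℤ)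
    (hF0 : γF 0 = Cyc.subschemeFun (fun z => δP (D.g z) - δ ξ) n (𝟙 D.F))
    (hFs : ∀ i, γF (i + 1) = Cyc.c1CapFun (fun z => δP (D.g z) - δ ξ)
      ((Scheme.Modules.pullback D.g).obj L) (γF i) (pullSec D.g hL (t i) (ht i)))
    (i : ℕ) (z : D.F) : γ i (D.g z) = α ξ * γF i z := by
  have := D.isPreimmersion
  have hinj : Function.Injective D.g := D.g.isEmbedding.injective
  induction i generalizing z with
  | zero =>
    rw [hγ0, hF0]
    unfold Cyc.pullFun Cyc.subschemeFun
    rw [congrArg α (D.apply_g z), congrArg δ (D.apply_g z)]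
    by_cases h : δP (D.g z) = δ ξ + n
    · rw [if_pos h, if_pos (show δP (D.g z) - δ ξ = (n : ℤ) by omega),
        show {w : D.F | (𝟙 D.F : D.F ⟶ D.F) w = z} = {z} from Set.ext fun w => Iff.rfl,
        finsum_mem_singleton, ← D.length_eq z]
    · rw [if_neg h, if_neg (show ¬ δP (D.g z) - δ ξ = (n : ℤ) by omega), mul_zero]
  | succ i ih =>
    rw [hγs i, hFs i]
    show ∑ᶠ η, γ i η * Cyc.secDivFun δP L η (t i η) (D.g z) = α ξ * ∑ᶠ ζ, γF i ζ *
      Cyc.secDivFun (fun w => δP (D.g w) - δ ξ) ((Scheme.Modules.pullback D.g).obj L) ζ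
        (pullSec D.g hL (t i) (ht i) ζ) z
    rw [mul_finsum _ _]
    have hsupp : ∀ η, γ i η * Cyc.secDivFun δP L η (t i η) (D.g z) ≠ 0 → η ∈ Set.range D.g := by
      intro η hη
      have h2 := right_ne_zero_of_mul hη
      unfold Cyc.secDivFun at h2
      split_ifs at h2 with h
      · rw [D.range_g]
        exact eq_of_cap_ne_zero hX hα hγ0 hγs (left_ne_zero_of_mul hη) hξ
          (D.apply_g z ▸ h.1.map p.continuous)
      · exact absurd rfl h2
    refine (((finsum_mem_univ _).symm.trans (finsum_mem_inter_support_eq' _ Set.univ (Set.range D.g)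
      fun x hx => ⟨fun _ => hsupp x hx, fun _ => trivial⟩)).trans (finsum_mem_range hinj)).trans ?_
    refine finsum_congr fun ζ => ?_
    rw [secDivFun_preimmersion D.g hP (δ ξ) hF hL (t i) (ht i) ζ z, ih ζ, mul_assoc]

/-- The coefficient of the pushed forward cap, on the fibre. -/
theorem FibreData.map_cap_eq [LocallyOfFiniteType p] [QuasiCompact p] (hX : Cyc.IsSetup X δ)
    (hP : Cyc.IsSetup P δP) (hδ : Cyc.DeltaCompat p δP δ) {k : ℤ} (hξ : δ ξ = k) {n : ℕ}
    {α : X → ℤ} (hα : ∀ x, δ x ≠ k → α x = 0) {L : P.Modules} (hL : PicF.IsInvertible L)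
    (t : ℕ → (η : P) → Cyc.secFibre L η) (ht : ∀ i η, t i η ≠ 0) (γ : ℕ → P → ℤ)
    (hγ0 : γ 0 = Cyc.pullFun p δP δ n α)
    (hγs : ∀ i, γ (i + 1) = Cyc.c1CapFun δP L (γ i) (t i))
    (hF : Cyc.IsSetup D.F (fun z => δP (D.g z) - δ ξ)) (γF : ℕ → D.F → ℤ)
    (hF0 : γF 0 = Cyc.subschemeFun (fun z => δP (D.g z) - δ ξ) n (𝟙 D.F))
    (hFs : ∀ i, γF (i + 1) = Cyc.c1CapFun (fun z => δP (D.g z) - δ ξ)
      ((Scheme.Modules.pullback D.g).obj L) (γF i) (pullSec D.g hL (t i) (ht i)))
    (β : AlgebraicCycle P ℤ) (hβ : ⇑β = γ n) :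
    AlgebraicCycle.map p δP δ β ξ = α ξ * ∑ᶠ z : D.F, (D.q.residueDegree z : ℤ) * γF n z := by
  have := D.isPreimmersion
  have hinj : Function.Injective D.g := D.g.isEmbedding.injective
  have key := D.cap_eq hX hP hξ hα hL t ht γ hγ0 hγs hF γF hF0 hFs
  rw [map_apply_eq, ← D.range_g, finsum_mem_range hinj, mul_finsum _ _]
  refine finsum_congr fun z => ?_
  rw [hβ, key n z, D.apply_g z, D.residueDegree_eq z]
  by_cases h : δP (D.g z) = δ ξ
  · rw [if_pos h]; ring
  · rw [if_neg h, mul_zero]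
    by_cases hr : p.residueDegree (D.g z) = 0
    · rw [hr]; simp
    · exact absurd (by rw [delta_eq_of_residueDegree_ne_zero p hδ _ hr, D.apply_g z]) h

end Fibre

end Groth.Agent.Cyc90.Dev
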