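import Groth.Agent.Cyc90.Dev.Coprod
import Groth.Agent.QCSupp72.Basic
import Mathlib.RingTheory.Ideal.MinimalPrime.Localization

/-! The adic filtration of a coherent module. -/

set_option autoImplicit false
set_option backward.isDefEq.respectTransparency.types false
set_option linter.style.haveILetI false
universe u

open CategoryTheory CategoryTheory.Limits AlgebraicGeometry TopologicalSpace IsLocalRing

namespace Groth.Agent.Cyc90.Dev

open QC70

variable {X : Scheme.{u}} (I : X.IdealSheafData) (F : X.Modules)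

/-- The steps of the filtration. -/
noncomputable def powMod : ℕ → X.Modules
  | 0 => F
  | n + 1 => (Dual3.idealMul I).obj (powMod n)

/-- Their inclusions. -/
noncomputable def powι : (n : ℕ) → (powMod I F n ⟶ F)
  | 0 => 𝟙 F
  | n + 1 => Dual3.idealMulι I (powMod I F n) ≫ powι n

/-- The graded pieces. -/
noncomputable abbrev gr (n : ℕ) : X.Modules := (quotSC I (powMod I F n)).X₃

instance mono_powι : ∀ n, Mono (powι I F n)
  | 0 => show Mono (𝟙 F) from inferInstance
  | n + 1 =>
    have := mono_powι n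
    show Mono (Dual3.idealMulι I (powMod I F n) ≫ powι I F n) from inferInstance

variable {I F}

lemma isCoh_powMod [IsLocallyNoetherian X] (hF : Coh.IsCoh F) : ∀ n, Coh.IsCoh (powMod I F n)
  | 0 => hF
  | n + 1 => isCoh_idealMul I (isCoh_powMod hF n)

lemma support_powMod (n : ℕ) : CohB1.support (powMod I F n) ⊆ CohB1.support F :=
  mem_support_of_mono (powι I F n)

lemma support_gr (n : ℕ) : CohB1.support (gr I F n) ⊆ CohB1.support F :=
  (support_quot_subset_left I _).trans (support_powMod n)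

lemma powι_app_mem [IsLocallyNoetherian X] (hF : Coh.IsCoh F) (U : X.affineOpens) :
    ∀ (n : ℕ) (s : Γ(powMod I F n, U.1)),
      (powι I F n).app U.1 s ∈ (I.ideal U ^ n • ⊤ : Submodule Γ(X, U.1) Γ(F, U.1))
  | 0, s => by
    rw [pow_zero, Ideal.one_eq_top, Submodule.top_smul]
    trivial
  | n + 1, s => by
    haveI := (isCoh_powMod (I := I) hF n).1
    have h : (Dual3.idealMulι I (powMod I F n)).app U.1 s ∈
        (I.ideal U • ⊤ : Submodule Γ(X, U.1) Γ(powMod I F n, U.1)) :=
      (mem_idealMul_iff I (powMod I F n) U _).1 ⟨s, rfl⟩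
    change (powι I F n).app U.1 ((Dual3.idealMulι I (powMod I F n)).app U.1 s) ∈ _
    refine Submodule.smul_induction_on h (fun a ha t _ => ?_) (fun p q hp hq => ?_)
    · rw [Scheme.Modules.Hom.app_smul, pow_succ', ← smul_eq_mul, Submodule.smul_assoc]
      exact Submodule.smul_mem_smul ha (powι_app_mem hF U n t)
    · rw [map_add]
      exact add_mem hp hq

theorem locFin_powMod [IsLocallyNoetherian X] (hF : Coh.IsCoh F)
    (hsupp : CohB1.support F ⊆ (I.support : Set X)) :
    LocFin fun j : ULift.{u} ℕ => powMod I F j.down := by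
  intro x
  obtain ⟨_, ⟨U, hU, rfl⟩, hxU, -⟩ :=
    X.isBasis_affineOpens.exists_subset_of_mem_open (Set.mem_univ x) isOpen_univ
  obtain ⟨_, _⟩ := hF
  obtain ⟨n, hn⟩ := QCSupp72.exists_pow_le_annihilator F I hsupp ⟨U, hU⟩
  refine ⟨U, U.2, hxU, (((Set.finite_lt_nat n).image ULift.up)).subset ?_⟩
  rintro ⟨j⟩ ⟨y, hy, hyU⟩
  refine ⟨j, ?_, rfl⟩
  change j < n
  by_contra hjn
  refine hy ?_
  haveI := (isCoh_powMod (I := I) (F := F) ⟨‹_›, ‹_›⟩ j).1
  refine (QCSupp72.subsingleton_stalk_iff _ hU hyU).2 fun t => ⟨1, ?_, ?_⟩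
  · exact fun h => (hU.primeIdealOf ⟨y, hyU⟩).isPrime.ne_top ((Ideal.eq_top_iff_one _).2 h)
  · rw [one_smul]
    refine app_injective_of_mono (powι I F j) _ ?_
    rw [map_zero]
    refine Submodule.smul_induction_on (powι_app_mem ⟨‹_›, ‹_›⟩ ⟨U, hU⟩ j t)
      (fun a ha s _ => ?_) (fun p q hp hq => by rw [hp, hq, add_zero])
    exact Module.mem_annihilator.1
      (hn (Ideal.pow_le_pow_right (Nat.le_of_not_lt hjn) ha)) s

variable (I F)

/-- The map to the next step. -/
noncomputable def shiftUp :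
    (∐ fun j : ULift.{u} ℕ => powMod I F (j.down + 1)) ⟶ ∐ fun j : ULift.{u} ℕ => powMod I F j.down :=
  Sigma.desc fun j => Sigma.ι (fun j : ULift.{u} ℕ => powMod I F j.down) ⟨j.down + 1⟩

/-- The component maps to the first summand. -/
noncomputable def headComp : (n : ℕ) → (powMod I F n ⟶ F)
  | 0 => 𝟙 F
  | _ + 1 => 0

/-- The component maps to the other summands. -/
noncomputable def tailComp :
    (n : ℕ) → (powMod I F n ⟶ ∐ fun j : ULift.{u} ℕ => powMod I F (j.down + 1))
  | 0 => 0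
  | n + 1 => Sigma.ι (fun j : ULift.{u} ℕ => powMod I F (j.down + 1)) ⟨n⟩

lemma tail_head (n : ℕ) :
    tailComp I F n ≫ shiftUp I F +
      headComp I F n ≫ Sigma.ι (fun j : ULift.{u} ℕ => powMod I F j.down) ⟨0⟩ =
      Sigma.ι (fun j : ULift.{u} ℕ => powMod I F j.down) ⟨n⟩ := by
  cases n with
  | zero =>
    change (0 : powMod I F 0 ⟶ _) ≫ shiftUp I F +
      𝟙 (powMod I F 0) ≫ Sigma.ι (fun j : ULift.{u} ℕ => powMod I F j.down) ⟨0⟩ = _
    rw [zero_comp, zero_add, Category.id_comp]
  | succ n =>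
    change Sigma.ι (fun j : ULift.{u} ℕ => powMod I F (j.down + 1)) ⟨n⟩ ≫ shiftUp I F +
      (0 : powMod I F (n + 1) ⟶ powMod I F 0) ≫
        Sigma.ι (fun j : ULift.{u} ℕ => powMod I F j.down) ⟨0⟩ = _
    rw [zero_comp, add_zero, shiftUp, Sigma.ι_desc]

/-- The shift sequence of the filtration. -/
noncomputable def shiftSC : ShortComplex X.Modules :=
  ShortComplex.mk (shiftUp I F) (Sigma.desc fun j => headComp I F j.down)
    (Sigma.hom_ext _ _ fun j => by
      rw [shiftUp, Sigma.ι_desc_assoc, Sigma.ι_desc, comp_zero]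
      rfl)

lemma shiftSC_shortExact : (shiftSC I F).ShortExact :=
  ShortComplex.Splitting.shortExact
    { r := Sigma.desc fun j => tailComp I F j.down
      s := Sigma.ι (fun j : ULift.{u} ℕ => powMod I F j.down) ⟨0⟩
      f_r := Sigma.hom_ext _ _ fun j => by
        change Sigma.ι (fun j : ULift.{u} ℕ => powMod I F (j.down + 1)) j ≫
          (shiftUp I F ≫ Sigma.desc fun j : ULift.{u} ℕ => tailComp I F j.down) =
          Sigma.ι (fun j : ULift.{u} ℕ => powMod I F (j.down + 1)) j ≫ 𝟙 _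
        rw [shiftUp, Sigma.ι_desc_assoc, Sigma.ι_desc, Category.comp_id]
        rfl
      s_g := Sigma.ι_desc (fun j : ULift.{u} ℕ => headComp I F j.down) ⟨0⟩
      id := Sigma.hom_ext _ _ fun j => by
        change Sigma.ι (fun j : ULift.{u} ℕ => powMod I F j.down) j ≫
          ((Sigma.desc fun j : ULift.{u} ℕ => tailComp I F j.down) ≫ shiftUp I F +
            (Sigma.desc fun j : ULift.{u} ℕ => headComp I F j.down) ≫
              Sigma.ι (fun j : ULift.{u} ℕ => powMod I F j.down) ⟨0⟩) =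
          Sigma.ι (fun j : ULift.{u} ℕ => powMod I F j.down) j ≫ 𝟙 _
        rw [Preadditive.comp_add, Sigma.ι_desc_assoc, Sigma.ι_desc_assoc, Category.comp_id]
        exact tail_head I F j.down }

/-- The graded sequence of the filtration. -/
noncomputable def grSC : ShortComplex X.Modules :=
  sumMap fun j : ULift.{u} ℕ => quotSC I (powMod I F j.down)

lemma grSC_shortExact : (grSC I F).ShortExact :=
  sumMap_shortExact _ fun _ => quotSC_shortExact _ _

variable {I F} {δ : X → ℤ} {a k : ℤ}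

lemma cohLe_filt [IsLocallyNoetherian X] (hF : Cyc.CohLe δ k F)
    (hsupp : CohB1.support F ⊆ (I.support : Set X)) :
    Cyc.CohLe δ k (shiftSC I F).X₁ ∧ Cyc.CohLe δ k (shiftSC I F).X₂ ∧ Cyc.CohLe δ k (grSC I F).X₃ := by
  have hlf := locFin_powMod hF.1 hsupp
  have h : ∀ {M : X.Modules}, Coh.IsCoh M → CohB1.support M ⊆ CohB1.support F → Cyc.CohLe δ k M :=
    fun hM hs => ⟨hM, fun x hx => hF.2 x
      (not_subsingleton_iff_nontrivial.1 (hs (not_subsingleton_iff_nontrivial.2 hx)))⟩
  refine ⟨cohLe_coprod (fun j => h (isCoh_powMod hF.1 _) (support_powMod _))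
      (hlf.mono fun j => by
        haveI : Mono (Dual3.idealMulι I (powMod I F j.down)) := Dual3.mono_idealMulι I _
        have h := mem_support_of_mono (Dual3.idealMulι I (powMod I F j.down))
        exact h),
    cohLe_coprod (fun j => h (isCoh_powMod hF.1 _) (support_powMod _)) hlf,
    cohLe_coprod (fun j => h (isCoh_quot I (isCoh_powMod hF.1 _)) (support_gr _))
      (hlf.mono fun j => support_quot_subset_left I _)⟩

/-- A module has the class of the sum of its graded pieces. -/
theorem toK_eq_gr [IsLocallyNoetherian X] (hF : Cyc.CohLe δ k F)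
    (hsupp : CohB1.support F ⊆ (I.support : Set X)) {b : ℤ} (hka : k ≤ a) :
    Cyc.toK0CohQuot δ a b F = Cyc.toK0CohQuot δ a b (grSC I F).X₃ := by
  obtain ⟨h1, h2, h3⟩ := cohLe_filt hF hsupp
  have e1 := toK_add (b := b) (shiftSC_shortExact I F) (cohLe_mono h1 hka) (cohLe_mono h2 hka)
    (cohLe_mono hF hka)
  have e2 := toK_add (b := b) (grSC_shortExact I F) (cohLe_mono h1 hka) (cohLe_mono h2 hka)
    (cohLe_mono h3 hka)
  change Cyc.toK0CohQuot δ a b (shiftSC I F).X₂ =
    Cyc.toK0CohQuot δ a b (shiftSC I F).X₁ + Cyc.toK0CohQuot δ a b F at e1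
  change Cyc.toK0CohQuot δ a b (shiftSC I F).X₂ =
    Cyc.toK0CohQuot δ a b (shiftSC I F).X₁ + Cyc.toK0CohQuot δ a b (grSC I F).X₃ at e2
  exact add_left_cancel (e1.symm.trans e2)

theorem sheafFun_eq_gr (hX : Cyc.IsSetup X δ) (hF : Cyc.CohLe δ k F)
    (hsupp : CohB1.support F ⊆ (I.support : Set X)) :
    Cyc.sheafFun δ k F = Cyc.sheafFun δ k (grSC I F).X₃ := by
  haveI := hX.1
  obtain ⟨-, h2, -⟩ := cohLe_filt hF hsupp
  have e1 := sheafFun_shortExact hX k _ (shiftSC_shortExact I F) h2.1 h2.2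
  have e2 := sheafFun_shortExact hX k _ (grSC_shortExact I F) h2.1 h2.2
  change Cyc.sheafFun δ k (shiftSC I F).X₂ = Cyc.sheafFun δ k (shiftSC I F).X₁ + Cyc.sheafFun δ k F at e1
  change Cyc.sheafFun δ k (shiftSC I F).X₂ =
    Cyc.sheafFun δ k (shiftSC I F).X₁ + Cyc.sheafFun δ k (grSC I F).X₃ at e2
  exact add_left_cancel (e1.symm.trans e2)

end Groth.Agent.Cyc90.Dev
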