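import Groth.Agent.Cyc90.Dev.HasFilt
import Groth.Agent.EGAProj74.TildeRows
import Groth.Agent.Formal27.HomCompl
import Groth.Agent.Props58.LocFree.Criteria

/-! Bases of extensions by invertible modules. -/

set_option autoImplicit false
set_option backward.isDefEq.respectTransparency.types false
set_option synthInstance.maxHeartbeats 200000
universe u

open CategoryTheory CategoryTheory.Limits AlgebraicGeometry TopologicalSpace Opposite

noncomputable section

namespace Groth.Agent.Cyc90.Dev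

open QC70 Props58.LocFree
open Var76.LineBundle (IsFrame)

variable {X : Scheme.{u}} {A B L : X.Modules}

/-- A basis of the sub, and a lift of a frame of the quotient. -/
theorem stalkBasis_cons {a : A ⟶ B} {b : B ⟶ L} {w : a ≫ b = 0} (hs : (ShortComplex.mk a b w).ShortExact)
    {U : X.Opens} {n : ℕ} {s : Fin n → Γ(A, U)} (hsA : StalkBasis s) {g : Γ(L, U)} (hg : IsFrame L U g)
    {m : Γ(B, U)} (hm : b.app U m = g) :
    StalkBasis (Fin.cons m (fun i => a.app U (s i)) : Fin (n + 1) → Γ(B, U)) := by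
  haveI := hs.mono_f
  refine Formal27.stalkBasis_of_bijective fun W hW => ?_
  have hcomb : ∀ c : Fin (n + 1) → Γ(X, W),
      ∑ i, c i • res B hW ((Fin.cons m (fun i => a.app U (s i)) : Fin (n + 1) → Γ(B, U)) i) =
        c 0 • res B hW m + a.app W (∑ i, c i.succ • res A hW (s i)) := by
    intro c
    rw [Fin.sum_univ_succ, map_sum]
    simp only [Fin.cons_zero, Fin.cons_succ, Scheme.Modules.Hom.app_smul, QC70.app_res]
  have hba : ∀ z, b.app W (a.app W z) = 0 := fun z => by
    show (a ≫ b).app W z = 0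
    rw [w]; rfl
  have hb : ∀ c : Fin (n + 1) → Γ(X, W),
      b.app W (c 0 • res B hW m + a.app W (∑ i, c i.succ • res A hW (s i))) = c 0 • res L hW g := fun c => by
    rw [map_add, hba, add_zero, Scheme.Modules.Hom.app_smul, QC70.app_res, hm]
  refine ⟨fun c c' h => ?_, fun z => ?_⟩
  · dsimp only at h
    rw [hcomb, hcomb] at h
    have h0 : c 0 = c' 0 := (hg W hW).1 (by
      show c 0 • res L hW g = c' 0 • res L hW g
      rw [← hb c, ← hb c', h])
    rw [h0] at h
    have h1 := hsA.eq_of_comb hW (EGAProj74.app_injective_of_mono a W (add_left_cancel h))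
    funext i
    exact Fin.cases h0 (fun i => congrFun h1 i) i
  · obtain ⟨c0, hc0⟩ := (hg W hW).2 (b.app W z)
    obtain ⟨y, hy⟩ := QC70.exists_app_eq_of_exact _ hs.exact W (z - c0 • res B hW m) (by
      show b.app W (z - c0 • res B hW m) = 0
      rw [map_sub, Scheme.Modules.Hom.app_smul, QC70.app_res, hm, sub_eq_zero]
      exact hc0.symm)
    obtain ⟨c, rfl⟩ := hsA.exists_comb hW y
    refine ⟨Fin.cons c0 c, (hcomb _).trans ?_⟩
    simp only [Fin.cons_zero, Fin.cons_succ]
    exact eq_add_of_sub_eq' hy.symm |>.symm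

/-- Bases of an extension near a point. -/
theorem exists_stalkBasis_cons {a : A ⟶ B} {b : B ⟶ L} {w : a ≫ b = 0}
    (hs : (ShortComplex.mk a b w).ShortExact) (hL : PicF.IsInvertible L) {n : ℕ}
    (hA : ∀ x : X, ∃ (U : X.Opens) (s : Fin n → Γ(A, U)), x ∈ U ∧ StalkBasis s) (x : X) :
    ∃ (U : X.Opens) (s : Fin n → Γ(A, U)) (g : Γ(L, U)) (m : Γ(B, U)),
      x ∈ U ∧ StalkBasis s ∧ IsFrame L U g ∧ b.app U m = g := by
  obtain ⟨U₁, s, hx₁, hs₁⟩ := hA x
  obtain ⟨U₂, hx₂, g, hg⟩ := Mero90.exists_frame' hL x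
  haveI : Epi b := hs.epi_g
  obtain ⟨V, hV, m, hxV, hm⟩ := QC70.exists_local_lift b (res L (inf_le_right : U₁ ⊓ U₂ ≤ U₂) g)
    (show x ∈ U₁ ⊓ U₂ from ⟨hx₁, hx₂⟩)
  refine ⟨V, fun i => res A (hV.trans inf_le_left) (s i), res L (hV.trans inf_le_right) g, m, hxV,
    hs₁.restrict _, Var76.LineBundle.IsFrame.res hg _, ?_⟩
  rw [hm, res_res]

/-- Filtered modules have bases of as many elements as pieces. -/
theorem HasFilt.exists_stalkBasis {M : X.Modules} {ls : List X.Modules} (h : HasFilt M ls) :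
    ∀ x : X, ∃ (U : X.Opens) (s : Fin ls.length → Γ(M, U)), x ∈ U ∧ StalkBasis s := by
  induction h with
  | @zero M h0 =>
    intro x
    refine ⟨⊤, fun i => i.elim0, trivial, Formal27.stalkBasis_of_bijective fun W hW => ?_⟩
    refine ⟨fun c c' _ => funext fun i => i.elim0, fun z => ⟨fun i => i.elim0, ?_⟩⟩
    have e : 𝟙 M = 0 := h0.eq_of_src _ _
    refine Eq.trans ?_ (congrArg (fun φ : M ⟶ M => φ.app W z) e).symm
    exact Finset.sum_eq_zero fun i _ => i.elim0
  | step a b w hs hL _ ih =>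
    intro x
    obtain ⟨U, s, g, m, hx, h1, h2, h3⟩ := exists_stalkBasis_cons hs hL ih x
    exact ⟨U, _, hx, stalkBasis_cons hs h1 h2 h3⟩

lemma HasFilt.isFinLocFreeOfRank {M : X.Modules} {ls : List X.Modules} (h : HasFilt M ls) :
    FlatMod.IsFinLocFreeOfRank ls.length M := fun x => by
  obtain ⟨U, s, hx, hs⟩ := h.exists_stalkBasis x
  exact ⟨U, hx, nonempty_iso_of_stalkBasis hs⟩

lemma HasFilt.isFinLocFree {M : X.Modules} {ls : List X.Modules} (h : HasFilt M ls) :
    FlatMod.IsFinLocFree M := fun x => by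
  obtain ⟨U, hx, e⟩ := h.isFinLocFreeOfRank x
  exact ⟨U, _, hx, e⟩

end Groth.Agent.Cyc90.Dev
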