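import Groth.Agent.Cyc90.Dev.HasFilt
import Mathlib.Data.List.OfFn
import Mathlib.Algebra.BigOperators.Fin

/-! Filtrations indexed by `Fin`. -/

set_option autoImplicit false
set_option backward.isDefEq.respectTransparency.types false
universe u

open CategoryTheory CategoryTheory.Limits AlgebraicGeometry

noncomputable section

namespace Groth.Agent.Cyc90.Dev

lemma hasFilt_of_fin {X : Scheme.{u}} : ∀ (r : ℕ) (M : Fin (r + 1) → X.Modules) (L : Fin r → X.Modules)
    (a : ∀ i : Fin r, M (Fin.castSucc i) ⟶ M (Fin.succ i)) (b : ∀ i : Fin r, M (Fin.succ i) ⟶ L i)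
    (hab : ∀ i, a i ≫ b i = 0), (∀ i, (ShortComplex.mk (a i) (b i) (hab i)).ShortExact) →
    IsZero (M 0) → (∀ i, PicF.IsInvertible (L i)) → HasFilt (M (Fin.last r)) (List.ofFn L).reverse
  | 0, _, _, _, _, _, _, h0, _ => by simpa using HasFilt.zero h0
  | r + 1, M, L, a, b, hab, hex, h0, hL => by
    have h := hasFilt_of_fin r (fun i => M i.castSucc) (fun i => L i.castSucc) (fun i => a i.castSucc)
      (fun i => b i.castSucc) (fun i => hab i.castSucc) (fun i => hex i.castSucc) h0 (fun i => hL _)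
    rw [List.ofFn_succ', List.concat_eq_append, List.reverse_append]
    exact .step (a (Fin.last r)) (b (Fin.last r)) (hab _) (hex _) (hL _) h

lemma fin_of_hasFilt {X : Scheme.{u}} : ∀ (r : ℕ) {E : X.Modules} {ls : List X.Modules},
    HasFilt E ls → ls.length = r →
    ∃ (M : Fin (r + 1) → X.Modules) (L : Fin r → X.Modules)
      (a : ∀ i : Fin r, M (Fin.castSucc i) ⟶ M (Fin.succ i)) (b : ∀ i : Fin r, M (Fin.succ i) ⟶ L i),
      IsZero (M 0) ∧ Nonempty (M (Fin.last r) ≅ E) ∧ (∀ i, PicF.IsInvertible (L i)) ∧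
        ∀ i, ∃ h : a i ≫ b i = 0, (ShortComplex.mk (a i) (b i) h).ShortExact
  | 0, E, ls, h, hl => by
    cases h with
    | zero h0 => exact ⟨fun _ => E, Fin.elim0, Fin.rec0, Fin.rec0, h0, ⟨Iso.refl _⟩, Fin.rec0, Fin.rec0⟩
    | step => simp at hl
  | r + 1, E, ls, h, hl => by
    cases h with
    | zero => simp at hl
    | @step M' _ L' ls' c d w hs hL' h' =>
      obtain ⟨M, L, a, b, hM0, ⟨e⟩, hL, hex⟩ := fin_of_hasFilt r h' (by simpa using hl)
      refine ⟨Fin.snoc M E, Fin.snoc L L',
        Fin.lastCases (eqToHom (by rw [Fin.snoc_castSucc]) ≫ e.hom ≫ c ≫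
            eqToHom (by rw [Fin.succ_last, Fin.snoc_last]))
          fun i => eqToHom (by rw [Fin.snoc_castSucc]) ≫ a i ≫ eqToHom (by rw [Fin.succ_castSucc, Fin.snoc_castSucc]),
        Fin.lastCases (eqToHom (by rw [Fin.succ_last, Fin.snoc_last]) ≫ d ≫
            eqToHom (by rw [Fin.snoc_last]))
          fun i => eqToHom (by rw [Fin.succ_castSucc, Fin.snoc_castSucc]) ≫ b i ≫
            eqToHom (by rw [Fin.snoc_castSucc]), ?_, ⟨eqToIso (by rw [Fin.snoc_last])⟩, ?_, ?_⟩
      · rw [← Fin.castSucc_zero, Fin.snoc_castSucc]; exact hM0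
      · refine Fin.lastCases ?_ fun i => ?_
        · rw [Fin.snoc_last]; exact hL'
        · rw [Fin.snoc_castSucc]; exact hL i
      · refine Fin.lastCases ?_ fun i => ?_
        · simp only [Fin.lastCases_last]
          refine ⟨by simp [reassoc_of% w], ShortComplex.shortExact_of_iso ?_ hs⟩
          refine ShortComplex.isoMk (e.symm ≪≫ eqToIso (by dsimp only; rw [Fin.snoc_castSucc]))
            (eqToIso (by dsimp only; rw [Fin.succ_last, Fin.snoc_last])) (eqToIso (by dsimp only; rw [Fin.snoc_last])) ?_ ?_ <;>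
          simp
        · simp only [Fin.lastCases_castSucc]
          obtain ⟨hw, hse⟩ := hex i
          refine ⟨by simp [reassoc_of% hw], ShortComplex.shortExact_of_iso ?_ hse⟩
          refine ShortComplex.isoMk (eqToIso (by dsimp only; rw [Fin.snoc_castSucc]))
            (eqToIso (by dsimp only; rw [Fin.succ_castSucc, Fin.snoc_castSucc])) (eqToIso (by dsimp only; rw [Fin.snoc_castSucc])) ?_ ?_ <;>
          simp

end Groth.Agent.Cyc90.Dev
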