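import Groth.Agent.Cyc90.Dev.StalkSub
import Groth.Agent.KCohDev46.Main

/-! Modules with the same stalks at the top points have the same class. -/

set_option autoImplicit false
set_option backward.isDefEq.respectTransparency.types false
set_option linter.style.haveILetI false
universe u

open CategoryTheory CategoryTheory.Limits AlgebraicGeometry TopologicalSpace IsLocalRing

namespace Groth.Agent.Cyc90.Dev

open QC70

variable {X : Scheme.{u}} {δ : X → ℤ} {a b k : ℤ}

lemma toK_add {S : ShortComplex X.Modules} (hS : S.ShortExact) (h1 : Cyc.CohLe δ a S.X₁)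
    (h2 : Cyc.CohLe δ a S.X₂) (h3 : Cyc.CohLe δ a S.X₃) :
    Cyc.toK0CohQuot δ a b S.X₂ = Cyc.toK0CohQuot δ a b S.X₁ + Cyc.toK0CohQuot δ a b S.X₃ :=
  congrArg QuotientAddGroup.mk (KCohDev46.clSub_add _ S hS h1 h2 h3)

lemma toK_small {F : X.Modules} (h : Cyc.CohLe δ b F) : Cyc.toK0CohQuot δ a b F = 0 :=
  (QuotientAddGroup.eq_zero_iff _).2 (AddSubgroup.subset_closure ⟨F, h, rfl⟩)

lemma cohLe_of_isZero {M : X.Modules} (h : IsZero M) : Cyc.CohLe δ a M :=
  ⟨isCoh_of_isZero h, fun x hx => absurd hx (not_nontrivial_iff_subsingleton.2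
    ⟨fun u v => by
      have key : ∀ w : M.presheaf.stalk x, w = 0 := fun w => by
        rw [← stalkMapM_id x w, (IsZero.iff_id_eq_zero M).1 h, stalkMapM_zero]
      rw [key u, key v]⟩)⟩

lemma cohLe_of_mono [IsLocallyNoetherian X] {A B : X.Modules} (f : A ⟶ B) [Mono f]
    (hA : Coh.IsQCoh A) (hB : Cyc.CohLe δ a B) : Cyc.CohLe δ a A := by
  haveI := hA
  haveI := hB.1.1
  haveI := hB.1.2
  exact ⟨⟨hA, isFiniteType_of_mono f⟩,
    fun x hx => hB.2 x (injective_stalkMapM_of_mono f x).nontrivial⟩

lemma cohLe_ext {S : ShortComplex X.Modules} (hS : S.ShortExact) (h1 : Cyc.CohLe δ a S.X₁)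
    (h3 : Cyc.CohLe δ a S.X₃) : Cyc.CohLe δ a S.X₂ := by
  refine ⟨isCoh_X₂ S hS h1.1 h3.1, fun x hx => ?_⟩
  by_contra hlt
  have s1 : Subsingleton (S.X₁.presheaf.stalk x) := not_nontrivial_iff_subsingleton.1 fun h => hlt (h1.2 x h)
  have s3 : Subsingleton (S.X₃.presheaf.stalk x) := not_nontrivial_iff_subsingleton.1 fun h => hlt (h3.2 x h)
  refine not_subsingleton_iff_nontrivial.2 hx (subsingleton_of_forall_eq 0 fun e => ?_)
  obtain ⟨d, rfl⟩ := (Frame.stalk_exact hS x e).1 (Subsingleton.elim _ _)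
  rw [Subsingleton.elim d 0, map_zero]

section Sum

variable (G H : X.Modules)

/-- The split sequence of a sum. -/
noncomputable def sumSC : ShortComplex X.Modules :=
  ShortComplex.mk (biprod.inl : G ⟶ G ⊞ H) biprod.snd biprod.inl_snd

lemma sumSC_shortExact : (sumSC G H).ShortExact :=
  ShortComplex.Splitting.shortExact
    { r := biprod.fst
      s := biprod.inr
      f_r := biprod.inl_fst
      s_g := biprod.inr_snd
      id := biprod.total }

variable {G H}

lemma cohLe_sum (hG : Cyc.CohLe δ a G) (hH : Cyc.CohLe δ a H) : Cyc.CohLe δ a (G ⊞ H) :=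
  cohLe_ext (sumSC_shortExact G H) hG hH

lemma toK_sum (hG : Cyc.CohLe δ a G) (hH : Cyc.CohLe δ a H) :
    Cyc.toK0CohQuot δ a b (G ⊞ H) = Cyc.toK0CohQuot δ a b G + Cyc.toK0CohQuot δ a b H :=
  toK_add (sumSC_shortExact G H) hG (cohLe_sum hG hH) hH

lemma sum_stalk_exists (x : X) (g : G.presheaf.stalk x) (h : H.presheaf.stalk x) :
    ∃ e : (G ⊞ H).presheaf.stalk x,
      stalkLinear biprod.fst x e = g ∧ stalkLinear biprod.snd x e = h := by
  refine ⟨stalkLinear (biprod.inl : G ⟶ G ⊞ H) x g + stalkLinear (biprod.inr : H ⟶ G ⊞ H) x h, ?_, ?_⟩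
  · rw [map_add]
    change stalkMapM _ x (stalkMapM _ x g) + stalkMapM _ x (stalkMapM _ x h) = g
    rw [← stalkMapM_comp, ← stalkMapM_comp, biprod.inl_fst, biprod.inr_fst, stalkMapM_id,
      stalkMapM_zero, add_zero]
  · rw [map_add]
    change stalkMapM _ x (stalkMapM _ x g) + stalkMapM _ x (stalkMapM _ x h) = h
    rw [← stalkMapM_comp, ← stalkMapM_comp, biprod.inl_snd, biprod.inr_snd, stalkMapM_id,
      stalkMapM_zero, zero_add]

lemma sum_stalk_ext (x : X) {e e' : (G ⊞ H).presheaf.stalk x}
    (h1 : stalkLinear biprod.fst x e = stalkLinear biprod.fst x e')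
    (h2 : stalkLinear biprod.snd x e = stalkLinear biprod.snd x e') : e = e' := by
  have key : ∀ d : (G ⊞ H).presheaf.stalk x, d =
      stalkLinear (biprod.inl : G ⟶ G ⊞ H) x (stalkLinear biprod.fst x d) +
        stalkLinear (biprod.inr : H ⟶ G ⊞ H) x (stalkLinear biprod.snd x d) := fun d => by
    change d = stalkMapM _ x (stalkMapM _ x d) + stalkMapM _ x (stalkMapM _ x d)
    rw [← stalkMapM_comp, ← stalkMapM_comp, ← stalkMapM_add, biprod.total, stalkMapM_id]
  rw [key e, key e', h1, h2]

end Sum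

section Graph

variable {G H : X.Modules} (c : ∀ η : X, δ η = k → (G.presheaf.stalk η →ₗ[X.presheaf.stalk η] H.presheaf.stalk η))

/-- The graph of maps of stalks at the top points. -/
noncomputable def graphN (η : X) (hη : δ η = k) :
    Submodule (X.presheaf.stalk η) ((G ⊞ H).presheaf.stalk η) :=
  LinearMap.eqLocus (c η hη ∘ₗ stalkLinear biprod.fst η) (stalkLinear biprod.snd η)

/-- The graph. -/
noncomputable def graph : X.Modules := (stalkSub (graphN c)).mod

/-- The first projection. -/
noncomputable def graphFst : graph c ⟶ G := (stalkSub (graphN c)).ι ≫ biprod.fst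

/-- The second projection. -/
noncomputable def graphSnd : graph c ⟶ H := (stalkSub (graphN c)).ι ≫ biprod.snd

variable (hX : Cyc.IsSetup X δ) (hG : Cyc.CohLe δ k G) (hH : Cyc.CohLe δ k H)
include hX hG hH

lemma cohLe_graph : Cyc.CohLe δ k (graph c) := cohLe_stalkSub _ hX (cohLe_sum hG hH)

lemma graphSnd_stalk {η : X} (hη : δ η = k) (d : (graph c).presheaf.stalk η) :
    stalkLinear (graphSnd c) η d = c η hη (stalkLinear (graphFst c) η d) := by
  have h : stalkLinear (stalkSub (graphN c)).ι η d ∈ graphN c η hη := by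
    rw [← range_stalk_stalkSub (graphN c) hX (cohLe_sum hG hH) hη]
    exact LinearMap.mem_range_self _ _
  change stalkMapM (_ ≫ _) η d = c η hη (stalkMapM (_ ≫ _) η d)
  rw [stalkMapM_comp, stalkMapM_comp]
  exact h.symm

lemma bijective_graphFst {η : X} (hη : δ η = k) :
    Function.Bijective (stalkMapM (graphFst c) η) := by
  constructor
  · intro d d' e
    apply injective_stalkMapM_of_mono (stalkSub (graphN c)).ι η
    refine sum_stalk_ext η ?_ ?_
    · change stalkMapM _ η (stalkMapM _ η d) = stalkMapM _ η (stalkMapM _ η d')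
      rw [← stalkMapM_comp, ← stalkMapM_comp]
      exact e
    · change stalkMapM _ η (stalkMapM _ η d) = stalkMapM _ η (stalkMapM _ η d')
      rw [← stalkMapM_comp, ← stalkMapM_comp]
      change stalkLinear (graphSnd c) η d = stalkLinear (graphSnd c) η d'
      rw [graphSnd_stalk c hX hG hH hη, graphSnd_stalk c hX hG hH hη]
      exact congrArg (c η hη) e
  · intro g
    obtain ⟨e, he1, he2⟩ := sum_stalk_exists (H := H) η g (c η hη g)
    obtain ⟨d, hd⟩ : e ∈ LinearMap.range (stalkLinear (stalkSub (graphN c)).ι η) := by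
      rw [range_stalk_stalkSub _ hX (cohLe_sum hG hH) hη]
      change c η hη (stalkLinear biprod.fst η e) = stalkLinear biprod.snd η e
      rw [he1, he2]
    refine ⟨d, ?_⟩
    change stalkMapM (_ ≫ _) η d = g
    rw [stalkMapM_comp]
    change stalkLinear biprod.fst η (stalkLinear _ η d) = g
    rw [hd, he1]

end Graph

lemma cohLe_pred {K M : X.Modules} (hK : Coh.IsCoh K) (hM : Cyc.CohLe δ k M)
    (hsub : ∀ x, Subsingleton (M.presheaf.stalk x) → Subsingleton (K.presheaf.stalk x))
    (h0 : ∀ η, δ η = k → Subsingleton (K.presheaf.stalk η)) : Cyc.CohLe δ (k - 1) K := by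
  refine ⟨hK, fun x hx => ?_⟩
  have hn : Nontrivial (M.presheaf.stalk x) :=
    not_subsingleton_iff_nontrivial.1 fun h => not_subsingleton_iff_nontrivial.2 hx (hsub x h)
  have h1 := hM.2 x hn
  have h2 : δ x ≠ k := fun e => not_subsingleton_iff_nontrivial.2 hx (h0 x e)
  omega

/-- The difference of source and target is the difference of kernel and cokernel. -/
lemma toK_ker_coker {P G : X.Modules} [IsLocallyNoetherian X] (u : P ⟶ G) (hP : Cyc.CohLe δ a P)
    (hG : Cyc.CohLe δ a G) :
    Cyc.toK0CohQuot δ a b P - Cyc.toK0CohQuot δ a b (kernel u) =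
      Cyc.toK0CohQuot δ a b G - Cyc.toK0CohQuot δ a b (cokernel u) := by
  have hK : Cyc.CohLe δ a (kernel u) := cohLe_of_mono (kernel.ι u) (isCoh_kernel u hP.1 hG.1.1).1 hP
  have hC : Cyc.CohLe δ a (cokernel u) := ⟨isCoh_cokernel u hP.1.1 hG.1, fun x hx =>
    hG.2 x (surjective_stalkMapM_of_epi (cokernel.π u) x).nontrivial⟩
  have hI : Cyc.CohLe δ a (Abelian.image u) :=
    cohLe_of_mono (Abelian.image.ι u) (isCoh_kernel _ hG.1 hC.1.1).1 hG
  have s1 : (ShortComplex.mk (kernel.ι u) (Abelian.factorThruImage u) (by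
      rw [← cancel_mono (Abelian.image.ι u), Category.assoc, Abelian.image.fac, kernel.condition,
        zero_comp])).ShortExact :=
    { exact := ShortComplex.exact_of_f_is_kernel _
        (KernelFork.IsLimit.ofι _ _
          (fun g hg => kernel.lift u g (by rw [← Abelian.image.fac u, ← Category.assoc, hg, zero_comp]))
          (fun g hg => kernel.lift_ι _ _ _)
          (fun g hg m hm => by
            rw [← cancel_mono (kernel.ι u), kernel.lift_ι]; exact hm))
      mono_f := inferInstance
      epi_g := inferInstance }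
  have s2 : (ShortComplex.mk (Abelian.image.ι u) (cokernel.π u) (kernel.condition _)).ShortExact :=
    { exact := ShortComplex.exact_of_f_is_kernel _ (kernelIsKernel _)
      mono_f := inferInstance
      epi_g := inferInstance }
  have e1 := toK_add (b := b) s1 hK hP hI
  have e2 := toK_add (b := b) s2 hI hG hC
  simp only at e1 e2
  rw [e1, e2]
  abel

/-- A map bijective at the top points preserves the class. -/
lemma toK_eq_of_bijective [IsLocallyNoetherian X] {P G : X.Modules} (u : P ⟶ G)
    (hP : Cyc.CohLe δ k P) (hG : Cyc.CohLe δ k G) (hka : k ≤ a)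
    (hu : ∀ η, δ η = k → Function.Bijective (stalkMapM u η)) :
    Cyc.toK0CohQuot δ a (k - 1) P = Cyc.toK0CohQuot δ a (k - 1) G := by
  have e := toK_ker_coker (b := k - 1) u (cohLe_mono hP hka) (cohLe_mono hG hka)
  have hK : Cyc.CohLe δ (k - 1) (kernel u) :=
    cohLe_pred (isCoh_kernel u hP.1 hG.1.1) hP
      (fun x h => subsingleton_stalk_of_mono (kernel.ι u) x h)
      fun η hη => subsingleton_stalk_kernel u η (hu η hη).1
  have hC : Cyc.CohLe δ (k - 1) (cokernel u) :=
    cohLe_pred (isCoh_cokernel u hP.1.1 hG.1) hG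
      (fun x h => (surjective_stalkMapM_of_epi (cokernel.π u) x).subsingleton)
      fun η hη => subsingleton_stalk_cokernel u η (hu η hη).2
  rwa [toK_small hK, toK_small hC, sub_zero, sub_zero] at e

/-- Modules with isomorphic stalks at the top points have the same class. -/
theorem toK_eq_of_stalk_equiv (hX : Cyc.IsSetup X δ) {G H : X.Modules} (hG : Cyc.CohLe δ k G)
    (hH : Cyc.CohLe δ k H) (hka : k ≤ a)
    (c : ∀ η : X, δ η = k →
      Nonempty (G.presheaf.stalk η ≃ₗ[X.presheaf.stalk η] H.presheaf.stalk η)) :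
    Cyc.toK0CohQuot δ a (k - 1) G = Cyc.toK0CohQuot δ a (k - 1) H := by
  haveI := hX.1
  let f := fun η hη => (c η hη).some.toLinearMap
  rw [← toK_eq_of_bijective (graphFst f) (cohLe_graph f hX hG hH) hG hka fun η hη =>
    bijective_graphFst f hX hG hH hη]
  refine toK_eq_of_bijective (graphSnd f) (cohLe_graph f hX hG hH) hH hka fun η hη => ?_
  have : stalkMapM (graphSnd f) η = (c η hη).some ∘ stalkMapM (graphFst f) η :=
    funext fun d => graphSnd_stalk f hX hG hH hη d
  rw [this]
  exact (c η hη).some.bijective.comp (bijective_graphFst f hX hG hH hη)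

end Groth.Agent.Cyc90.Dev
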