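import Groth.Agent.KRR40.Pull
import Groth.Agent.Mero90.Frames
import Groth.Agent.Amp73.PullTensor

/-! Modules filtered with invertible graded pieces. -/

set_option autoImplicit false
set_option backward.isDefEq.respectTransparency.types false
universe u

open CategoryTheory CategoryTheory.Limits AlgebraicGeometry

noncomputable section

namespace Groth.Agent.Cyc90.Dev

/-- A filtration with invertible graded pieces; the head of the list is the top quotient. -/
inductive HasFilt {X : Scheme.{u}} : X.Modules → List X.Modules → Prop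
  | zero {M : X.Modules} : IsZero M → HasFilt M []
  | step {M' M L : X.Modules} {ls : List X.Modules} (a : M' ⟶ M) (b : M ⟶ L) (w : a ≫ b = 0) :
      (ShortComplex.mk a b w).ShortExact → PicF.IsInvertible L → HasFilt M' ls → HasFilt M (L :: ls)

namespace HasFilt

variable {X Y : Scheme.{u}} {M N : X.Modules} {ls : List X.Modules}

lemma isInvertible (h : HasFilt M ls) : ∀ L ∈ ls, PicF.IsInvertible L := by
  induction h with
  | zero => simp
  | step a b w hs hL _ ih =>
    intro L' hL'
    rcases List.mem_cons.1 hL' with rfl | h'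
    · exact hL
    · exact ih _ h'

lemma of_iso (h : HasFilt M ls) (e : M ≅ N) : HasFilt N ls := by
  cases h with
  | zero h0 => exact .zero (h0.of_iso e.symm)
  | step a b w hs hL h' =>
    refine .step (a ≫ e.hom) (e.inv ≫ b) (by simp [w]) ?_ hL h'
    refine ShortComplex.shortExact_of_iso ?_ hs
    refine ShortComplex.isoMk (Iso.refl _) e (Iso.refl _) ?_ ?_
    · simp
    · simp

lemma isFinLocFree_of_isInvertible {L : X.Modules} (hL : PicF.IsInvertible L) : FlatMod.IsFinLocFree L :=
  fun x => by
    obtain ⟨U, hx, h⟩ := Mero90.isFinLocFreeOfRank_of_isInvertible hL x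
    exact ⟨U, 1, hx, h⟩

lemma pullback (f : Y ⟶ X) (h : HasFilt M ls) :
    HasFilt ((Scheme.Modules.pullback f).obj M) (ls.map (Scheme.Modules.pullback f).obj) := by
  induction h with
  | zero h0 => exact .zero ((Scheme.Modules.pullback f).map_isZero h0)
  | step a b w hs hL _ ih =>
    exact .step _ _ ((ShortComplex.mk a b w).map (Scheme.Modules.pullback f)).zero
      (KRR40.shortExact_pullback f hs (isFinLocFree_of_isInvertible hL))
      (Amp73.isInvertible_pullback f hL) ih

/-- Filtrations concatenate along a short exact sequence. -/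
lemma append {E₁ E E₂ : X.Modules} {l₁ l₂ : List X.Modules} (a : E₁ ⟶ E) (b : E ⟶ E₂) (w : a ≫ b = 0)
    (hs : (ShortComplex.mk a b w).ShortExact) (h₁ : HasFilt E₁ l₁) (h₂ : HasFilt E₂ l₂) :
    HasFilt E (l₂ ++ l₁) := by
  induction h₂ generalizing E with
  | zero h0 =>
    haveI := hs.mono_f
    haveI : Epi a := hs.exact.epi_f (h0.eq_of_tgt _ _)
    haveI : IsIso a := isIso_of_mono_of_epi a
    exact h₁.of_iso (asIso a)
  | @step E₂' E₂ L ls c d w' hs' hL h' ih =>
    haveI := hs.mono_f
    haveI := hs.epi_g
    haveI := hs'.mono_f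
    haveI := hs'.epi_g
    let m : kernel (b ≫ d) ⟶ E := kernel.ι _
    have hm : (ShortComplex.mk m (b ≫ d) (kernel.condition _)).ShortExact :=
      { exact := ShortComplex.exact_of_f_is_kernel _ (kernelIsKernel (b ≫ d))
        mono_f := inferInstanceAs (Mono (kernel.ι _))
        epi_g := epi_comp _ _ }
    have hc := hs'.fIsKernel
    let b' : kernel (b ≫ d) ⟶ E₂' :=
      hc.lift (KernelFork.ofι (m ≫ b) (by rw [Category.assoc]; exact kernel.condition _))
    have hb' : b' ≫ c = m ≫ b := hc.fac _ WalkingParallelPair.zero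
    let a' : E₁ ⟶ kernel (b ≫ d) := kernel.lift _ a (by rw [reassoc_of% w, zero_comp])
    have ha' : a' ≫ m = a := kernel.lift_ι _ _ _
    have w0 : a' ≫ b' = 0 := by rw [← cancel_mono c, Category.assoc, hb', reassoc_of% ha', w, zero_comp]
    have hpb : IsPullback b' m c b := by
      refine IsPullback.of_isLimit' ⟨hb'⟩ (PullbackCone.IsLimit.mk _
        (fun s => kernel.lift _ s.snd (by rw [← Category.assoc, ← s.condition, Category.assoc, w', comp_zero]))
        (fun s => ?_) (fun s => kernel.lift_ι _ _ _) fun s l _ h2 => ?_)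
      · rw [← cancel_mono c, Category.assoc, hb']
        exact (kernel.lift_ι_assoc _ _ _ _).trans s.condition.symm
      · rw [← cancel_mono m]
        exact h2.trans (kernel.lift_ι _ _ _).symm
    haveI : Epi b' := Abelian.epi_fst_of_isLimit _ _ hpb.isLimit
    haveI : Mono a' := mono_of_mono_fac ha'
    have hex : (ShortComplex.mk a' b' w0).Exact := by
      refine ShortComplex.exact_of_f_is_kernel _ (KernelFork.IsLimit.ofι _ _
        (fun x hx => hs.fIsKernel.lift (KernelFork.ofι (x ≫ m) (by
          rw [Category.assoc, ← hb', reassoc_of% hx, zero_comp]))) (fun x hx => ?_) fun x hx l hl => ?_)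
      · rw [← cancel_mono m, Category.assoc, ha']
        exact hs.fIsKernel.fac _ WalkingParallelPair.zero
      · refine Fork.IsLimit.hom_ext hs.fIsKernel ?_
        refine Eq.trans ?_ (Fork.IsLimit.lift_ι (t := KernelFork.ofι (x ≫ m) (by rw [Category.assoc, ← hb', reassoc_of% hx, zero_comp])) hs.fIsKernel).symm
        show l ≫ a = x ≫ m
        rw [← hl, Category.assoc, ha']
    exact .step m (b ≫ d) (kernel.condition _) hm hL
      (ih a' b' w0 { exact := hex, mono_f := inferInstance, epi_g := inferInstance })

end HasFilt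

end Groth.Agent.Cyc90.Dev
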