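import Groth.Agent.Cyc90.Dev.Filt
import Groth.Agent.Cyc90.Dev.AbPieces

/-! Additive functions on coherent modules and filtrations. -/

set_option autoImplicit false
set_option backward.isDefEq.respectTransparency.types false
set_option linter.style.haveILetI false
universe u w

open CategoryTheory CategoryTheory.Limits AlgebraicGeometry TopologicalSpace

namespace Groth.Agent.Cyc90.Dev

open QC70

variable {X : Scheme.{u}}

/-- A class of coherent modules closed under subobjects, quotients and locally finite sums. -/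
structure GoodClass (P : X.Modules → Prop) : Prop where
  coh : ∀ {M}, P M → Coh.IsCoh M
  sub : ∀ {A B} (f : A ⟶ B), Mono f → Coh.IsCoh A → P B → P A
  quot : ∀ {A B} (g : A ⟶ B), Epi g → Coh.IsCoh B → P A → P B
  coprod : ∀ {κ : Type u} (M : κ → X.Modules), (∀ j, P (M j)) → LocFin M → P (∐ M)

/-- A function additive in short exact sequences of `P`. -/
def IsAddFn (P : X.Modules → Prop) {A : Type w} [AddCommGroup A] (f : X.Modules → A) : Prop :=
  ∀ S : ShortComplex X.Modules, S.ShortExact → P S.X₁ → P S.X₂ → P S.X₃ → f S.X₂ = f S.X₁ + f S.X₃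

variable {P : X.Modules → Prop} {A : Type w} [AddCommGroup A] {f : X.Modules → A}

lemma isZero_coprod_pempty : IsZero (∐ fun j : PEmpty.{u + 1} => (j.elim : X.Modules)) := by
  rw [IsZero.iff_id_eq_zero]
  exact Sigma.hom_ext _ _ fun j => j.elim

lemma IsAddFn.eq_of_iso (hf : IsAddFn P f) (hP : GoodClass P) {M N : X.Modules} (i : M ≅ N) (hM : P M) :
    f M = f N := by
  obtain ⟨Z, hZ⟩ := HasZeroObject.zero (C := X.Modules)
  have hN : P N := hP.quot i.hom inferInstance (isCoh_of_iso i (hP.coh hM)) hM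
  have hPZ : P Z := hP.sub (0 : Z ⟶ M) ⟨fun g h _ => hZ.eq_of_tgt g h⟩ (isCoh_of_isZero hZ) hM
  have h1 : (ShortComplex.mk i.hom (0 : N ⟶ Z) comp_zero).ShortExact :=
    ShortComplex.Splitting.shortExact
      { r := i.inv
        s := 0
        f_r := i.hom_inv_id
        s_g := hZ.eq_of_src _ _
        id := by simp }
  have h2 : (ShortComplex.mk (𝟙 Z) (0 : Z ⟶ Z) comp_zero).ShortExact :=
    ShortComplex.Splitting.shortExact
      { r := 𝟙 Z
        s := 0
        f_r := hZ.eq_of_src _ _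
        s_g := hZ.eq_of_src _ _
        id := hZ.eq_of_src _ _ }
  have e0 : f Z = 0 := left_eq_add.1 (hf _ h2 hPZ hPZ hPZ)
  have e1 := hf _ h1 hM hN hPZ
  simp only at e1
  rw [e1, e0, add_zero]

section Swindle

variable {κ : Type u} {M : κ → X.Modules} (Φ : ∀ j, Ab.Filt (M j))

/-- The steps of a family of filtrations. -/
noncomputable abbrev famObj (p : κ × ULift.{u} ℕ) : X.Modules := (Φ p.1).obj p.2.down

/-- The shifted steps. -/
noncomputable abbrev famSucc (p : κ × ULift.{u} ℕ) : X.Modules := (Φ p.1).obj (p.2.down + 1)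

/-- The map to the next step. -/
noncomputable def famUp : (∐ famSucc Φ) ⟶ ∐ famObj Φ :=
  Sigma.desc fun p => Sigma.ι (famObj Φ) (p.1, ⟨p.2.down + 1⟩)

/-- The components of the projection on the first steps. -/
noncomputable def famHead (j : κ) : (n : ℕ) → ((Φ j).obj n ⟶ ∐ M)
  | 0 => (Φ j).ι 0 ≫ Sigma.ι M j
  | _ + 1 => 0

/-- The components of the retraction. -/
noncomputable def famTail (j : κ) : (n : ℕ) → ((Φ j).obj n ⟶ ∐ famSucc Φ)
  | 0 => 0
  | n + 1 => Sigma.ι (famSucc Φ) (j, ⟨n⟩)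

/-- The shift sequence of a family of filtrations. -/
noncomputable def famShift : ShortComplex X.Modules :=
  ShortComplex.mk (famUp Φ) (Sigma.desc fun p : κ × ULift.{u} ℕ => famHead Φ p.1 p.2.down)
    (Sigma.hom_ext _ _ fun p => by
      rw [famUp, Sigma.ι_desc_assoc, Sigma.ι_desc, comp_zero]
      rfl)

lemma famTail_head (j : κ) (n : ℕ) :
    famTail Φ j n ≫ famUp Φ +
      famHead Φ j n ≫ (Sigma.desc fun j => inv ((Φ j).ι 0) ≫ Sigma.ι (famObj Φ) (j, ⟨0⟩)) =
      Sigma.ι (famObj Φ) (j, ⟨n⟩) := by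
  cases n with
  | zero => simp [famTail, famHead]
  | succ n => simp [famTail, famHead, famUp]

lemma famShift_shortExact : (famShift Φ).ShortExact :=
  ShortComplex.Splitting.shortExact
    { r := Sigma.desc fun p : κ × ULift.{u} ℕ => famTail Φ p.1 p.2.down
      s := Sigma.desc fun j => inv ((Φ j).ι 0) ≫ Sigma.ι (famObj Φ) (j, ⟨0⟩)
      f_r := Sigma.hom_ext _ _ fun p => by
        change Sigma.ι (famSucc Φ) p ≫ (famUp Φ ≫ Sigma.desc fun p : κ × ULift.{u} ℕ => famTail Φ p.1 p.2.down) =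
          Sigma.ι (famSucc Φ) p ≫ 𝟙 _
        rw [famUp, Sigma.ι_desc_assoc, Sigma.ι_desc, Category.comp_id]
        rfl
      s_g := Sigma.hom_ext _ _ fun j => by
        change Sigma.ι M j ≫ ((Sigma.desc fun j => inv ((Φ j).ι 0) ≫ Sigma.ι (famObj Φ) (j, ⟨0⟩)) ≫
          Sigma.desc fun p : κ × ULift.{u} ℕ => famHead Φ p.1 p.2.down) = Sigma.ι M j ≫ 𝟙 _
        rw [Sigma.ι_desc_assoc, Category.assoc, Sigma.ι_desc, Category.comp_id]
        exact IsIso.inv_hom_id_assoc _ _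
      id := Sigma.hom_ext _ _ fun p => by
        change Sigma.ι (famObj Φ) p ≫ ((Sigma.desc fun p : κ × ULift.{u} ℕ => famTail Φ p.1 p.2.down) ≫ famUp Φ +
          (Sigma.desc fun p : κ × ULift.{u} ℕ => famHead Φ p.1 p.2.down) ≫
            (Sigma.desc fun j => inv ((Φ j).ι 0) ≫ Sigma.ι (famObj Φ) (j, ⟨0⟩))) =
          Sigma.ι (famObj Φ) p ≫ 𝟙 _
        rw [Preadditive.comp_add, Sigma.ι_desc_assoc, Sigma.ι_desc_assoc, Category.comp_id]
        exact famTail_head Φ p.1 p.2.down }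

lemma famObj_gr_epi (p : κ × ULift.{u} ℕ) :
    CohB1.support ((Φ p.1).gr p.2.down) ⊆ CohB1.support (famObj Φ p) :=
  mem_support_of_epi (cokernel.π ((Φ p.1).t p.2.down))

/-- A family of filtrations has the class of its graded pieces. -/
theorem IsAddFn.eq_gr (hf : IsAddFn P f) (hP : GoodClass P) (hobj : ∀ p, P (famObj Φ p))
    (hlf : LocFin (famObj Φ)) :
    f (∐ M) = f (∐ fun p : κ × ULift.{u} ℕ => (Φ p.1).gr p.2.down) := by
  have h2 := hP.coprod _ hobj hlf
  have h1 : P (∐ famSucc Φ) := hP.coprod _ (fun p => hobj (p.1, ⟨p.2.down + 1⟩))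
    (hlf.mono fun p => mem_support_of_mono ((Φ p.1).t p.2.down))
  have h3 : P (∐ fun p : κ × ULift.{u} ℕ => (Φ p.1).gr p.2.down) :=
    hP.coprod _ (fun p => hP.quot (cokernel.π ((Φ p.1).t p.2.down)) inferInstance
      (isCoh_cokernel _ (hP.coh (hobj (p.1, ⟨p.2.down + 1⟩))).1 (hP.coh (hobj p))) (hobj p))
      (hlf.mono (famObj_gr_epi Φ))
  have hM : P (∐ M) := hP.coprod _
    (fun j => hP.quot ((Φ j).ι 0) inferInstance
      (isCoh_of_iso (asIso ((Φ j).ι 0)) (hP.coh (hobj (j, ⟨0⟩)))) (hobj (j, ⟨0⟩)))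
    (fun x => by
      obtain ⟨U, hU, hxU, hfin⟩ := hlf x
      refine ⟨U, hU, hxU, (hfin.image Prod.fst).subset ?_⟩
      rintro j ⟨y, hy, hyU⟩
      exact ⟨(j, ⟨0⟩), ⟨y, mem_support_of_epi ((Φ j).ι 0) hy, hyU⟩, rfl⟩)
  have e1 := hf _ (famShift_shortExact Φ) h1 h2 hM
  have e2 := hf _ (sumMap_shortExact (fun p : κ × ULift.{u} ℕ => (Φ p.1).stepSC p.2.down)
    fun p => (Φ p.1).stepSC_shortExact p.2.down) h1 h2 h3
  change f (∐ famObj Φ) = f (∐ famSucc Φ) + f (∐ M) at e1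
  change f (∐ famObj Φ) = f (∐ famSucc Φ) + f (∐ fun p : κ × ULift.{u} ℕ => (Φ p.1).gr p.2.down) at e2
  exact add_left_cancel (e1.symm.trans e2)

end Swindle

variable {PK : X.Modules → Prop} {M : X.Modules}

/-- Two filtrations with graded pieces in a class have the same sum of pieces. -/
theorem IsAddFn.gr_eq_gr [IsLocallyNoetherian X] (hf : IsAddFn PK f) (hK : GoodClass PK)
    (hMc : Coh.IsCoh M) (F G : Ab.Filt M)
    (hFc : ∀ n, Coh.IsCoh (F.obj n)) (hGc : ∀ n, Coh.IsCoh (G.obj n))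
    (hFl : LocFin fun n : ULift.{u} ℕ => F.obj n.down) (hGl : LocFin fun n : ULift.{u} ℕ => G.obj n.down)
    (hFk : ∀ n, PK (F.gr n)) (hGk : ∀ n, PK (G.gr n)) :
    f (∐ fun n : ULift.{u} ℕ => F.gr n.down) = f (∐ fun n : ULift.{u} ℕ => G.gr n.down) := by
  have step : ∀ (F G : Ab.Filt M), (∀ n, Coh.IsCoh (F.obj n)) → (∀ n, Coh.IsCoh (G.obj n)) →
      (∀ n, PK (F.gr n)) → LocFin (fun n : ULift.{u} ℕ => F.obj n.down) →
      LocFin (fun n : ULift.{u} ℕ => G.obj n.down) →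
      f (∐ fun n : ULift.{u} ℕ => F.gr n.down) =
        f (∐ fun p : ULift.{u} ℕ × ULift.{u} ℕ => (F.induced G p.1.down).gr p.2.down) ∧
      PK (∐ fun p : ULift.{u} ℕ × ULift.{u} ℕ => (F.induced G p.1.down).gr p.2.down) := by
    intro F G hFc hGc hFk hFl hGl
    have hic : ∀ j i, Coh.IsCoh (F.inter G j i) := fun j i =>
      isCoh_kernel _ (hFc j) (isCoh_cokernel _ (hGc i).1 hMc).1
    have hobj : ∀ p : ULift.{u} ℕ × ULift.{u} ℕ,
        PK (famObj (fun j : ULift.{u} ℕ => F.induced G j.down) p) := fun p =>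
      hK.sub ((F.induced G p.1.down).ι p.2.down) inferInstance
        (isCoh_cokernel _ (hic _ _).1 (hic _ _)) (hFk _)
    have hlf : LocFin (famObj fun j : ULift.{u} ℕ => F.induced G j.down) := by
      intro x
      obtain ⟨U, hU, hxU, hfU⟩ := hFl x
      obtain ⟨V, hV, hxV, hfV⟩ := hGl x
      refine ⟨U ∩ V, hU.inter hV, ⟨hxU, hxV⟩, (hfU.prod hfV).subset ?_⟩
      rintro ⟨j, i⟩ ⟨y, hy, hyU, hyV⟩
      have hy' : y ∈ CohB1.support (F.inter G j.down i.down) :=
        mem_support_of_epi (cokernel.π (F.interT G j.down i.down)) hy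
      exact ⟨⟨y, mem_support_of_mono (kernel.ι (F.ι j.down ≫ cokernel.π (G.ι i.down))) hy', hyU⟩,
        ⟨y, mem_support_of_mono (F.interSnd G j.down i.down) hy', hyV⟩⟩
    refine ⟨hf.eq_gr (fun j : ULift.{u} ℕ => F.induced G j.down) hK hobj hlf, ?_⟩
    exact hK.coprod _ (fun p => hK.quot (cokernel.π ((F.induced G p.1.down).t p.2.down)) inferInstance
      (isCoh_cokernel _ (hK.coh (hobj (p.1, ⟨p.2.down + 1⟩))).1 (hK.coh (hobj p))) (hobj p))
      (hlf.mono (famObj_gr_epi fun j : ULift.{u} ℕ => F.induced G j.down))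
  obtain ⟨e1, hP1⟩ := step F G hFc hGc hFk hFl hGl
  obtain ⟨e2, -⟩ := step G F hGc hFc hGk hGl hFl
  rw [e1, e2]
  exact hf.eq_of_iso hK
    (Sigma.whiskerEquiv (Equiv.prodComm _ _) fun p => (F.bigrSwap G p.1.down p.2.down).symm) hP1

end Groth.Agent.Cyc90.Dev
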