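import Groth.Agent.Cyc90.Dev.K0Filt
import Groth.Agent.GSS45.ClosedRight

/-! Coherent modules supported in, or killed by the ideal of, a closed subscheme. -/

set_option autoImplicit false
set_option backward.isDefEq.respectTransparency.types false
set_option linter.style.haveILetI false
universe u w

open CategoryTheory CategoryTheory.Limits AlgebraicGeometry TopologicalSpace

namespace Groth.Agent.Cyc90.Dev

open QC70

variable {X Z : Scheme.{u}} (i : Z ⟶ X) [IsClosedImmersion i]

/-- Coherent modules supported in the image. -/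
def InSupp (G : X.Modules) : Prop :=
  Coh.IsCoh G ∧ ∀ x : X, Nontrivial (G.presheaf.stalk x) → x ∈ Set.range i

/-- The stalks are killed by the ideal of the image. -/
def KilledSt (G : X.Modules) : Prop :=
  ∀ (U : X.affineOpens) (x : X) (hx : x ∈ U.1), ∀ a ∈ i.ker.ideal U,
    ∀ e : G.presheaf.stalk x, X.presheaf.germ U.1 x hx a • e = 0

/-- Coherent modules killed by the ideal of the image. -/
def Killed (G : X.Modules) : Prop := Coh.IsCoh G ∧ KilledSt i G

lemma killedSt_of_isKilled {G : X.Modules} [G.IsQuasicoherent] (h : GSS45.Descend.IsKilled i G) :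
    KilledSt i G := by
  intro U x hx a ha e
  obtain ⟨f, t, hxf, ht⟩ := stalk_exists_smul (isLocAt_of_isQuasicoherent G U.2) U.2 hx e
  refine (isUnit_germ hxf).smul_eq_zero.1 ?_
  rw [smul_comm, ht, ← germM_smul, h U a ha t, germM_zero]

lemma isKilled_of_killedSt {G : X.Modules} (h : KilledSt i G) : GSS45.Descend.IsKilled i G := by
  intro U a ha s
  refine QC70.section_ext G _ _ fun p hp => ?_
  obtain ⟨W, hW, hpW, h0⟩ := germM_eq_zero (hx := hp) (s := a • s)
    (by rw [germM_smul]; exact h U p hp a ha _)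
  exact ⟨W, hW, hpW, by rw [h0, res_zero]⟩

lemma support_ker_eq : (i.ker.support : Set X) = Set.range i := by
  rw [Scheme.Hom.support_ker]
  exact i.isClosedEmbedding.isClosed_range.closure_eq

lemma Killed.inSupp {G : X.Modules} (h : Killed i G) : InSupp i G := by
  haveI := h.1.1
  refine ⟨h.1, fun x hx => ?_⟩
  rw [← support_ker_eq i]
  refine QC70.support_subset_of_killed (n := 1) i.ker (fun U a ha t => ?_) (not_subsingleton_iff_nontrivial.2 hx)
  rw [pow_one] at ha
  exact isKilled_of_killedSt i h.2 U a ha t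

theorem goodClass_killed [IsLocallyNoetherian X] : GoodClass (Killed i) where
  coh h := h.1
  sub {A B} f hf hA hB := ⟨hA, fun U x hx a ha e => by
    refine injective_stalkMapM_of_mono f x ?_
    refine ((stalkLinear f x).map_smul _ e).trans ((hB.2 U x hx a ha _).trans ?_)
    exact (map_zero (stalkLinear f x)).symm⟩
  quot {A B} g hg hB hA := ⟨hB, fun U x hx a ha e => by
    obtain ⟨d, rfl⟩ := surjective_stalkMapM_of_epi g x e
    refine ((stalkLinear g x).map_smul _ d).symm.trans ?_
    rw [hA.2 U x hx a ha d, map_zero]⟩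
  coprod M hM hlf := ⟨CycSh.isCoh_coproduct M (fun j => (hM j).1) hlf, fun U x hx a ha e => by
    refine stalk_coprod_ext M x fun j => ?_
    refine ((stalkLinear (coprojection M j) x).map_smul _ e).trans (((hM j).2 U x hx a ha _).trans ?_)
    exact (map_zero (stalkLinear (coprojection M j) x)).symm⟩

theorem goodClass_inSupp [IsLocallyNoetherian X] : GoodClass (InSupp i) where
  coh h := h.1
  sub {A B} f hf hA hB := ⟨hA, fun x hx => hB.2 x (injective_stalkMapM_of_mono f x).nontrivial⟩
  quot {A B} g hg hB hA := ⟨hB, fun x hx => hA.2 x (surjective_stalkMapM_of_epi g x).nontrivial⟩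
  coprod M hM hlf := ⟨CycSh.isCoh_coproduct M (fun j => (hM j).1) hlf, fun x hx => by
    by_contra hn
    exact not_subsingleton_iff_nontrivial.2 hx (CycSh.subsingleton_coprod_stalk M x fun j =>
      not_nontrivial_iff_subsingleton.1 fun h => hn ((hM j).2 x h))⟩

/-- The adic filtration. -/
noncomputable def adic (G : X.Modules) : Ab.Filt G where
  obj := powMod i.ker G
  t n := Dual3.idealMulι i.ker (powMod i.ker G n)
  ι := powι i.ker G
  mono := mono_powι i.ker G
  fac _ := rfl
  isIso₀ := inferInstanceAs (IsIso (𝟙 G))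

variable {i}

lemma inSupp_powMod [IsLocallyNoetherian X] {G : X.Modules} (hG : InSupp i G) (n : ℕ) :
    InSupp i (powMod i.ker G n) :=
  (goodClass_inSupp i).sub (powι i.ker G n) inferInstance (isCoh_powMod hG.1 n) hG

lemma killed_gr_adic [IsLocallyNoetherian X] {G : X.Modules} (hG : Coh.IsCoh G) (n : ℕ) :
    Killed i ((adic i G).gr n) := by
  have hq : Coh.IsCoh ((adic i G).gr n) := isCoh_quot i.ker (isCoh_powMod hG n)
  haveI := hq.1
  haveI := (isCoh_powMod (I := i.ker) hG n).1
  exact ⟨hq, killedSt_of_isKilled i fun U a ha t => smul_quot_eq_zero i.ker (powMod i.ker G n) U ha t⟩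

lemma locFin_adic [IsLocallyNoetherian X] {G : X.Modules} (hG : InSupp i G) :
    LocFin fun n : ULift.{u} ℕ => (adic i G).obj n.down :=
  locFin_powMod hG.1 fun x hx => (support_ker_eq i).ge (hG.2 x (not_subsingleton_iff_nontrivial.1 hx))

/-- The sum of the adic graded pieces. -/
noncomputable def adicGr (i : Z ⟶ X) [IsClosedImmersion i] (G : X.Modules) : X.Modules :=
  ∐ fun n : ULift.{u} ℕ => (adic i G).gr n.down

lemma killed_adicGr [IsLocallyNoetherian X] {G : X.Modules} (hG : InSupp i G) : Killed i (adicGr i G) :=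
  (goodClass_killed i).coprod _ (fun n => killed_gr_adic hG.1 n.down)
    ((locFin_adic hG).mono fun n => mem_support_of_epi (cokernel.π ((adic i G).t n.down)))

variable {A : Type w} [AddCommGroup A] {f : X.Modules → A}

/-- A class containing the module and all graded pieces sees no difference with the adic pieces. -/
theorem IsAddFn.eq_adicGr [IsLocallyNoetherian X] {P : X.Modules → Prop} (hf : IsAddFn P f)
    (hP : GoodClass P) {G : X.Modules} (hG : InSupp i G) (hPG : P G) : f G = f (adicGr i G) := by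
  have hobj : ∀ p : PUnit.{u + 1} × ULift.{u} ℕ, P (famObj (fun _ : PUnit.{u + 1} => adic i G) p) :=
    fun p => hP.sub ((adic i G).ι p.2.down) inferInstance (isCoh_powMod hG.1 _) hPG
  have hlf : LocFin (famObj fun _ : PUnit.{u + 1} => adic i G) := by
    intro x
    obtain ⟨U, hU, hxU, hfin⟩ := locFin_adic hG x
    refine ⟨U, hU, hxU, (hfin.image fun n => ((PUnit.unit : PUnit.{u + 1}), n)).subset ?_⟩
    rintro ⟨⟨⟩, n⟩ h
    exact ⟨n, h, rfl⟩
  have e := hf.eq_gr (fun _ : PUnit.{u + 1} => adic i G) hP hobj hlf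
  have h3 : P (adicGr i G) := hP.coprod _ (fun n => hP.quot (cokernel.π ((adic i G).t n.down)) inferInstance
      (isCoh_quot i.ker (isCoh_powMod hG.1 _)) (hobj (⟨⟩, n)))
    ((locFin_adic hG).mono fun n => mem_support_of_epi (cokernel.π ((adic i G).t n.down)))
  rw [hf.eq_of_iso hP (coproductUniqueIso fun _ : PUnit.{u + 1} => G).symm hPG, e]
  refine (hf.eq_of_iso hP ?_ h3).symm
  exact Sigma.whiskerEquiv (f := fun n : ULift.{u} ℕ => (adic i G).gr n.down)
    (g := fun p : PUnit.{u + 1} × ULift.{u} ℕ => (adic i G).gr p.2.down)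
    (Equiv.punitProd _).symm fun n => Iso.refl _

/-- An additive function on killed modules extends to supported modules. -/
theorem isAddFn_adicGr [IsLocallyNoetherian X] (hf : IsAddFn (Killed i) f) :
    IsAddFn (InSupp i) fun G => f (adicGr i G) := by
  intro S hS h1 h2 h3
  have := hS.mono_f
  have := hS.epi_g
  let FB := adic i S.X₂
  let FA : Ab.Filt S.X₁ :=
    { obj := fun n => kernel (FB.ι n ≫ S.g)
      t := fun n => kernel.lift _ (kernel.ι _ ≫ FB.t n)
        (by rw [Category.assoc, ← Category.assoc (FB.t n), FB.fac, kernel.condition])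
      ι := fun n => hS.exact.lift (kernel.ι _ ≫ FB.ι n) (by rw [Category.assoc, kernel.condition])
      mono := fun n => mono_of_mono_fac (hS.exact.lift_f _ _)
      fac := fun n => by
        rw [← cancel_mono S.f, Category.assoc, hS.exact.lift_f, hS.exact.lift_f, kernel.lift_ι_assoc,
          Category.assoc, FB.fac]
      isIso₀ := ⟨⟨kernel.lift _ (S.f ≫ inv (FB.ι 0)) (by simp), by
          rw [← cancel_mono (kernel.ι (FB.ι 0 ≫ S.g)), Category.assoc, kernel.lift_ι,
            hS.exact.lift_f_assoc, Category.assoc, IsIso.hom_inv_id, Category.comp_id, Category.id_comp], by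
          rw [← cancel_mono S.f, Category.assoc, hS.exact.lift_f, kernel.lift_ι_assoc, Category.assoc,
            IsIso.inv_hom_id, Category.comp_id, Category.id_comp]⟩⟩ }
  let FC : Ab.Filt S.X₃ :=
    { obj := fun n => Abelian.image (FB.ι n ≫ S.g)
      t := fun n => kernel.lift _ (Abelian.image.ι (FB.ι (n + 1) ≫ S.g)) (by
        rw [← cancel_epi (Abelian.factorThruImage (FB.ι (n + 1) ≫ S.g)), ← Category.assoc,
          Abelian.image.fac, ← FB.fac n, Category.assoc, Category.assoc]
        rw [← Category.assoc (FB.ι n), cokernel.condition, comp_zero, comp_zero])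
      ι := fun n => Abelian.image.ι _
      mono := fun n => inferInstance
      fac := fun n => kernel.lift_ι _ _ _
      isIso₀ := by
        have : Epi (Abelian.image.ι (FB.ι 0 ≫ S.g)) :=
          epi_of_epi_fac (Abelian.image.fac (FB.ι 0 ≫ S.g))
        exact isIso_of_mono_of_epi _ }
  let Sn : ℕ → ShortComplex X.Modules := fun n =>
    ShortComplex.mk (kernel.ι (FB.ι n ≫ S.g)) (Abelian.factorThruImage (FB.ι n ≫ S.g)) (by
      rw [← cancel_mono (Abelian.image.ι (FB.ι n ≫ S.g)), Category.assoc, Abelian.image.fac,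
        kernel.condition, zero_comp])
  have hSn : ∀ n, (Sn n).ShortExact := fun n =>
    { exact := ShortComplex.exact_of_f_is_kernel _
        (KernelFork.IsLimit.ofι _ _
          (fun g hg => kernel.lift _ g (by
            rw [← Abelian.image.fac (FB.ι n ≫ S.g), ← Category.assoc, hg, zero_comp]))
          (fun g hg => kernel.lift_ι _ _ _)
          (fun g hg m hm => by rw [← cancel_mono (kernel.ι (FB.ι n ≫ S.g)), kernel.lift_ι]; exact hm))
      mono_f := inferInstanceAs (Mono (kernel.ι _))
      epi_g := inferInstanceAs (Epi (Abelian.factorThruImage _)) }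
  let φ : ∀ n, Sn (n + 1) ⟶ Sn n := fun n =>
    { τ₁ := FA.t n
      τ₂ := FB.t n
      τ₃ := FC.t n
      comm₁₂ := kernel.lift_ι _ _ _
      comm₂₃ := by
        refine (cancel_mono (Abelian.image.ι (FB.ι n ≫ S.g))).1 ?_
        change (FB.t n ≫ Abelian.factorThruImage (FB.ι n ≫ S.g)) ≫ Abelian.image.ι (FB.ι n ≫ S.g) =
          (Abelian.factorThruImage (FB.ι (n + 1) ≫ S.g) ≫ FC.t n) ≫ FC.ι n
        rw [Category.assoc, Category.assoc, FC.fac, Abelian.image.fac, Abelian.image.fac,
          ← Category.assoc, FB.fac] }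
  have hC : ∀ n, (Ab.cokerSC (φ n)).ShortExact := fun n =>
    haveI : Mono (φ n).τ₃ := FC.mono_t n
    Ab.cokerSC_shortExact (φ n) (hSn (n + 1)) (hSn n)
  have hBc : ∀ n, Coh.IsCoh (FB.obj n) := isCoh_powMod h2.1
  have hAc : ∀ n, Coh.IsCoh (FA.obj n) := fun n => isCoh_kernel _ (hBc n) h3.1.1
  have hCc : ∀ n, Coh.IsCoh (FC.obj n) := fun n =>
    isCoh_kernel _ h3.1 (isCoh_cokernel _ (hBc n).1 h3.1).1
  have hKB : ∀ n, Killed i (FB.gr n) := killed_gr_adic h2.1
  have hKA : ∀ n, Killed i (FA.gr n) := fun n =>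
    (goodClass_killed i).sub (Ab.cokerSC (φ n)).f (hC n).mono_f
      (isCoh_cokernel _ (hAc (n + 1)).1 (hAc n)) (hKB n)
  have hKC : ∀ n, Killed i (FC.gr n) := fun n =>
    (goodClass_killed i).quot (Ab.cokerSC (φ n)).g (hC n).epi_g
      (isCoh_cokernel _ (hCc (n + 1)).1 (hCc n)) (hKB n)
  have hlB := locFin_adic h2
  have hlA : LocFin fun n : ULift.{u} ℕ => FA.obj n.down :=
    hlB.mono fun n => mem_support_of_mono (kernel.ι (FB.ι n.down ≫ S.g))
  have hlC : LocFin fun n : ULift.{u} ℕ => FC.obj n.down :=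
    hlB.mono fun n => mem_support_of_epi (Abelian.factorThruImage (FB.ι n.down ≫ S.g))
  have eA := hf.gr_eq_gr (goodClass_killed i) h1.1 FA (adic i S.X₁) hAc (isCoh_powMod h1.1) hlA
    (locFin_adic h1) hKA (killed_gr_adic h1.1)
  have eC := hf.gr_eq_gr (goodClass_killed i) h3.1 FC (adic i S.X₃) hCc (isCoh_powMod h3.1) hlC
    (locFin_adic h3) hKC (killed_gr_adic h3.1)
  have hsum : ∀ {F : ∀ n : ℕ, X.Modules}, (∀ n, Killed i (F n)) →
      (LocFin fun n : ULift.{u} ℕ => F n.down) → Killed i (∐ fun n : ULift.{u} ℕ => F n.down) :=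
    fun hF hl => (goodClass_killed i).coprod _ (fun n => hF n.down) hl
  have e := hf _ (sumMap_shortExact (fun n : ULift.{u} ℕ => Ab.cokerSC (φ n.down)) fun n => hC n.down)
    (hsum hKA (hlA.mono fun n => mem_support_of_epi (cokernel.π (FA.t n.down))))
    (hsum hKB (hlB.mono fun n => mem_support_of_epi (cokernel.π (FB.t n.down))))
    (hsum hKC (hlC.mono fun n => mem_support_of_epi (cokernel.π (FC.t n.down))))
  change f (∐ fun n : ULift.{u} ℕ => FB.gr n.down) = f (∐ fun n : ULift.{u} ℕ => FA.gr n.down) +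
    f (∐ fun n : ULift.{u} ℕ => FC.gr n.down) at e
  change f (∐ fun n : ULift.{u} ℕ => FB.gr n.down) = f (∐ fun n : ULift.{u} ℕ => (adic i S.X₁).gr n.down) +
    f (∐ fun n : ULift.{u} ℕ => (adic i S.X₃).gr n.down)
  rw [e, eA, eC]

lemma isIso_unit_of_killed {G : X.Modules} (h : Killed i G) :
    IsIso ((Scheme.Modules.pullbackPushforwardAdjunction i).unit.app G) := by
  have := GSS45.ClosedHom.full_pushforward i
  have := QC70.faithful_pushforward i
  let adj := Scheme.Modules.pullbackPushforwardAdjunction i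
  let e := GSS45.ClosedHom.pullPushIso i (isKilled_of_killedSt i h.2)
  have h1 : IsIso (adj.unit.app ((Scheme.Modules.pushforward i).obj ((Scheme.Modules.pullback i).obj G))) := inferInstance
  exact (NatTrans.isIso_app_iff_of_iso adj.unit e).1 h1

theorem exists_pullback_shortExact {S : ShortComplex X.Modules} (hS : S.ShortExact) (h1 : Killed i S.X₁)
    (h2 : Killed i S.X₂) (h3 : Killed i S.X₃) :
    ∃ T : ShortComplex Z.Modules, T.ShortExact ∧ T.X₁ = (Scheme.Modules.pullback i).obj S.X₁ ∧
      T.X₂ = (Scheme.Modules.pullback i).obj S.X₂ ∧ T.X₃ = (Scheme.Modules.pullback i).obj S.X₃ := by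
  let p := Scheme.Modules.pushforward i
  let q := Scheme.Modules.pullback i
  have := GSS45.ClosedHom.preservesFiniteLimits_pushforward i
  have := GSS45.ClosedHom.preservesFiniteColimits_pushforward i
  have := QC70.faithful_pushforward i
  have : q.IsLeftAdjoint := (Scheme.Modules.pullbackPushforwardAdjunction i).isLeftAdjoint
  have : q.PreservesZeroMorphisms := Functor.preservesZeroMorphisms_of_isLeftAdjoint q
  let η := (Scheme.Modules.pullbackPushforwardAdjunction i).unit
  have : IsIso (η.app S.X₁) := isIso_unit_of_killed h1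
  have : IsIso (η.app S.X₂) := isIso_unit_of_killed h2
  have : IsIso (η.app S.X₃) := isIso_unit_of_killed h3
  let T := S.map q
  have hT : (T.map p).ShortExact :=
    ShortComplex.shortExact_of_iso (ShortComplex.isoMk (S₁ := S) (S₂ := T.map p) (@asIso _ _ _ _ (η.app S.X₁) (isIso_unit_of_killed h1))
      (@asIso _ _ _ _ (η.app S.X₂) (isIso_unit_of_killed h2)) (@asIso _ _ _ _ (η.app S.X₃) (isIso_unit_of_killed h3)) (η.naturality S.f).symm (η.naturality S.g).symm) hS
  refine ⟨T, { exact := ?_, mono_f := ?_, epi_g := ?_ }, rfl, rfl, rfl⟩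
  · exact (T.exact_map_iff_of_faithful p).1 hT.exact
  · have : Mono (p.map T.f) := hT.mono_f
    exact p.mono_of_mono_map this
  · have : Epi (p.map T.g) := hT.epi_g
    exact p.epi_of_epi_map this

end Groth.Agent.Cyc90.Dev
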