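import Groth.Agent.Cyc90.Dev.OpRing
import Groth.Agent.Cyc90.Dev.HasFilt
import Groth.Agent.Cyc90.Frame.Additive

/-! A product of root operators carries classes into the vanishing locus of a filtered map. -/

set_option autoImplicit false
set_option backward.isDefEq.respectTransparency.types false
set_option synthInstance.maxHeartbeats 200000
universe u

open CategoryTheory CategoryTheory.Limits AlgebraicGeometry TopologicalSpace Opposite

noncomputable section

namespace Groth.Agent.Cyc90.Dev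

open QC70

variable {X : Scheme.{u}} {δ : X → ℤ}

/-- The points at which a morphism into an invertible module vanishes on fibres. -/
def vanSet {M O : X.Modules} (φ : M ⟶ O) : Set X :=
  {x | ∀ e : M.presheaf.stalk x, (Submodule.Quotient.mk (stalkMapM φ x e) : Cyc.secFibre O x) = 0}

lemma mk_ne_zero_iff {O : X.Modules} (hO : PicF.IsInvertible O) {x : X} (y : O.presheaf.stalk x) :
    (Submodule.Quotient.mk y : Cyc.secFibre O x) ≠ 0 ↔ Submodule.span (X.presheaf.stalk x) {y} = ⊤ := by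
  obtain ⟨U, hx, e, he⟩ := Mero90.exists_frame' hO x
  obtain ⟨c, rfl⟩ := (Mero90.isGen_germ he ⟨x, hx⟩).2 y
  have hgen : Submodule.span (X.presheaf.stalk x) {O.presheaf.germ U x hx e} = ⊤ :=
    eq_top_iff.2 fun v _ => Submodule.mem_span_singleton.2 ((Mero90.isGen_germ he ⟨x, hx⟩).2 v)
  dsimp only
  rw [ne_eq, mk_smul_frame_eq_zero_iff he hx, not_not]
  refine ⟨fun h => (Submodule.span_singleton_smul_eq h _).trans hgen, fun h => ?_⟩
  by_contra hu
  have h0 := (mk_smul_frame_eq_zero_iff he hx c).2 hu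
  obtain ⟨d, hd⟩ := Submodule.mem_span_singleton.1 (h.ge (Submodule.mem_top (x := O.presheaf.germ U x hx e)))
  refine mk_germ_frame_ne_zero he hx ?_
  rw [← hd, Submodule.Quotient.mk_smul, h0, smul_zero]

lemma mk_specializes_ne_zero {O : X.Modules} (hO : PicF.IsInvertible O) {ξ x : X} (h : ξ ⤳ x)
    {y : O.presheaf.stalk x} (hy : (Submodule.Quotient.mk y : Cyc.secFibre O x) ≠ 0) :
    (Submodule.Quotient.mk (O.presheaf.stalkSpecializes h y) : Cyc.secFibre O ξ) ≠ 0 := by
  intro h0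
  obtain ⟨U, hx, e, he⟩ := Mero90.exists_frame' hO ξ
  obtain ⟨c, hc⟩ := secFibre_gen hO h y ((mk_ne_zero_iff hO y).1 hy)
    (Submodule.Quotient.mk (O.presheaf.germ U ξ hx e))
  exact mk_germ_frame_ne_zero he hx (hc.trans (by rw [h0, smul_zero]))

lemma notMem_vanSet_of_specializes {M O : X.Modules} (hO : PicF.IsInvertible O) {φ : M ⟶ O} {ξ x : X}
    (h : ξ ⤳ x) (hx : x ∉ vanSet φ) : ξ ∉ vanSet φ := by
  simp only [vanSet, Set.mem_setOf_eq, not_forall] at hx ⊢
  obtain ⟨e, he⟩ := hx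
  exact ⟨M.presheaf.stalkSpecializes h e, by
    rw [stalkMapM_stalkSpecializes]; exact mk_specializes_ne_zero hO h he⟩

variable (hX : Cyc.IsSetup X δ)

include hX in
/-- One step of the filtration. -/
lemma exists_supported_step {M' M L O : X.Modules} {a : M' ⟶ M} {b : M ⟶ L} {w : a ≫ b = 0}
    (hs : (ShortComplex.mk a b w).ShortExact) (hL : PicF.IsInvertible L) (hO : PicF.IsInvertible O)
    (φ : M ⟶ O) {k : ℤ} {β : AlgebraicCycle X ℤ} (hβ : β ∈ zkSub δ k)
    (hsupp : ∀ x, β x ≠ 0 → x ∈ vanSet (a ≫ φ)) :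
    ∃ γ : AlgebraicCycle X ℤ, γ ∈ zkSub δ (k - 1) ∧ (∀ x, γ x ≠ 0 → x ∈ vanSet φ) ∧
      clk hX (k - 1) γ = opAct hX (lc1 hX O - lc1 hX L) (clk hX k β) := by
  classical
  haveI := hs.epi_g
  obtain ⟨s, hs0⟩ := c1End.exists_secFibre_family' hL
  obtain ⟨t₀, ht₀⟩ := c1End.exists_secFibre_family' hO
  have hlift : ∀ ξ, ∃ m : M.presheaf.stalk ξ,
      (Submodule.Quotient.mk (stalkMapM b ξ m) : Cyc.secFibre L ξ) = s ξ := fun ξ => by
    obtain ⟨l, hl⟩ := Submodule.Quotient.mk_surjective _ (s ξ)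
    obtain ⟨m, hm⟩ := surjective_stalkMapM_of_epi b ξ l
    exact ⟨m, by rw [hm, hl]⟩
  choose m hm using hlift
  let T : (ξ : X) → Cyc.secFibre O ξ := fun ξ => Submodule.Quotient.mk (stalkMapM φ ξ (m ξ))
  let t : (ξ : X) → Cyc.secFibre O ξ := fun ξ => if T ξ = 0 then t₀ ξ else T ξ
  have ht : ∀ ξ, t ξ ≠ 0 := fun ξ => by
    simp only [t]; split_ifs with h
    · exact ht₀ ξ
    · exact h
  refine ⟨cap1 hX hO t ht β - cap1 hX hL s hs0 β,
    sub_mem (cap1_mem_pred hX hO t ht hβ) (cap1_mem_pred hX hL s hs0 hβ), fun x hx => ?_, ?_⟩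
  swap
  · have e := clk_add hX (sub_mem (cap1_mem_pred hX hO t ht hβ) (cap1_mem_pred hX hL s hs0 hβ))
      (cap1_mem_pred hX hL s hs0 hβ)
    rw [sub_add_cancel] at e
    rw [map_sub]
    show _ = c1End hX O (clk hX k β) - c1End hX L (clk hX k β)
    rw [c1End_clk hX hO t ht hβ, c1End_clk hX hL s hs0 hβ, e, add_sub_cancel_right]
  by_contra hxv
  refine hx ?_
  rw [Function.locallyFinsuppWithin.coe_sub, Pi.sub_apply, coe_cap1, coe_cap1, sub_eq_zero]
  refine finsum_congr fun ξ => ?_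
  by_cases hξ : β ξ = 0
  · rw [hξ, zero_mul, zero_mul]
  congr 1
  unfold Cyc.secDivFun
  by_cases h : ξ ⤳ x ∧ δ x + 1 = δ ξ
  swap
  · rw [dif_neg h, dif_neg h]
  rw [dif_pos h, dif_pos h]
  have hξv : ξ ∈ vanSet (a ≫ φ) := hsupp ξ hξ
  have hxv' : x ∈ vanSet (a ≫ φ) := by
    by_contra h'; exact notMem_vanSet_of_specializes hO h.1 h' hξv
  simp only [vanSet, Set.mem_setOf_eq, not_forall] at hxv
  obtain ⟨e, he⟩ := hxv
  obtain ⟨l, hl⟩ := exists_stalk_gen hL x
  obtain ⟨n, hn⟩ := surjective_stalkMapM_of_epi b x l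
  have hfibre : ∀ (z : X) (_ : z ∈ vanSet (a ≫ φ)) (y y' : M.presheaf.stalk z) (c : X.presheaf.stalk z),
      stalkLinear b z y = c • stalkLinear b z y' →
      (Submodule.Quotient.mk (stalkMapM φ z y) : Cyc.secFibre O z) =
        c • Submodule.Quotient.mk (stalkMapM φ z y') := by
    intro z hz y y' c hy
    obtain ⟨d, hd⟩ := (Frame.stalk_exact hs z (y - c • y')).1 (by rw [map_sub, map_smul, hy, sub_self])
    have hy' : y = stalkLinear a z d + c • y' := by rw [show stalkLinear a z d = y - c • y' from hd, sub_add_cancel]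
    have h0 : (Submodule.Quotient.mk (stalkLinear φ z (stalkLinear a z d)) : Cyc.secFibre O z) = 0 := by
      have := hz d
      rwa [stalkMapM_comp] at this
    show (Submodule.Quotient.mk (stalkLinear φ z y) : Cyc.secFibre O z) = _
    rw [hy', map_add, map_smul, Submodule.Quotient.mk_add, Submodule.Quotient.mk_smul, h0, zero_add]
    rfl
  have hgen : (Submodule.Quotient.mk (stalkMapM φ x n) : Cyc.secFibre O x) ≠ 0 := by
    obtain ⟨c, hc⟩ := Submodule.mem_span_singleton.1 (hl.ge (Submodule.mem_top (x := stalkMapM b x e)))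
    intro h0
    refine he ?_
    rw [hfibre x hxv' e n c (by
      show stalkMapM b x e = c • stalkMapM b x n
      rw [hn, hc]), h0, smul_zero]
  obtain ⟨p, hp⟩ := secFibre_gen hL h.1 l hl (s ξ)
  have hTp : T ξ = p • (Submodule.Quotient.mk ((O.presheaf.stalkSpecializes h.1) (stalkMapM φ x n)) :
      Cyc.secFibre O ξ) := by
    rw [← stalkMapM_stalkSpecializes]
    have hp' : (Submodule.Quotient.mk (stalkLinear b ξ (m ξ - p • M.presheaf.stalkSpecializes h.1 n)) :
        Cyc.secFibre L ξ) = 0 := by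
      rw [map_sub, map_smul, Submodule.Quotient.mk_sub, Submodule.Quotient.mk_smul, sub_eq_zero]
      refine ((hm ξ).trans hp).trans ?_
      show p • _ = p • (Submodule.Quotient.mk (stalkMapM b ξ _) : Cyc.secFibre L ξ)
      rw [stalkMapM_stalkSpecializes, hn]
    rw [Submodule.Quotient.mk_eq_zero] at hp'
    have key : ∀ v ∈ (IsLocalRing.maximalIdeal (X.presheaf.stalk ξ) • ⊤ :
        Submodule (X.presheaf.stalk ξ) (L.presheaf.stalk ξ)), ∀ y, stalkLinear b ξ y = v →
        (Submodule.Quotient.mk (stalkMapM φ ξ y) : Cyc.secFibre O ξ) = 0 := by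
      intro v hv
      refine Submodule.smul_induction_on hv (fun r hr v' _ y hy => ?_) fun v₁ v₂ h₁ h₂ y hy => ?_
      · obtain ⟨y', rfl⟩ := surjective_stalkMapM_of_epi b ξ v'
        rw [hfibre ξ hξv y y' r hy]
        exact smul_mk_eq_zero O ((IsLocalRing.residue_eq_zero_iff r).2 hr) _
      · obtain ⟨y₁, hy₁⟩ := surjective_stalkMapM_of_epi b ξ v₁
        have h' := h₂ (y - y₁) (by rw [map_sub, hy]; show _ - stalkMapM b ξ y₁ = _; rw [hy₁]; abel)
        show (Submodule.Quotient.mk (stalkLinear φ ξ y) : Cyc.secFibre O ξ) = 0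
        rw [← sub_add_cancel y y₁, map_add, Submodule.Quotient.mk_add]
        show (Submodule.Quotient.mk (stalkMapM φ ξ (y - y₁)) : Cyc.secFibre O ξ) +
          Submodule.Quotient.mk (stalkMapM φ ξ y₁) = 0
        rw [h', h₁ y₁ hy₁, add_zero]
    have hz := key _ hp' _ rfl
    change (Submodule.Quotient.mk (stalkLinear φ ξ _) : Cyc.secFibre O ξ) = 0 at hz
    rw [map_sub, map_smul, Submodule.Quotient.mk_sub, Submodule.Quotient.mk_smul, sub_eq_zero] at hz
    exact hz
  have hTne : T ξ ≠ 0 := by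
    rw [hTp]
    intro h0
    refine mk_specializes_ne_zero hO h.1 hgen ?_
    refine (IsUnit.smul_eq_zero ?_).1 h0
    refine (IsLocalRing.residue_ne_zero_iff_isUnit p).1 fun hr => hs0 ξ ?_
    rw [hp]; exact smul_mk_eq_zero L hr _
  rw [secOrdAt_eq O hX h.1 h.2 _ (ht ξ) _ ((mk_ne_zero_iff hO _).1 hgen) p
      (by simp only [t, if_neg hTne]; exact hTp),
    secOrdAt_eq L hX h.1 h.2 _ (hs0 ξ) _ hl p hp]

include hX in
/-- The product of `O - Lᵢ` sends a class to a class supported where `φ` vanishes. -/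
theorem exists_supported_prod {M O : X.Modules} {ls : List X.Modules} (h : HasFilt M ls)
    (hO : PicF.IsInvertible O) (φ : M ⟶ O) {k : ℤ} {α : AlgebraicCycle X ℤ} (hα : α ∈ zkSub δ k) :
    ∃ γ : AlgebraicCycle X ℤ, γ ∈ zkSub δ (k - ls.length) ∧ (∀ x, γ x ≠ 0 → x ∈ vanSet φ) ∧
      clk hX (k - ls.length) γ =
        opAct hX ((ls.map fun L => lc1 hX O - lc1 hX L).prod) (clk hX k α) := by
  induction h with
  | zero h0 =>
    simp only [List.length_nil, Nat.cast_zero, sub_zero, List.map_nil, List.prod_nil, map_one]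
    refine ⟨α, hα, fun x _ e => ?_, rfl⟩
    rw [h0.eq_of_src φ 0]
    show (Submodule.Quotient.mk (stalkMapM (0 : _ ⟶ O) x e) : Cyc.secFibre O x) = 0
    rw [stalkMapM_zero]; rfl
  | @step M' M L ls a b w hs hL h' ih =>
    obtain ⟨γ, hγ, hsupp, hcl⟩ := ih (a ≫ φ)
    obtain ⟨γ', hγ', hsupp', hcl'⟩ := exists_supported_step hX hs hL hO φ hγ hsupp
    have e : k - ((L :: ls).length : ℤ) = k - ls.length - 1 := by simp; ring
    rw [e]
    refine ⟨γ', hγ', hsupp', ?_⟩
    rw [hcl', hcl, List.map_cons, List.prod_cons, map_mul]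
    rfl

lemma vanSet_of_epi {M O : X.Modules} (hO : PicF.IsInvertible O) (φ : M ⟶ O) [Epi φ] (x : X) :
    x ∉ vanSet φ := fun h => by
  obtain ⟨U, hx, e, he⟩ := Mero90.exists_frame' hO x
  obtain ⟨y, hy⟩ := surjective_stalkMapM_of_epi φ x (O.presheaf.germ U x hx e)
  exact mk_germ_frame_ne_zero he hx (hy ▸ h y)

end Groth.Agent.Cyc90.Dev
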