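import Groth.Agent.Props58.LocFree.Criteria
import Groth.Agent.Mero90.Frames
import Groth.Agent.Cyc90.Dev.RootVanish

/-! The kernel of an epimorphism from a bundle onto an invertible module is a bundle. -/

set_option autoImplicit false
set_option backward.isDefEq.respectTransparency.types false
universe u

open CategoryTheory CategoryTheory.Limits AlgebraicGeometry TopologicalSpace Opposite

noncomputable section

namespace Groth.Agent.Cyc90.Dev

open QC70 Props58.LocFree
open Var76.LineBundle (IsFrame)

variable {X : Scheme.{u}}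

theorem isFinLocFreeOfRank_kernel {E L : X.Modules} {n : ℕ} (hE : FlatMod.IsFinLocFreeOfRank (n + 1) E)
    (hL : PicF.IsInvertible L) (b : E ⟶ L) [Epi b] : FlatMod.IsFinLocFreeOfRank n (kernel b) := by
  classical
  intro x
  obtain ⟨U, hxU, ⟨φ⟩⟩ := hE x
  obtain ⟨e, he⟩ := exists_stalkBasis_of_iso φ
  obtain ⟨U', hxU', g, hg⟩ := Mero90.exists_frame' hL x
  let W := U ⊓ U'
  have hxW : x ∈ W := ⟨hxU, hxU'⟩
  let e' : Fin (n + 1) → Γ(E, W) := fun i => res E (inf_le_left : W ≤ U) (e i)
  have he' : StalkBasis e' := he.restrict _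
  let g' : Γ(L, W) := res L (inf_le_right : W ≤ U') g
  have hg' : IsFrame L W g' := Var76.LineBundle.IsFrame.res hg _
  choose c hc using fun i => (hg' W le_rfl).2 (b.app W (e' i))
  have hgx : ∀ (y : X) (hy : y ∈ W), (Submodule.Quotient.mk (germM L W y hy g') : Cyc.secFibre L y) ≠ 0 :=
    fun y hy => mk_germ_frame_ne_zero hg' hy
  have hc' : ∀ (y : X) (hy : y ∈ W) (i : Fin (n + 1)), stalkMapM b y (germM E W y hy (e' i)) =
      X.presheaf.germ W y hy (c i) • germM L W y hy g' := fun y hy i => by
    rw [stalkMapM_germ, ← hc i]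
    dsimp only
    rw [germM_smul]
    congr 2
    exact Amp73.res_self _ _
  obtain ⟨j, hj⟩ : ∃ j, IsUnit (X.presheaf.germ W x hxW (c j)) := by
    by_contra h
    push Not at h
    obtain ⟨z, hz⟩ := surjective_stalkMapM_of_epi b x (germM L W x hxW g')
    obtain ⟨a, rfl⟩ := (he' x hxW).2 z
    refine hgx x hxW ?_
    rw [← hz, Submodule.Quotient.mk_eq_zero]
    show stalkLinear b x (germComb e' x hxW a) ∈ _
    rw [germComb, map_sum]
    refine sum_mem fun i _ => ?_
    rw [map_smul]
    show a i • stalkMapM b x _ ∈ _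
    rw [hc' x hxW i]
    exact Submodule.smul_mem _ _ (Submodule.smul_mem_smul ((IsLocalRing.mem_maximalIdeal _).2 (h i)) trivial)
  let V : X.Opens := X.basicOpen (c j)
  have hVW : V ≤ W := X.basicOpen_le _
  have hxV : x ∈ V := (X.mem_basicOpen'' (c j) x).2 ⟨hxW, hj⟩
  have hcu : IsUnit (resO X hVW (c j)) := RingedSpace.isUnit_res_basicOpen X.toRingedSpace (c j)
  let d : Fin (n + 1) → Γ(X, V) := fun i => resO X hVW (c i) * ↑hcu.unit⁻¹
  have hker : ∀ i, b.app V (res E hVW (e' i) - d i • res E hVW (e' j)) = 0 := fun i => by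
    have hb : ∀ i, b.app V (res E hVW (e' i)) = resO X hVW (c i) • res L hVW g' := fun i => by
      have h1 : b.app V (res E hVW (e' i)) = res L hVW (b.app W (e' i)) :=
        ConcreteCategory.congr_hom (b.mapPresheaf.naturality (homOfLE hVW).op) (e' i)
      rw [h1, ← hc i]
      dsimp only
      rw [res_smul, res_res]
    rw [map_sub, Scheme.Modules.Hom.app_smul, hb, hb, smul_smul, mul_assoc, IsUnit.val_inv_mul, mul_one,
      sub_self]
  choose s hs using fun i : Fin n => exists_kernel_app_eq b V _ (hker (j.succAbove i))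
  refine ⟨V, hxV, nonempty_iso_of_stalkBasis (s := s) fun y hy => ?_⟩
  let ι := stalkLinear (kernel.ι b) y
  have hι : Function.Injective ι := injective_stalkMapM_of_mono _ y
  let D : Fin (n + 1) → X.presheaf.stalk y := fun i => X.presheaf.germ V y hy (d i)
  let B : Fin (n + 1) → E.presheaf.stalk y := fun i => germM E W y (hVW hy) (e' i)
  have hιs : ∀ i, ι (germM (kernel b) V y hy (s i)) = B (j.succAbove i) - D (j.succAbove i) • B j := fun i => by
    show stalkMapM _ y _ = _
    rw [stalkMapM_germ, hs, show germM E V y hy (res E hVW (e' (j.succAbove i)) - d (j.succAbove i) • res E hVW (e' j)) =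
      germM E V y hy (res E hVW (e' (j.succAbove i))) - germM E V y hy (d (j.succAbove i) • res E hVW (e' j)) from
      map_sub _ _ _, germM_smul]
    simp only [B, D, germM]
    congr 1
    · exact TopCat.Presheaf.germ_res_apply E.presheaf (homOfLE hVW) y hy _
    · congr 1
      exact TopCat.Presheaf.germ_res_apply E.presheaf (homOfLE hVW) y hy _
  have hιc : ∀ a : Fin n → X.presheaf.stalk y, ι (germComb s y hy a) =
      germComb e' y (hVW hy) (j.insertNth (-∑ i, a i * D (j.succAbove i)) a) := fun a => by
    rw [germComb, germComb, map_sum, Fin.sum_univ_succAbove _ j, Fin.insertNth_apply_same, neg_smul,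
      Finset.sum_smul, ← Finset.sum_neg_distrib, ← Finset.sum_add_distrib]
    refine Finset.sum_congr rfl fun i _ => ?_
    rw [map_smul, hιs, Fin.insertNth_apply_succAbove, smul_sub, smul_smul, sub_eq_neg_add]
  refine ⟨fun a a' h => ?_, fun z => ?_⟩
  · have h1 := (he' y (hVW hy)).1 ((hιc a).symm.trans ((congrArg ι h).trans (hιc a')))
    funext i
    simpa using congrFun h1 (j.succAbove i)
  · obtain ⟨a, ha⟩ := (he' y (hVW hy)).2 (ι z)
    refine ⟨fun i => a (j.succAbove i), hι ?_⟩
    rw [hιc, ← ha]
    have hz : stalkLinear b y (ι z) = 0 := by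
      show stalkMapM b y (stalkMapM _ y z) = 0
      rw [← stalkMapM_comp, kernel.condition, stalkMapM_zero]
    rw [← ha, germComb, map_sum] at hz
    simp only [map_smul] at hz
    change ∑ i, a i • stalkMapM b y _ = 0 at hz
    simp only [hc' y (hVW hy), smul_smul, ← Finset.sum_smul] at hz
    have hinj : ∀ r : X.presheaf.stalk y, r • germM L W y (hVW hy) g' = 0 → r = 0 := fun r hr =>
      (Mero90.isGen_germ hg' ⟨y, hVW hy⟩).1 (hr.trans (zero_smul _ _).symm)
    have h0 := hinj _ hz
    rw [Fin.sum_univ_succAbove _ j] at h0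
    refine congrArg _ (funext fun i => ?_)
    rcases Fin.eq_self_or_eq_succAbove j i with rfl | ⟨i, rfl⟩
    · rw [Fin.insertNth_apply_same]
      have hu : IsUnit (X.presheaf.germ W y (hVW hy) (c i)) :=
        ((X.mem_basicOpen'' (c i) y).1 hy).choose_spec
      refine hu.mul_left_injective ?_
      dsimp only
      rw [eq_neg_of_add_eq_zero_left h0, neg_mul, neg_inj, Finset.sum_mul]
      refine Finset.sum_congr rfl fun l _ => ?_
      have : D (i.succAbove l) * X.presheaf.germ W y (hVW hy) (c i) =
          X.presheaf.germ W y (hVW hy) (c (i.succAbove l)) := by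
        have e1 : ∀ m, X.presheaf.germ V y hy (resO X hVW (c m)) = X.presheaf.germ W y (hVW hy) (c m) :=
          fun m => TopCat.Presheaf.germ_res_apply X.presheaf (homOfLE hVW) y hy (c m)
        rw [← e1 i, ← e1, ← map_mul, mul_assoc, IsUnit.val_inv_mul, mul_one]
      rw [mul_assoc, this]
    · rw [Fin.insertNth_apply_succAbove]

end Groth.Agent.Cyc90.Dev
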