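import Groth.Agent.Cyc90.Dev.SplitPrinciple
import Groth.Agent.Cyc90.MayerVietoris
import Groth.Agent.Cyc90.ClosureSub

/-! Proper pushforward on the classes of all dimensions and the projection formula. -/

set_option autoImplicit false
set_option backward.isDefEq.respectTransparency.types false
set_option synthInstance.maxHeartbeats 200000
universe u

open CategoryTheory AlgebraicGeometry TopologicalSpace

noncomputable section

namespace Groth.Agent.Cyc90.Dev

variable {X Y : Scheme.{u}} {δ : X → ℤ} {δY : Y → ℤ}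

section

variable (f : X ⟶ Y) [IsProper f] (hX : Cyc.IsSetup X δ) (hY : Cyc.IsSetup Y δY)
  (hδ : Cyc.DeltaCompat f δ δY)

/-- Proper pushforward on classes. -/
def mapAll : ChowAll hX →+ ChowAll hY :=
  DirectSum.toAddMonoid fun k => (DirectSum.of (Chow1 hY) k).comp
    (QuotientAddGroup.map _ _
      (((mapHom f δ δY).comp (zkSub δ k).subtype).codRestrict (zkSub δY k)
        fun a => mapHom_mem f a.2)
      fun _ ha => AddSubgroup.mem_addSubgroupOf.2 ((mem_ratZ hY).2
        (mapHom_rat f hX hY hδ (AddSubgroup.mem_addSubgroupOf.1 ha))))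

lemma mapAll_clk {k : ℤ} {α : AlgebraicCycle X ℤ} (ha : α ∈ zkSub δ k) :
    mapAll f hX hY hδ (clk hX k α) = clk hY k (mapHom f δ δY α) := by
  rw [clk_of_mem hX ha, clk_of_mem hY (show mapHom f δ δY α ∈ zkSub δY k from mapHom_mem f ha),
    mapAll, DirectSum.toAddMonoid_of]
  rfl

/-- The projection formula for one first Chern operator. -/
lemma mapAll_lc1 {L : Y.Modules} (hL : PicF.IsInvertible L) (x : ChowAll hX) :
    mapAll f hX hY hδ (opAct hX (lc1 hX ((Scheme.Modules.pullback f).obj L)) x) =
      opAct hY (lc1 hY L) (mapAll f hX hY hδ x) := by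
  obtain ⟨s, hs⟩ := c1End.exists_secFibre_family' hL
  have hL' := Amp73.isInvertible_pullback f hL
  suffices h : (mapAll f hX hY hδ).comp (c1End hX ((Scheme.Modules.pullback f).obj L)) =
      AddMonoidHom.comp (c1End hY L) (mapAll f hX hY hδ) from DFunLike.congr_fun h x
  refine chowAll_ext hX fun k α ha => ?_
  show mapAll f hX hY hδ (c1End hX _ (clk hX k α)) = c1End hY _ (mapAll f hX hY hδ (clk hX k α))
  rw [c1End_clk hX hL' (pullSec f hL s hs) (pullSec_ne_zero f hL s hs) ha,
    mapAll_clk f hX hY hδ (cap1_mem_pred hX hL' _ _ ha), mapAll_clk f hX hY hδ ha,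
    c1End_clk hY hL s hs (mapHom_mem f ha)]
  refine clk_congr hY (mapHom_mem f (cap1_mem_pred hX hL' _ _ ha))
    (cap1_mem_pred hY hL _ _ (mapHom_mem f ha)) ?_
  have := mapHom_capPow f hX hY hδ hL (fun _ => pullSec f hL s hs) (fun _ => pullSec_ne_zero f hL s hs)
    (fun _ => s) (fun _ => hs) ha 1
  simp only [capPow_succ, capPow_zero, Nat.cast_one] at this
  exact this

/-- The projection formula for the symmetric functions of the roots. -/
lemma mapAll_esymm {ls : List Y.Modules} (hls : ∀ L ∈ ls, PicF.IsInvertible L) :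
    ∀ (j : ℕ) (x : ChowAll hX), mapAll f hX hY hδ
      (opAct hX ((rootsOp hX (ls.map (Scheme.Modules.pullback f).obj)).esymm j) x) =
      opAct hY ((rootsOp hY ls).esymm j) (mapAll f hX hY hδ x) := by
  induction ls with
  | nil =>
    intro j x
    rcases j with _ | j
    · simp only [rootsOp, List.map_nil, Multiset.coe_nil, Multiset.esymm, Multiset.powersetCard_zero_left,
        Multiset.map_singleton, Multiset.prod_zero, Multiset.sum_singleton, map_one]
      rfl
    · simp only [rootsOp, List.map_nil, Multiset.coe_nil, Multiset.esymm, Multiset.powersetCard_zero_right,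
        Multiset.map_zero, Multiset.sum_zero, map_zero]
      exact map_zero _
  | cons L ls ih =>
    intro j x
    have ih' := ih fun L' h' => hls L' (List.mem_cons_of_mem L h')
    rcases j with _ | j
    · simp only [Multiset.esymm, Multiset.powersetCard_zero_left, Multiset.map_singleton, Multiset.prod_zero,
        Multiset.sum_singleton, map_one]
      rfl
    · simp only [rootsOp, List.map_cons, ← Multiset.cons_coe] at ih' ⊢
      rw [esymm_cons_succ, esymm_cons_succ, map_add, map_add, map_mul, map_mul]
      show mapAll f hX hY hδ (opAct hX _ x + opAct hX (lc1 hX _) (opAct hX _ x)) =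
        opAct hY _ _ + opAct hY (lc1 hY L) (opAct hY _ _)
      rw [map_add, ih', mapAll_lc1 f hX hY hδ (hls L List.mem_cons_self), ih']

end

/-- Pushforward of a restriction, for a cycle supported on the closed subscheme. -/
lemma mapHom_restrictClosed (i : X ⟶ Y) [IsClosedImmersion i] (a : AlgebraicCycle Y ℤ)
    (ha : ∀ y ∉ Set.range i, a y = 0) :
    mapHom i (fun x => δY (i x)) δY (restrictClosed i a) = a := by
  ext y
  rw [mapHom_apply]
  by_cases hy : y ∈ Set.range i
  · obtain ⟨x, rfl⟩ := hy
    rw [map_closedImmersion_image, restrictClosed_apply]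
  · rw [map_closedImmersion_notMem i δY _ hy, ha y hy]

lemma mapHom_id (a : AlgebraicCycle X ℤ) : mapHom (𝟙 X) δ δ a = a := by
  ext x
  exact map_closedImmersion_image (𝟙 X) δ a x

section Comp

variable {Z : Scheme.{u}} {δZ : Z → ℤ}

/-- Flat pullback of cycles along a composition. -/
lemma pullHom_comp (f : X ⟶ Y) [Flat f] (g : Y ⟶ Z) (hX : Cyc.IsSetup X δ) (hY : Cyc.IsSetup Y δY) {a b c : ℤ}
    (hf : ShiftAt f δ δY a) (hg : ShiftAt g δY δZ b) (hfg : ShiftAt (f ≫ g) δ δZ c) (e : c = b + a)
    (α : AlgebraicCycle Z ℤ) :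
    pullHom (f ≫ g) hX hfg α = pullHom f hX hf (pullHom g hY hg α) := by
  subst e
  exact DFunLike.coe_injective (pullFun_comp f g hX.2.2 hY.2.2 hf hg (α : Z → ℤ)).2

end Comp

end Groth.Agent.Cyc90.Dev
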