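import Groth.Agent.Cyc90.Dev.Cls
import Groth.Agent.Cyc90.Frame.Maps
import Groth.Agent.Cyc90.Frame.Compare

/-! Sheaves with one point of top dimension, and the divisor of a scalar. -/

set_option autoImplicit false
set_option backward.isDefEq.respectTransparency.types false
set_option linter.style.haveILetI false
universe u

open CategoryTheory CategoryTheory.Limits AlgebraicGeometry TopologicalSpace IsLocalRing

namespace Groth.Agent.Cyc90.Dev

open QC70

attribute [local instance] Frame.algRes

variable {X : Scheme.{u}} {δ : X → ℤ} {k : ℤ}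

/-- A sheaf of rank one on the closure of a point, with no embedded points. -/
structure IsOne (δ : X → ℤ) (k : ℤ) (E : X.Modules) (ξ : X) : Prop where
  cohLe : Cyc.CohLe δ (k + 1) E
  dim : δ ξ = k + 1
  supp : CohB1.support E ⊆ closure {ξ}
  length : Module.length (X.presheaf.stalk ξ) (E.presheaf.stalk ξ) = 1
  inj : ∀ (x : X) (h : ξ ⤳ x), Function.Injective (Frame.spL E h)

variable {E G : X.Modules} {ξ : X}
  (c : ∀ η : X, δ η = k + 1 → (E.presheaf.stalk η →ₗ[X.presheaf.stalk η] G.presheaf.stalk η))
  (hX : Cyc.IsSetup X δ) (hE : IsOne δ k E ξ) (hG : IsOne δ k G ξ)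
  (hc : Function.Bijective (c ξ hE.dim))
include hX hE hG hc

lemma mono_graphFst : Mono (graphFst c) := by
  refine mono_of_injective_stalkMapM _ fun y => ?_
  suffices h : ∀ d, stalkLinear (graphFst c) y d = 0 → d = 0 by
    intro d d' e
    refine sub_eq_zero.1 (h _ ?_)
    rw [map_sub, sub_eq_zero]
    exact e
  intro d hd
  refine injective_stalkMapM_of_mono (stalkSub (graphN c)).ι y
    (Eq.trans ?_ (map_zero (stalkLinear (stalkSub (graphN c)).ι y)).symm)
  refine sum_stalk_ext y ?_ ?_
  · rw [map_zero]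
    change stalkMapM _ y (stalkMapM _ y d) = 0
    rw [← stalkMapM_comp]
    exact hd
  · rw [map_zero]
    change stalkMapM _ y (stalkMapM _ y d) = 0
    rw [← stalkMapM_comp]
    change stalkLinear (graphSnd c) y d = 0
    by_cases hy : ξ ⤳ y
    · refine hG.inj y hy ?_
      rw [map_zero, ← Frame.stMap_spL (graphSnd c) hy d]
      change stalkLinear (graphSnd c) ξ (Frame.spL (graph c) hy d) = 0
      rw [graphSnd_stalk c hX hE.cohLe hG.cohLe hE.dim]
      have : stalkLinear (graphFst c) ξ (Frame.spL (graph c) hy d) = 0 := by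
        change Frame.stMap (graphFst c) hy (Frame.spL (graph c) hy d) = 0
        rw [Frame.stMap_spL, hd, map_zero]
      rw [this]
      exact map_zero _
    · have := notMem_support_iff.1 fun h => hy (specializes_iff_mem_closure.2 (hG.supp h))
      exact Subsingleton.elim _ _

lemma mono_graphSnd : Mono (graphSnd c) := by
  refine mono_of_injective_stalkMapM _ fun y => ?_
  suffices h : ∀ d, stalkLinear (graphSnd c) y d = 0 → d = 0 by
    intro d d' e
    refine sub_eq_zero.1 (h _ ?_)
    rw [map_sub, sub_eq_zero]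
    exact e
  intro d hd
  haveI := mono_graphFst c hX hE hG hc
  refine injective_stalkMapM_of_mono (graphFst c) y ?_
  rw [show stalkMapM (graphFst c) y 0 = 0 from map_zero (stalkLinear _ y)]
  change stalkLinear (graphFst c) y d = 0
  by_cases hy : ξ ⤳ y
  · refine hE.inj y hy ?_
    rw [map_zero, ← Frame.stMap_spL (graphFst c) hy d]
    refine hc.1 ?_
    refine (graphSnd_stalk c hX hE.cohLe hG.cohLe hE.dim _).symm.trans ?_
    refine Eq.trans ?_ (map_zero (c ξ hE.dim)).symm
    change Frame.stMap (graphSnd c) hy (Frame.spL (graph c) hy d) = 0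
    rw [Frame.stMap_spL, hd, map_zero]
  · have := notMem_support_iff.1 fun h => hy (specializes_iff_mem_closure.2 (hE.supp h))
    exact Subsingleton.elim _ _

lemma bijective_graphSnd {η : X} (hη : δ η = k + 1) :
    Function.Bijective (stalkMapM (graphSnd c) η) := by
  have e : stalkMapM (graphSnd c) η = c η hη ∘ stalkMapM (graphFst c) η :=
    funext fun d => graphSnd_stalk c hX hE.cohLe hG.cohLe hη d
  rw [e]
  refine Function.Bijective.comp ?_ (bijective_graphFst c hX hE.cohLe hG.cohLe hη)
  by_cases hy : ξ ⤳ η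
  · obtain rfl : ξ = η := eq_of_delta_le hX.2.2 hy (by rw [hη, hE.dim])
    exact hc
  · have h1 := notMem_support_iff.1 fun h => hy (specializes_iff_mem_closure.2 (hE.supp h))
    have h2 := notMem_support_iff.1 fun h => hy (specializes_iff_mem_closure.2 (hG.supp h))
    exact ⟨fun a b _ => Subsingleton.elim _ _, fun b => ⟨0, Subsingleton.elim _ _⟩⟩

lemma cohLe_cokernel_fst : Cyc.CohLe δ k (cokernel (graphFst c)) := by
  have := cohLe_pred (isCoh_cokernel (graphFst c) (cohLe_graph c hX hE.cohLe hG.cohLe).1.1 hE.cohLe.1)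
    hE.cohLe (fun x h => (surjective_stalkMapM_of_epi (cokernel.π (graphFst c)) x).subsingleton)
    fun η hη => subsingleton_stalk_cokernel _ η (bijective_graphFst c hX hE.cohLe hG.cohLe hη).2
  rwa [add_sub_cancel_right] at this

lemma cohLe_cokernel_snd : Cyc.CohLe δ k (cokernel (graphSnd c)) := by
  have := cohLe_pred (isCoh_cokernel (graphSnd c) (cohLe_graph c hX hE.cohLe hG.cohLe).1.1 hG.cohLe.1)
    hG.cohLe (fun x h => (surjective_stalkMapM_of_epi (cokernel.π (graphSnd c)) x).subsingleton)
    fun η hη => subsingleton_stalk_cokernel _ η (bijective_graphSnd c hX hE hG hc hη).2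
  rwa [add_sub_cancel_right] at this

omit hX hE hG hc in
lemma length_cokernel {A B : X.Modules} (u : A ⟶ B) [Mono u] (x : X) :
    Module.length (X.presheaf.stalk x) ((cokernel u).presheaf.stalk x) =
      Frame.relLen ⊤ (LinearMap.range (stalkLinear u x)) := by
  have hS : (ShortComplex.mk u (cokernel.π u) (cokernel.condition u)).ShortExact :=
    { exact := ShortComplex.exact_of_g_is_cokernel _ (cokernelIsCokernel _)
      mono_f := inferInstance
      epi_g := inferInstance }
  rw [Frame.relLen_top]
  have hk : LinearMap.range (stalkLinear u x) = LinearMap.ker (stalkLinear (cokernel.π u) x) := by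
    ext e
    exact (Frame.stalk_exact hS x e).symm
  exact ((Submodule.quotEquivOfEq _ _ hk).trans ((stalkLinear (cokernel.π u) x).quotKerEquivOfSurjective
    (surjective_stalkMapM_of_epi (cokernel.π u) x))).length_eq.symm

/-- The divisor of the scalar comparing the two lattices. -/
theorem sheafFun_sub_eq_ordAt {x : X} (hx : δ x = k) (h : ξ ⤳ x)
    (τ : E.presheaf.stalk x →ₗ[X.presheaf.stalk x] G.presheaf.stalk x) (hτ : Function.Surjective τ)
    (w : X.presheaf.stalk ξ) (hw : X.residue ξ w ≠ 0)
    (heq : ∀ m, c ξ hE.dim (E.presheaf.stalkSpecializes h m) =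
      w • (show G.presheaf.stalk ξ from G.presheaf.stalkSpecializes h (τ m))) :
    Cyc.sheafFun δ k (cokernel (graphSnd c)) x - Cyc.sheafFun δ k (cokernel (graphFst c)) x =
      Cyc.ordAt x ξ h (X.residue ξ w) := by
  have := hX.1
  letI := Frame.algO h; letI := Frame.algK h
  haveI := Frame.tower h; haveI := Frame.towerSt E h; haveI := Frame.towerSt G h
  haveI := mono_graphFst c hX hE hG hc
  haveI := mono_graphSnd c hX hE hG hc
  have hC := cohLe_cokernel_fst c hX hE hG hc
  have hD := cohLe_cokernel_snd c hX hE hG hc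
  have hd : δ x + 1 = δ ξ := by rw [hx, hE.dim]
  have hgood := Frame.isGood hX h hd
  -- the map on the lattices
  let cR : Frame.St E h →ₗ[X.presheaf.stalk x] Frame.St G h :=
    (show Frame.St E h →ₗ[X.presheaf.stalk ξ] Frame.St G h from c ξ hE.dim).restrictScalars _
  have hcR : Function.Injective cR := hc.1
  let mW : Frame.St G h →ₗ[X.presheaf.stalk x] Frame.St G h :=
    (w • (LinearMap.id : Frame.St G h →ₗ[X.presheaf.stalk ξ] Frame.St G h)).restrictScalars _
  let B := Frame.latN G h
  let A := (LinearMap.range (stalkLinear (graphSnd c) x)).map (Frame.spL G h)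
  let A₀ := (LinearMap.range (stalkLinear (graphFst c) x)).map (Frame.spL E h)
  have hBW : (Frame.latN E h).map cR = B.map mW := by
    ext e
    simp only [B, Frame.latN, Submodule.mem_map, LinearMap.mem_range]
    constructor
    · rintro ⟨_, ⟨m, rfl⟩, rfl⟩
      exact ⟨_, ⟨τ m, rfl⟩, (heq m).symm⟩
    · rintro ⟨_, ⟨g, rfl⟩, rfl⟩
      obtain ⟨m, rfl⟩ := hτ g
      exact ⟨_, ⟨m, rfl⟩, heq m⟩
  have hA : A₀.map cR = A := by
    have key : ∀ d, cR (Frame.spL E h (stalkLinear (graphFst c) x d)) =
        Frame.spL G h (stalkLinear (graphSnd c) x d) := by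
      intro d
      rw [← Frame.stMap_spL (graphFst c) h d, ← Frame.stMap_spL (graphSnd c) h d]
      exact (graphSnd_stalk c hX hE.cohLe hG.cohLe hE.dim _).symm
    ext e
    simp only [A, A₀, Submodule.mem_map, LinearMap.mem_range]
    constructor
    · rintro ⟨_, ⟨_, ⟨d, rfl⟩, rfl⟩, rfl⟩
      exact ⟨_, ⟨d, rfl⟩, (key d).symm⟩
    · rintro ⟨_, ⟨d, rfl⟩, rfl⟩
      exact ⟨_, ⟨_, ⟨d, rfl⟩, rfl⟩, key d⟩
  have hD' : Module.length (X.presheaf.stalk x) ((cokernel (graphSnd c)).presheaf.stalk x) =
      Frame.relLen B A := by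
    rw [length_cokernel, ← Frame.relLen_map_of_injective (Frame.spL G h) (hG.inj x h) le_top,
      Submodule.map_top]
    rfl
  have hC' : Module.length (X.presheaf.stalk x) ((cokernel (graphFst c)).presheaf.stalk x) =
      Frame.relLen (B.map mW) A := by
    rw [length_cokernel, ← Frame.relLen_map_of_injective (Frame.spL E h) (hE.inj x h) le_top,
      Submodule.map_top, ← hBW, ← hA,
      Frame.relLen_map_of_injective cR hcR
        (show A₀ ≤ Frame.latN E h from LinearMap.map_le_range)]
    rfl
  have hAB : A ≤ B := Submodule.map_le_iff_le_comap.2 fun m _ =>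
    LinearMap.mem_range_self (Frame.spL G h) m
  have hAW : A ≤ B.map mW := by
    rw [← hBW, ← hA]
    exact Submodule.map_mono (Submodule.map_le_iff_le_comap.2 fun m _ =>
      LinearMap.mem_range_self (Frame.spL E h) m)
  have nD : Frame.relLen B A ≠ ⊤ := hD' ▸ length_top_ne_top hX hD hx
  have nC : Frame.relLen (B.map mW) A ≠ ⊤ := hC' ▸ length_top_ne_top hX hC hx
  have e0 : Cyc.sheafFun δ k (cokernel (graphSnd c)) x - Cyc.sheafFun δ k (cokernel (graphFst c)) x =
      Frame.idx B (B.map mW) := by
    rw [Cyc.sheafFun, Cyc.sheafFun, if_pos hx, if_pos hx, hD', hC',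
      Frame.idx_eq hAB hAW nD nC]
    rfl
  rw [e0]
  -- transport to the residue field
  obtain ⟨φ⟩ : Nonempty (Frame.St G h ≃ₗ[X.presheaf.stalk ξ] X.residueField ξ) := by
    refine nonempty_equiv_of_killed (killed_of_length_one hG.length) (killed_of_length_one ?_)
      (by rw [show Module.length (X.presheaf.stalk ξ) (Frame.St G h) = 1 from hG.length]; exact ENat.one_ne_top)
      (hG.length.trans ?_)
    · exact Frame.length_κ (Frame.algebraMap_res_surjective ξ)
    · exact (Frame.length_κ (Frame.algebraMap_res_surjective ξ)).symm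
  let φR : Frame.St G h →ₗ[X.presheaf.stalk x] X.residueField ξ :=
    φ.toLinearMap.restrictScalars _
  have hφ : Function.Injective φR := φ.injective
  let M := ((LinearMap.mul (X.residueField ξ) (X.residueField ξ) (X.residue ξ w)).restrictScalars
    (X.presheaf.stalk x))
  have hmap : (B.map mW).map φR = (B.map φR).map M := by
    rw [← Submodule.map_comp, ← Submodule.map_comp]
    congr 1
    refine LinearMap.ext fun e => ?_
    change φ (w • e) = X.residue ξ w * φ e
    rw [map_smul, Algebra.smul_def]
    rfl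
  rw [← Frame.idx_map φR hφ, hmap]
  have hlat := Frame.isLat_latN (F := G) hG.cohLe h
  have hfg : (B.map φR).FG := hlat.fg.map _
  have hne : B.map φR ≠ ⊥ := by
    intro hb0
    have hb : B = ⊥ := eq_bot_iff.2 fun z hz => hφ (((Submodule.mem_bot (R := X.presheaf.stalk x)).1
      (hb0 ▸ Submodule.mem_map_of_mem hz)).trans (map_zero φR).symm)
    haveI : Nontrivial (Frame.St G h) := φ.toEquiv.nontrivial
    obtain ⟨e, he⟩ := exists_ne (0 : Frame.St G h)
    obtain ⟨s, hs, hm⟩ := hlat.full e trivial
    have h0 : s • e = 0 := by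
      have := hm
      rwa [show Frame.latN G h = ⊥ from hb, Submodule.mem_bot] at this
    rw [← IsScalarTower.algebraMap_smul (X.presheaf.stalk ξ) s e] at h0
    exact he ((hgood.isUnit s hs).smul_eq_zero.1 h0)
  have hinj : Function.Injective M := fun a b hab => mul_left_cancel₀ hw hab
  have hfg' : ((B.map φR).map M).FG := hfg.map _
  have hne' : (B.map φR).map M ≠ ⊥ := fun h0 =>
    hne (eq_bot_iff.2 fun z hz => hinj (((Submodule.mem_bot (R := X.presheaf.stalk x)).1
      (h0 ▸ Submodule.mem_map_of_mem hz)).trans (map_zero M).symm))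
  have h1 := Frame.idx_scale hgood hw hfg hne
  have h2 := Frame.idx_add (Frame.comm2 hgood hfg hfg' hne hne')
    (Frame.comm2 hgood hfg' (Submodule.fg_span_singleton _) hne' (Frame.span_ne_bot one_ne_zero))
  have h3 := Frame.ordAt_eq_neg_ω hX h hd _ hw
  linarith

omit hX hE hG hc in
/-- The quotient without sections vanishing at the top points. -/
noncomputable def tf (δ : X → ℤ) (k : ℤ) (E : X.Modules) : X.Modules :=
  cokernel (stalkSub (δ := δ) (k := k + 1) (M := E) fun _ _ => ⊥).ι

omit hE hG hc in
lemma bijective_tf {F : X.Modules} (hF : Cyc.CohLe δ (k + 1) F) {η : X} (hη : δ η = k + 1) :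
    Function.Bijective (stalkMapM
      (cokernel.π (stalkSub (δ := δ) (k := k + 1) (M := F) fun _ _ => ⊥).ι) η) := by
  let i := (stalkSub (δ := δ) (k := k + 1) (M := F) fun _ _ => ⊥).ι
  have hS : (ShortComplex.mk i (cokernel.π i) (cokernel.condition i)).ShortExact :=
    { exact := ShortComplex.exact_of_g_is_cokernel _ (cokernelIsCokernel _)
      mono_f := inferInstance
      epi_g := inferInstance }
  refine ⟨fun a b e => ?_, surjective_stalkMapM_of_epi _ η⟩
  have h0 : stalkLinear (cokernel.π i) η (a - b) = 0 := by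
    rw [map_sub, sub_eq_zero]; exact e
  obtain ⟨d, hd⟩ := (Frame.stalk_exact hS η _).1 h0
  have : a - b ∈ LinearMap.range (stalkLinear i η) := ⟨d, hd⟩
  rw [range_stalk_stalkSub _ hX hF hη, Submodule.mem_bot, sub_eq_zero] at this
  exact this

omit hE hG hc in
lemma cohLe_tf {F : X.Modules} (hF : Cyc.CohLe δ (k + 1) F) : Cyc.CohLe δ (k + 1) (tf δ k F) :=
  ⟨isCoh_cokernel _ (cohLe_stalkSub _ hX hF).1.1 hF.1, fun x hx =>
    haveI : Nontrivial ((tf δ k F).presheaf.stalk x) := hx
    hF.2 x (Function.Surjective.nontrivial (β := (tf δ k F).presheaf.stalk x)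
      (surjective_stalkMapM_of_epi
        (cokernel.π (stalkSub (δ := δ) (k := k + 1) (M := F) fun _ _ => ⊥).ι) x))⟩

omit hE hG hc in
/-- The torsion free quotient of the structure sheaf of a closure. -/
theorem isOne_tf (ζ : X) (hζ : δ ζ = k + 1) :
    IsOne δ k (tf δ k (Cyc.closureStructureSheaf ζ)) ζ := by
  have := hX.1
  have hcl : Cyc.CohLe δ (k + 1) (Cyc.closureStructureSheaf ζ) :=
    ⟨CycSh.isCoh_css ζ, fun x hx => (delta_le hX.2.2
      (CycSh.specializes_of_mem_support (not_subsingleton_iff_nontrivial.2 hx))).trans hζ.le⟩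
  let i := (stalkSub (δ := δ) (k := k + 1) (M := Cyc.closureStructureSheaf ζ) fun _ _ => ⊥).ι
  refine ⟨cohLe_tf hX hcl, hζ, fun y hy => ?_, ?_, fun x h => ?_⟩
  · refine specializes_iff_mem_closure.1 (CycSh.specializes_of_mem_support fun hs => hy ?_)
    exact (surjective_stalkMapM_of_epi (cokernel.π i) y).subsingleton
  · rw [← CycSh.length_css ζ]
    exact (LinearEquiv.ofBijective (stalkLinear (cokernel.π i) ζ) (bijective_tf hX hcl hζ)).length_eq.symm
  · suffices key : ∀ e, Frame.spL (tf δ k (Cyc.closureStructureSheaf ζ)) h e = 0 → e = 0 by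
      intro a b e
      refine sub_eq_zero.1 (key _ ?_)
      rw [map_sub, e, sub_self]
    intro e he
    obtain ⟨m, rfl⟩ := surjective_stalkMapM_of_epi (cokernel.π i) x e
    change Frame.spL _ h (stalkLinear (cokernel.π i) x m) = 0 at he
    rw [← Frame.stMap_spL (cokernel.π i) h m] at he
    have h0 : Frame.spL _ h m = 0 := (bijective_tf hX hcl hζ).1 (he.trans (map_zero (stalkLinear _ ζ)).symm)
    obtain ⟨W, hxW, s, rfl⟩ := germM_exist m
    have hmem : s ∈ (stalkSub (δ := δ) (k := k + 1) (M := Cyc.closureStructureSheaf ζ)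
        fun _ _ => ⊥).obj W := by
      intro η hV hη
      rw [Submodule.mem_bot]
      by_cases hs : η ∈ CohB1.support (Cyc.closureStructureSheaf ζ)
      · obtain rfl := eq_of_delta_le hX.2.2 (CycSh.specializes_of_mem_support hs) (by rw [hη, hζ])
        refine Eq.trans ?_ h0
        rw [Frame.spL_apply]
        exact (TopCat.Presheaf.germ_stalkSpecializes_apply _ _ _ _).symm
      · exact @Subsingleton.elim _ (notMem_support_iff.1 hs) _ _
    have e1 : stalkMapM i x (germM _ W x hxW (⟨s, hmem⟩ :
        (stalkSub (δ := δ) (k := k + 1) (M := Cyc.closureStructureSheaf ζ) fun _ _ => ⊥).obj W)) =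
        germM (Cyc.closureStructureSheaf ζ) W x hxW s := stalkMapM_germ _ _ _
    rw [← e1, ← stalkMapM_comp, cokernel.condition, stalkMapM_zero]
    rfl

end Groth.Agent.Cyc90.Dev
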