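import Groth.Agent.Cyc90.Dev.ChowHom
import Groth.Agent.QC70.CohOps

/-! Caps with isomorphic invertible modules agree. -/

set_option autoImplicit false
set_option backward.isDefEq.respectTransparency.types false
universe u

open CategoryTheory AlgebraicGeometry TopologicalSpace IsLocalRing

noncomputable section

namespace Groth.Agent.Cyc90.Dev

open QC70

variable {X : Scheme.{u}} {δ : X → ℤ} {L M : X.Modules}

/-- The map on fibres of a morphism of modules. -/
def fibreMap (φ : L ⟶ M) (ξ : X) : Cyc.secFibre L ξ →ₗ[X.presheaf.stalk ξ] Cyc.secFibre M ξ :=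
  Submodule.mapQ _ _ (stalkLinear φ ξ) (by
    rw [← Submodule.map_le_iff_le_comap, Submodule.map_smul'']
    exact Submodule.smul_mono le_rfl le_top)

lemma fibreMap_mk (φ : L ⟶ M) (ξ : X) (e : L.presheaf.stalk ξ) :
    fibreMap φ ξ (Submodule.Quotient.mk e) = Submodule.Quotient.mk (stalkMapM φ ξ e) := rfl

lemma fibreMap_ne_zero (e : L ≅ M) (ξ : X) {s : Cyc.secFibre L ξ} (hs : s ≠ 0) :
    fibreMap e.hom ξ s ≠ 0 := by
  intro h
  obtain ⟨a, rfl⟩ := Submodule.Quotient.mk_surjective _ s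
  have h2 := congrArg (fibreMap e.inv ξ) h
  rw [map_zero, fibreMap_mk, fibreMap_mk, ← stalkMapM_comp, e.hom_inv_id, stalkMapM_id] at h2
  exact hs h2

lemma stalkMapM_stalkSpecializes (φ : L ⟶ M) {ξ x : X} (h : ξ ⤳ x) (e : L.presheaf.stalk x) :
    stalkMapM φ ξ (L.presheaf.stalkSpecializes h e) =
      M.presheaf.stalkSpecializes h (stalkMapM φ x e) := by
  obtain ⟨W, hxW, s, rfl⟩ := germM_exist e
  rw [stalkMapM_germ, TopCat.Presheaf.germ_stalkSpecializes_apply,
    TopCat.Presheaf.germ_stalkSpecializes_apply]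
  exact stalkMapM_germ φ _ s

/-- Divisors of rational sections are invariant under isomorphisms of invertible modules. -/
theorem secDivFun_iso (hX : Cyc.IsSetup X δ) (hL : PicF.IsInvertible L) (e : L ≅ M) (ξ : X)
    (s : Cyc.secFibre L ξ) (hs : s ≠ 0) :
    Cyc.secDivFun δ M ξ (fibreMap e.hom ξ s) = Cyc.secDivFun δ L ξ s := by
  funext x
  unfold Cyc.secDivFun
  by_cases h : ξ ⤳ x ∧ δ x + 1 = δ ξ
  · rw [dif_pos h, dif_pos h]
    obtain ⟨t, ht⟩ := exists_stalk_gen hL x
    obtain ⟨φ, hφ⟩ := secFibre_gen hL h.1 t ht s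
    have ht' : Submodule.span (X.presheaf.stalk x) {stalkMapM e.hom x t} = ⊤ := by
      refine eq_top_iff.2 fun y _ => ?_
      obtain ⟨z, rfl⟩ := surjective_stalkMapM_of_epi e.hom x y
      obtain ⟨a, rfl⟩ := Submodule.mem_span_singleton.1 (ht.ge (Submodule.mem_top (x := z)))
      exact Submodule.mem_span_singleton.2 ⟨a, ((stalkLinear e.hom x).map_smul a t).symm⟩
    have hφ' : fibreMap e.hom ξ s = φ •
        (Submodule.Quotient.mk ((M.presheaf.stalkSpecializes h.1) (stalkMapM e.hom x t)) :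
          Cyc.secFibre M ξ) := by
      rw [hφ, map_smul, fibreMap_mk, stalkMapM_stalkSpecializes]
    rw [secOrdAt_eq L hX h.1 h.2 s hs t ht φ hφ,
      secOrdAt_eq M hX h.1 h.2 _ (fibreMap_ne_zero e ξ hs) _ ht' φ hφ']
  · rw [dif_neg h, dif_neg h]

lemma cap1_iso (hX : Cyc.IsSetup X δ) (hL : PicF.IsInvertible L) (hM : PicF.IsInvertible M) (e : L ≅ M)
    (s : (ξ : X) → Cyc.secFibre L ξ) (hs : ∀ ξ, s ξ ≠ 0) (α : AlgebraicCycle X ℤ) :
    cap1 hX hM (fun ξ => fibreMap e.hom ξ (s ξ)) (fun ξ => fibreMap_ne_zero e ξ (hs ξ)) α =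
      cap1 hX hL s hs α := by
  refine DFunLike.coe_injective ?_
  rw [coe_cap1, coe_cap1]
  funext x
  exact finsum_congr fun ξ => by rw [secDivFun_iso hX hL e ξ (s ξ) (hs ξ)]

/-- Caps with isomorphic modules agree up to rational equivalence. -/
lemma cap1_iso_indep (hX : Cyc.IsSetup X δ) (hL : PicF.IsInvertible L) (hM : PicF.IsInvertible M)
    (e : L ≅ M) (s : (ξ : X) → Cyc.secFibre L ξ) (hs : ∀ ξ, s ξ ≠ 0)
    (u : (ξ : X) → Cyc.secFibre M ξ) (hu : ∀ ξ, u ξ ≠ 0) {k : ℤ} {α : AlgebraicCycle X ℤ}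
    (hα : α ∈ Cyc.Zk X δ (k + 1)) :
    cap1 hX hM u hu α - cap1 hX hL s hs α ∈ ratZ hX k := by
  rw [← cap1_iso hX hL hM e s hs α]
  exact cap1_indep hX hM u hu hα _ _

/-- An epimorphism of invertible modules is an isomorphism. -/
theorem isIso_of_epi_invertible (φ : L ⟶ M) [Epi φ] (hL : PicF.IsInvertible L)
    (hM : PicF.IsInvertible M) : IsIso φ := by
  have : Mono φ := mono_of_injective_stalkMapM φ fun x => by
    obtain ⟨U, hxU, t, ht⟩ := Mero90.exists_frame' hL x
    obtain ⟨V, hxV, e, he⟩ := Mero90.exists_frame' hM x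
    have gL : Function.Bijective fun c : X.presheaf.stalk x => c • L.presheaf.germ U x hxU t :=
      Mero90.isGen_germ ht ⟨x, hxU⟩
    have gM : Function.Bijective fun c : X.presheaf.stalk x => c • M.presheaf.germ V x hxV e :=
      Mero90.isGen_germ he ⟨x, hxV⟩
    obtain ⟨u, hu⟩ := gM.2 (stalkMapM φ x (L.presheaf.germ U x hxU t))
    dsimp only at hu
    obtain ⟨z, hz⟩ := surjective_stalkMapM_of_epi φ x (M.presheaf.germ V x hxV e)
    obtain ⟨b, rfl⟩ := gL.2 z
    have h1 : stalkMapM φ x (b • L.presheaf.germ U x hxU t) =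
        b • stalkMapM φ x (L.presheaf.germ U x hxU t) := (stalkLinear φ x).map_smul b _
    have hbu : b * u = 1 := gM.1 (by
      show (b * u) • M.presheaf.germ V x hxV e = (1 : X.presheaf.stalk x) • M.presheaf.germ V x hxV e
      rw [mul_smul, hu, ← h1, one_smul]
      exact hz)
    intro a c hac
    obtain ⟨a', rfl⟩ := gL.2 a
    obtain ⟨c', rfl⟩ := gL.2 c
    have h2 : stalkMapM φ x (a' • L.presheaf.germ U x hxU t) =
        a' • stalkMapM φ x (L.presheaf.germ U x hxU t) := (stalkLinear φ x).map_smul a' _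
    have h3 : stalkMapM φ x (c' • L.presheaf.germ U x hxU t) =
        c' • stalkMapM φ x (L.presheaf.germ U x hxU t) := (stalkLinear φ x).map_smul c' _
    dsimp only at hac
    rw [h2, h3, ← hu, ← mul_smul, ← mul_smul] at hac
    have h4 := congrArg (· * b) (gM.1 hac)
    simp only [mul_assoc, mul_comm u b, hbu, mul_one] at h4
    rw [h4]
  exact isIso_of_mono_of_epi φ

end Groth.Agent.Cyc90.Dev
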