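import Groth.Agent.Cyc90.Dev.ChowHom
import Groth.Agent.Cyc90.Dev.SecIso
import Groth.Agent.Cyc90.C1Tensor
import Mathlib.Algebra.DirectSum.Ring
import Mathlib.Algebra.Ring.Subring.Basic

/-! The group of cycle classes of all dimensions and the commutative ring of first Chern operators. -/

set_option autoImplicit false
set_option backward.isDefEq.respectTransparency.types false
set_option synthInstance.maxHeartbeats 200000
universe u

open CategoryTheory AlgebraicGeometry TopologicalSpace Opposite DirectSum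

noncomputable section

namespace Groth.Agent.Cyc90.Dev

open Var76.LineBundle

variable {X : Scheme.{u}} {δ : X → ℤ}

/-- Classes of cycles of one dimension. -/
abbrev Chow1 (hX : Cyc.IsSetup X δ) (k : ℤ) : Type u :=
  zkSub δ k ⧸ (ratZ hX k).addSubgroupOf (zkSub δ k)

/-- Classes of cycles of all dimensions. -/
abbrev ChowAll (hX : Cyc.IsSetup X δ) : Type u := ⨁ k : ℤ, Chow1 hX k

variable (hX : Cyc.IsSetup X δ)

open Classical in
/-- The class of a cycle in one degree, zero if the cycle is not of that dimension. -/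
def clk (k : ℤ) (α : AlgebraicCycle X ℤ) : ChowAll hX :=
  if h : α ∈ zkSub δ k then DirectSum.of (Chow1 hX) k (QuotientAddGroup.mk ⟨α, h⟩) else 0

lemma clk_of_mem {k : ℤ} {α : AlgebraicCycle X ℤ} (h : α ∈ zkSub δ k) :
    clk hX k α = DirectSum.of (Chow1 hX) k (QuotientAddGroup.mk ⟨α, h⟩) := dif_pos h

lemma clk_zero (k : ℤ) : clk hX k 0 = 0 := by
  rw [clk_of_mem hX (zero_mem _)]
  exact map_zero _

lemma clk_add {k : ℤ} {α β : AlgebraicCycle X ℤ} (ha : α ∈ zkSub δ k) (hb : β ∈ zkSub δ k) :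
    clk hX k (α + β) = clk hX k α + clk hX k β := by
  rw [clk_of_mem hX ha, clk_of_mem hX hb, clk_of_mem hX (add_mem ha hb), ← map_add]
  rfl

lemma clk_sum {ι : Type*} (S : Finset ι) {k : ℤ} (α : ι → AlgebraicCycle X ℤ)
    (h : ∀ i ∈ S, α i ∈ zkSub δ k) : clk hX k (∑ i ∈ S, α i) = ∑ i ∈ S, clk hX k (α i) := by
  classical
  induction S using Finset.induction with
  | empty => simpa using clk_zero hX k
  | insert i S hi ih =>
    rw [Finset.sum_insert hi, Finset.sum_insert hi, clk_add hX (h i (Finset.mem_insert_self i S))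
      (sum_mem fun j hj => h j (Finset.mem_insert_of_mem hj)),
      ih fun j hj => h j (Finset.mem_insert_of_mem hj)]

lemma clk_zsmul {k : ℤ} {α : AlgebraicCycle X ℤ} (ha : α ∈ zkSub δ k) (c : ℤ) :
    clk hX k (c • α) = c • clk hX k α := by
  rw [clk_of_mem hX ha, clk_of_mem hX (zsmul_mem ha c), ← map_zsmul]
  rfl

lemma clk_eq_zero_iff {k : ℤ} {α : AlgebraicCycle X ℤ} (ha : α ∈ zkSub δ k) :
    clk hX k α = 0 ↔ α ∈ ratZ hX k := by
  rw [clk_of_mem hX ha]
  refine ⟨fun h => ?_, fun h => ?_⟩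
  · have h2 := DirectSum.of_injective k (h.trans (map_zero (DirectSum.of (Chow1 hX) k)).symm)
    exact AddSubgroup.mem_addSubgroupOf.1 ((QuotientAddGroup.eq_zero_iff _).1 h2)
  · rw [show (QuotientAddGroup.mk ⟨α, ha⟩ : Chow1 hX k) = 0 from
      (QuotientAddGroup.eq_zero_iff _).2 (AddSubgroup.mem_addSubgroupOf.2 h), map_zero]

lemma clk_eq_iff {k : ℤ} {α β : AlgebraicCycle X ℤ} (ha : α ∈ zkSub δ k) (hb : β ∈ zkSub δ k) :
    clk hX k α = clk hX k β ↔ Cyc.RatEquiv δ k α β := by
  have h := clk_add hX (sub_mem ha hb) hb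
  rw [sub_add_cancel] at h
  rw [h, add_eq_right, clk_eq_zero_iff hX (sub_mem ha hb)]
  rfl

lemma clk_congr {k : ℤ} {α β : AlgebraicCycle X ℤ} (ha : α ∈ zkSub δ k) (hb : β ∈ zkSub δ k)
    (h : α - β ∈ ratZ hX k) : clk hX k α = clk hX k β := (clk_eq_iff hX ha hb).2 h

/-- Two homomorphisms out of the classes agree when they agree on every class of a cycle. -/
lemma chowAll_ext {M : Type*} [AddCommMonoid M] {f g : ChowAll hX →+ M}
    (h : ∀ (k : ℤ) (α : AlgebraicCycle X ℤ), α ∈ zkSub δ k → f (clk hX k α) = g (clk hX k α)) : f = g := by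
  refine DirectSum.addHom_ext fun k y => ?_
  obtain ⟨⟨α, hα⟩, rfl⟩ := QuotientAddGroup.mk_surjective y
  simpa only [clk_of_mem hX hα] using h k α hα

section Cap

variable {L : X.Modules} (hL : PicF.IsInvertible L) (s : (ξ : X) → Cyc.secFibre L ξ) (hs : ∀ ξ, s ξ ≠ 0)

lemma cap1_mem_pred {k : ℤ} {α : AlgebraicCycle X ℤ} (h : α ∈ zkSub δ k) :
    cap1 hX hL s hs α ∈ zkSub δ (k - 1) :=
  cap1_mem hX hL s hs (k := k - 1) (by rw [sub_add_cancel]; exact h)

/-- Capping with chosen sections, on classes. -/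
def c1Aux : ChowAll hX →+ ChowAll hX :=
  DirectSum.toAddMonoid fun k => (DirectSum.of (Chow1 hX) (k - 1)).comp
    (QuotientAddGroup.map _ _
      ((((cap1 hX hL s hs).comp (zkSub δ k).subtype)).codRestrict (zkSub δ (k - 1))
        fun a => cap1_mem_pred hX hL s hs a.2)
      fun _ ha => AddSubgroup.mem_addSubgroupOf.2 ((mem_ratZ hX).2 (cap1_rat hX hL s hs (by
        rw [sub_add_cancel]; exact AddSubgroup.mem_addSubgroupOf.1 ha))))

lemma c1Aux_clk {k : ℤ} {α : AlgebraicCycle X ℤ} (ha : α ∈ zkSub δ k) :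
    c1Aux hX hL s hs (clk hX k α) = clk hX (k - 1) (cap1 hX hL s hs α) := by
  rw [clk_of_mem hX ha, clk_of_mem hX (cap1_mem_pred hX hL s hs ha), c1Aux, DirectSum.toAddMonoid_of]
  rfl

end Cap

open Classical in
/-- The first Chern operator of an invertible sheaf, zero for the other sheaves. -/
def c1End (L : X.Modules) : AddMonoid.End (ChowAll hX) :=
  if h : PicF.IsInvertible L then
    c1Aux hX h (exists_secFibre_family' h).choose (exists_secFibre_family' h).choose_spec
  else 0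
where
  exists_secFibre_family' {L : X.Modules} (hL : PicF.IsInvertible L) :
      ∃ s : (ξ : X) → Cyc.secFibre L ξ, ∀ ξ, s ξ ≠ 0 := by
    choose U hU e he using fun x => Mero90.exists_frame' hL x
    exact ⟨fun ξ => Submodule.Quotient.mk (L.presheaf.germ (U ξ) ξ (hU ξ) (e ξ)),
      fun ξ => mk_germ_frame_ne_zero (he ξ) (hU ξ)⟩

lemma c1End_clk {L : X.Modules} (hL : PicF.IsInvertible L) (s : (ξ : X) → Cyc.secFibre L ξ)
    (hs : ∀ ξ, s ξ ≠ 0) {k : ℤ} {α : AlgebraicCycle X ℤ} (ha : α ∈ zkSub δ k) :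
    c1End hX L (clk hX k α) = clk hX (k - 1) (cap1 hX hL s hs α) := by
  rw [c1End, dif_pos hL]
  refine (c1Aux_clk hX hL _ _ ha).trans ?_
  exact clk_congr hX (cap1_mem_pred hX hL _ _ ha) (cap1_mem_pred hX hL _ _ ha)
    (cap1_indep hX hL _ _ (k := k - 1) (by rw [sub_add_cancel]; exact ha) s hs)

lemma c1End_comm (L M : X.Modules) : Commute (c1End hX L) (c1End hX M) := by
  by_cases hL : PicF.IsInvertible L
  swap
  · rw [show c1End hX L = 0 from dif_neg hL]; exact Commute.zero_left _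
  by_cases hM : PicF.IsInvertible M
  swap
  · rw [show c1End hX M = 0 from dif_neg hM]; exact Commute.zero_right _
  obtain ⟨s, hs⟩ := c1End.exists_secFibre_family' hL
  obtain ⟨v, hv⟩ := c1End.exists_secFibre_family' hM
  refine chowAll_ext hX fun k α ha => ?_
  show c1End hX L (c1End hX M (clk hX k α)) = c1End hX M (c1End hX L (clk hX k α))
  rw [c1End_clk hX hM v hv ha, c1End_clk hX hL s hs ha, c1End_clk hX hL s hs (cap1_mem_pred hX hM v hv ha),
    c1End_clk hX hM v hv (cap1_mem_pred hX hL s hs ha)]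
  exact clk_congr hX (cap1_mem_pred hX hL _ _ (cap1_mem_pred hX hM v hv ha))
    (cap1_mem_pred hX hM _ _ (cap1_mem_pred hX hL s hs ha))
    (cap1_comm hX hL s hs hM v hv (k := k - 1 - 1) (by rw [show k - 1 - 1 + 2 = k by ring]; exact ha))

/-- The ring generated by the first Chern operators. -/
abbrev opRing : Subring (AddMonoid.End (ChowAll hX)) := Subring.closure (Set.range (c1End hX))

instance : CommRing (opRing hX) where
  mul_comm := (Subring.isMulCommutative_closure
    (by rintro _ ⟨L, rfl⟩ _ ⟨M, rfl⟩; exact c1End_comm hX L M)).is_comm.comm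

/-- The first Chern operator as an element of the commutative ring. -/
def lc1 (L : X.Modules) : opRing hX := ⟨c1End hX L, Subring.subset_closure ⟨L, rfl⟩⟩

/-- Action of the operators. -/
def opAct : opRing hX →+* AddMonoid.End (ChowAll hX) := (opRing hX).subtype

lemma opAct_lc1 (L : X.Modules) : opAct hX (lc1 hX L) = c1End hX L := rfl

lemma lc1_ext {a b : opRing hX}
    (h : ∀ (k : ℤ) (α : AlgebraicCycle X ℤ), α ∈ zkSub δ k → opAct hX a (clk hX k α) = opAct hX b (clk hX k α)) :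
    a = b :=
  Subtype.ext (chowAll_ext hX h)

lemma lc1_pow_clk {L : X.Modules} (hL : PicF.IsInvertible L) (t : ℕ → (ξ : X) → Cyc.secFibre L ξ)
    (ht : ∀ i ξ, t i ξ ≠ 0) {k : ℤ} {α : AlgebraicCycle X ℤ} (ha : α ∈ zkSub δ k) :
    ∀ m : ℕ, opAct hX (lc1 hX L ^ m) (clk hX k α) = clk hX (k - m) (capPow hX hL t ht m α)
  | 0 => by rw [pow_zero, map_one, capPow_zero, Nat.cast_zero, sub_zero]; rfl
  | m + 1 => by
    rw [pow_succ', map_mul, opAct_lc1]
    show c1End hX L (opAct hX (lc1 hX L ^ m) (clk hX k α)) = _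
    rw [lc1_pow_clk hL t ht ha m, c1End_clk hX hL (t m) (ht m) (capPow_mem hX hL t ht ha m), capPow_succ,
      show k - ((m + 1 : ℕ) : ℤ) = k - m - 1 by push_cast; ring]

lemma lc1_iso {L M : X.Modules} (hL : PicF.IsInvertible L) (hM : PicF.IsInvertible M) (e : L ≅ M) :
    lc1 hX L = lc1 hX M := by
  obtain ⟨s, hs⟩ := c1End.exists_secFibre_family' hL
  obtain ⟨v, hv⟩ := c1End.exists_secFibre_family' hM
  refine lc1_ext hX fun k α ha => ?_
  show c1End hX L _ = c1End hX M _
  rw [c1End_clk hX hL s hs ha, c1End_clk hX hM v hv ha]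
  refine (clk_congr hX (cap1_mem_pred hX hM v hv ha) (cap1_mem_pred hX hL s hs ha) ?_).symm
  exact cap1_iso_indep hX hL hM e s hs v hv (k := k - 1) (by rw [sub_add_cancel]; exact ha)

lemma lc1_tensor {L N : X.Modules} (hL : PicF.IsInvertible L) (hN : PicF.IsInvertible N)
    (hT : PicF.IsInvertible (CohB1.tensorMod L N)) :
    lc1 hX (CohB1.tensorMod L N) = lc1 hX L + lc1 hX N := by
  obtain ⟨s, hs⟩ := c1End.exists_secFibre_family' hL
  obtain ⟨v, hv⟩ := c1End.exists_secFibre_family' hN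
  refine lc1_ext hX fun k α ha => ?_
  obtain ⟨w, hw, h⟩ := c1Cap_tensor (L := L) (N := N) hX hL hN α s hs v hv
  rw [map_add]
  show c1End hX _ _ = c1End hX L _ + c1End hX N _
  rw [c1End_clk hX hL s hs ha, c1End_clk hX hN v hv ha, c1End_clk hX hT w hw ha,
    ← clk_add hX (cap1_mem_pred hX hL s hs ha) (cap1_mem_pred hX hN v hv ha)]
  congr 1
  refine DFunLike.coe_injective ?_
  rw [coe_cap1, Function.locallyFinsuppWithin.coe_add, coe_cap1, coe_cap1, h]

/-- An invertible sheaf with a global frame has trivial first Chern operator. -/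
lemma lc1_of_frame {L : X.Modules} (hL : PicF.IsInvertible L) {e : Γ(L, ⊤)} (he : IsFrame L ⊤ e) :
    lc1 hX L = 0 := by
  let s : (ξ : X) → Cyc.secFibre L ξ := fun ξ => Submodule.Quotient.mk (L.presheaf.germ ⊤ ξ trivial e)
  have hs : ∀ ξ, s ξ ≠ 0 := fun ξ => mk_germ_frame_ne_zero he trivial
  refine lc1_ext hX fun k α ha => ?_
  rw [map_zero]
  show c1End hX L _ = 0
  rw [c1End_clk hX hL s hs ha]
  suffices h : cap1 hX hL s hs α = 0 by rw [h]; exact clk_zero hX _
  refine DFunLike.coe_injective (funext fun x => ?_)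
  rw [coe_cap1]
  refine (finsum_eq_zero_of_forall_eq_zero fun ξ => ?_).trans rfl
  unfold Cyc.secDivFun
  split_ifs with h
  · have hgen : Submodule.span (X.presheaf.stalk x) {L.presheaf.germ ⊤ x trivial e} = ⊤ :=
      eq_top_iff.2 fun v _ => Submodule.mem_span_singleton.2 ((Mero90.isGen_germ he ⟨x, (trivial : x ∈ (⊤ : X.Opens))⟩).2 v)
    rw [secOrdAt_eq L hX h.1 h.2 _ (hs ξ) _ hgen 1
      (by rw [TopCat.Presheaf.germ_stalkSpecializes_apply, one_smul])]
    simp only [map_one, mul_eq_zero]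
    right
    unfold Cyc.ordAt CycAlg.ordFrac
    split_ifs with h' <;> simp
  · exact mul_zero _

end Groth.Agent.Cyc90.Dev
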