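import Groth.Agent.Cyc90.Dev.FibreCap
import Groth.Agent.Cyc90.AffBundlePoly
import Groth.Agent.Cyc90.FieldSetup
import Groth.Agent.Curves2.ChartsToProj
import Groth.Agent.Approx60.Segre

/-! The cell decomposition of projective space and rational equivalence of its cycles. -/

set_option autoImplicit false
set_option backward.isDefEq.respectTransparency.types false
universe u

open CategoryTheory CategoryTheory.Limits AlgebraicGeometry TopologicalSpace

noncomputable section

namespace Groth.Agent.Cyc90.Dev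

open HomogeneousLocalization Var76.ProjCoord Curves2.Charts

variable (K : Type u) [Field K] (n : ℕ)

local notation "PP" => CohB1.ProjSpace n K
local notation "AA" l => Spec (CommRingCat.of (MvPolynomial (Fin l) K))

lemma X_mem (i : Fin (n + 1)) :
    (MvPolynomial.X i : MvPolynomial (Fin (n + 1)) K) ∈ CohB1.polyGrading n K 1 := (X₁ K n i).2

/-- The linear subspace where the coordinates of index `> l` vanish. -/
def linSub (l : ℕ) : Set PP :=
  {x | ∀ i : Fin (n + 1), l < i → (MvPolynomial.X i : MvPolynomial (Fin (n + 1)) K) ∈ x.asHomogeneousIdeal}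

lemma linSub_eq (l : ℕ) : linSub K n l = ⋂ i : {i : Fin (n + 1) // l < i}, ((U K n i.1 : Set PP))ᶜ := by
  ext x
  simp only [linSub, Set.mem_setOf_eq, Set.mem_iInter, Set.mem_compl_iff, SetLike.mem_coe]
  exact ⟨fun h i hx => hx (h i.1 i.2), fun h i hi => not_not.1 fun hx => h ⟨i, hi⟩ hx⟩

lemma isClosed_linSub (l : ℕ) : IsClosed (linSub K n l) := by
  rw [linSub_eq]
  exact isClosed_iInter fun i => (U K n i.1).2.isClosed_compl

lemma linSub_top (x : PP) : x ∈ linSub K n n := fun i hi => absurd hi (by omega)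

lemma linSub_zero_subset (x : PP) (h : x ∈ linSub K n 0) : x ∈ U K n ⟨0, by omega⟩ := by
  obtain ⟨j, hj⟩ := exists_mem_U K n x
  rcases Nat.eq_zero_or_pos (j : ℕ) with h0 | h0
  · rwa [show (⟨0, by omega⟩ : Fin (n + 1)) = j from Fin.ext h0.symm]
  · exact absurd (h j h0) hj

lemma mem_linSub_of_notMem {l : ℕ} (hl : l + 1 ≤ n) {x : PP} (hx : x ∈ linSub K n (l + 1))
    (hU : x ∉ U K n ⟨l + 1, by omega⟩) : x ∈ linSub K n l := fun i hi => by
  rcases (show (i : ℕ) = l + 1 ∨ l + 1 < i by omega) with h | h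
  · rw [show i = (⟨l + 1, by omega⟩ : Fin (n + 1)) from Fin.ext h]
    exact not_not.1 hU
  · exact hx i h

variable (l : ℕ) (hl : l ≤ n)

/-- Coordinates of the `l`-cell. -/
def cellCoord : Fin (n + 1) → MvPolynomial (Fin l) K := fun i =>
  if h : (i : ℕ) < l then MvPolynomial.X ⟨i, h⟩ else if (i : ℕ) = l then 1 else 0

/-- Restriction of fractions to the `l`-cell. -/
def cellRing : Away (CohB1.polyGrading n K) (MvPolynomial.X (⟨l, by omega⟩ : Fin (n + 1))) →+*
    MvPolynomial (Fin l) K :=
  awayEval (MvPolynomial.eval₂Hom MvPolynomial.C (cellCoord K n l)) _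
    (isUnit_eval_X _ _ _ (by simp [cellCoord]))

/-- The `l`-cell of projective space. -/
def cellMap : (AA l) ⟶ PP :=
  Spec.map (CommRingCat.ofHom (cellRing K n l hl)) ≫
    Proj.awayι (CohB1.polyGrading n K) (MvPolynomial.X (⟨l, by omega⟩ : Fin (n + 1)))
      (X_mem K n _) one_pos

lemma cellRing_frac (i : Fin (n + 1)) :
    cellRing K n l hl (frac K n ⟨l, by omega⟩ (X₁ K n i)) = cellCoord K n l i :=
  awayEval_frac _ _ _ (by simp [cellCoord]) _ i

lemma cellRing_const (r : K) :
    cellRing K n l hl (fromZeroRingHom (CohB1.polyGrading n K) _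
      (algebraMap K (CohB1.polyGrading n K 0) r)) = MvPolynomial.C r :=
  awayEval_const _ _ _ _ r

lemma cellRing_surjective : Function.Surjective (cellRing K n l hl) := fun x => by
  induction x using MvPolynomial.induction_on with
  | C r => exact ⟨_, cellRing_const K n l hl r⟩
  | add p q hp hq =>
    obtain ⟨a, rfl⟩ := hp
    obtain ⟨b, rfl⟩ := hq
    exact ⟨a + b, map_add _ _ _⟩
  | mul_X p i hp =>
    obtain ⟨a, rfl⟩ := hp
    refine ⟨a * frac K n _ (X₁ K n ⟨i, by omega⟩), ?_⟩
    rw [map_mul, cellRing_frac]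
    simp [cellCoord]


instance : IsPreimmersion (cellMap K n l hl) := by
  have : IsClosedImmersion (Spec.map (CommRingCat.ofHom (cellRing K n l hl))) :=
    IsClosedImmersion.spec_of_surjective _ (cellRing_surjective K n l hl)
  exact inferInstanceAs (IsPreimmersion (Spec.map (CommRingCat.ofHom (cellRing K n l hl)) ≫
    Proj.awayι (CohB1.polyGrading n K) (MvPolynomial.X (⟨l, by omega⟩ : Fin (n + 1)))
      (X_mem K n _) one_pos))

lemma cellMap_toSpec : cellMap K n l hl ≫ CohB1.ProjSpace.toSpec n K =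
    Spec.map (CommRingCat.ofHom (algebraMap K (MvPolynomial (Fin l) K))) := by
  show (Spec.map (CommRingCat.ofHom (cellRing K n l hl)) ≫
    Proj.awayι (CohB1.polyGrading n K) (MvPolynomial.X (⟨l, by omega⟩ : Fin (n + 1)))
      (X_mem K n _) one_pos) ≫ Proj.toSpecZero (CohB1.polyGrading n K) ≫
      Spec.map (CommRingCat.ofHom (algebraMap K (CohB1.polyGrading n K 0))) = _
  rw [Category.assoc, Proj.awayι_toSpecZero_assoc,
    ← Spec.map_comp, ← Spec.map_comp]
  congr 1
  exact CommRingCat.hom_ext (RingHom.ext fun r => cellRing_const K n l hl r)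

lemma exists_eval₂_away (j : Fin (n + 1))
    (z : Away (CohB1.polyGrading n K) (MvPolynomial.X j)) :
    ∃ p : MvPolynomial (Fin (n + 1)) K, MvPolynomial.eval₂
      ((fromZeroRingHom (CohB1.polyGrading n K) _).comp (algebraMap K (CohB1.polyGrading n K 0)))
      (fun i => frac K n j (X₁ K n i)) p = z := by
  let a := Proj.awayToSection (CohB1.polyGrading n K) (MvPolynomial.X j)
  obtain ⟨p, hp⟩ := exists_eval₂_eq K n j (a z)
  refine ⟨p, (ConcreteCategory.bijective_of_isIso
    (Proj.basicOpenIsoAway (CohB1.polyGrading n K) _ (X_mem K n j) one_pos).hom).1 ?_⟩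
  refine Eq.trans ?_ hp
  rw [show Var76.BertiniScheme.const (k := K) PP (U K n j) =
    a.hom.comp ((fromZeroRingHom (CohB1.polyGrading n K) _).comp
      (algebraMap K (CohB1.polyGrading n K 0))) from congrArg CommRingCat.Hom.hom (const_eq K n j)]
  exact MvPolynomial.eval₂_comp_left a.hom _ _ p

lemma ker_cellRing_le : RingHom.ker (cellRing K n l hl) ≤ Ideal.span
    ((fun i => frac K n ⟨l, by omega⟩ (X₁ K n i)) '' {i : Fin (n + 1) | l < i}) := by
  set j : Fin (n + 1) := ⟨l, by omega⟩
  let cst := (fromZeroRingHom (CohB1.polyGrading n K) (Submonoid.powers (MvPolynomial.X j))).comp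
    (algebraMap K (CohB1.polyGrading n K 0))
  let σ : MvPolynomial (Fin l) K →+* Away (CohB1.polyGrading n K) (MvPolynomial.X j) :=
    MvPolynomial.eval₂Hom cst fun i => frac K n j (X₁ K n ⟨i, by omega⟩)
  set I := Ideal.span ((fun i => frac K n j (X₁ K n i)) '' {i : Fin (n + 1) | l < i})
  have h1 : frac K n j (X₁ K n j) = 1 := by
    apply HomogeneousLocalization.val_injective
    rw [frac, HomogeneousLocalization.val_mk, HomogeneousLocalization.val_one]
    exact Localization.mk_self (⟨MvPolynomial.X j, 1, pow_one _⟩ : Submonoid.powers (MvPolynomial.X j : MvPolynomial (Fin (n + 1)) K))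
  have hq : ∀ z, Ideal.Quotient.mk I z = Ideal.Quotient.mk I (σ (cellRing K n l hl z)) := by
    intro z
    obtain ⟨p, rfl⟩ := exists_eval₂_away K n j z
    induction p using MvPolynomial.induction_on with
    | C r => simp only [MvPolynomial.eval₂_C]; rw [show cellRing K n l hl (cst r) = _ from cellRing_const K n l hl r, MvPolynomial.eval₂Hom_C]
    | add p q hp hq => simp only [MvPolynomial.eval₂_add, map_add, hp, hq]
    | mul_X p i hp =>
      simp only [MvPolynomial.eval₂_mul, MvPolynomial.eval₂_X, map_mul, hp]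
      congr 1
      rw [cellRing_frac, cellCoord]
      split_ifs with h1' h2
      · simp [σ]
      · rw [map_one, show i = j from Fin.ext h2, h1]
      · rw [map_zero, map_zero, Ideal.Quotient.eq_zero_iff_mem]
        exact Ideal.subset_span ⟨i, show l < (i : ℕ) by omega, rfl⟩
  intro z hz
  rw [← Ideal.Quotient.eq_zero_iff_mem, hq, RingHom.mem_ker.1 hz, map_zero, map_zero]

lemma range_cellMap : Set.range (cellMap K n l hl) = linSub K n l ∩ (U K n ⟨l, by omega⟩ : Set PP) := by
  set j : Fin (n + 1) := ⟨l, by omega⟩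
  let ι := Proj.awayι (CohB1.polyGrading n K) (MvPolynomial.X j) (X_mem K n j) one_pos
  have hι : ∀ q, (ι q ∈ linSub K n l) ↔ ∀ i : Fin (n + 1), l < i →
      frac K n j (X₁ K n i) ∈ q.asIdeal := by
    intro q
    refine forall_congr' fun i => imp_congr_right fun _ => ?_
    have h := Proj.awayι_preimage_basicOpen (CohB1.polyGrading n K) (f := MvPolynomial.X j)
      (X_mem K n j) (zero_lt_one' ℕ) (g := MvPolynomial.X i) (X_mem K n i) one_pos
    have e : Away.isLocalizationElem (X_mem K n j) (X_mem K n i) = frac K n j (X₁ K n i) := by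
      apply HomogeneousLocalization.val_injective
      simp [Away.isLocalizationElem, frac, Away.val_mk, HomogeneousLocalization.val_mk, X₁]
    rw [e] at h
    have h2 : ι q ∈ U K n i ↔ q ∈ PrimeSpectrum.basicOpen (frac K n j (X₁ K n i)) := by
      rw [← h]; rfl
    exact not_iff_not.1 h2
  have hU : Set.range ι = (U K n j : Set PP) :=
    congrArg SetLike.coe (Proj.opensRange_awayι (CohB1.polyGrading n K) _ (X_mem K n j) one_pos)
  refine Set.eq_of_subset_of_subset ?_ ?_
  · rintro _ ⟨q, rfl⟩
    refine ⟨(hι _).2 fun i hi => ?_, hU ▸ ⟨_, rfl⟩⟩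
    show cellRing K n l hl (frac K n j (X₁ K n i)) ∈ q.asIdeal
    rw [cellRing_frac, cellCoord, dif_neg (by omega), if_neg (by omega)]
    exact zero_mem _
  · rintro x ⟨hx, hxU⟩
    obtain ⟨q, rfl⟩ := hU ▸ hxU
    have hle : RingHom.ker (cellRing K n l hl) ≤ q.asIdeal :=
      (ker_cellRing_le K n l hl).trans (Ideal.span_le.2 (by
        rintro _ ⟨i, hi, rfl⟩
        exact (hι q).1 hx i hi))
    obtain ⟨w, hw⟩ : q ∈ Set.range (PrimeSpectrum.comap (cellRing K n l hl)) := by
      rw [range_comap_of_surjective _ _ (cellRing_surjective K n l hl)]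
      exact (PrimeSpectrum.mem_zeroLocus _ _).2 hle
    exact ⟨w, congrArg ι hw⟩

end Groth.Agent.Cyc90.Dev
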