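import Groth.Agent.Cyc90.Dev.ProjCells
import Groth.Agent.Cyc90.Dev.BundleDeg
import Groth.Agent.Cyc90.C1RatEquiv
import Groth.Agent.Cyc90.RatPush

/-! Cycles on projective space are multiples of self-caps of `O(1)` up to rational equivalence. -/

set_option autoImplicit false
set_option backward.isDefEq.respectTransparency.types false
universe u

open CategoryTheory CategoryTheory.Limits AlgebraicGeometry TopologicalSpace

noncomputable section

namespace Groth.Agent.Cyc90.Dev

variable (K : Type u) [Field K] (n : ℕ)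

lemma toSpec_apply_eq (x : (CohB1.ProjSpace n K)) : (CohB1.ProjSpace.toSpec n K) x = (IsLocalRing.closedPoint K) :=
  Subsingleton.elim (α := PrimeSpectrum K) _ _

lemma compactSpace_projSpace : CompactSpace (CohB1.ProjSpace n K) :=
  have := Approx60.Segre.isProper_toSpec K n
  QuasiCompact.compactSpace_of_compactSpace (CohB1.ProjSpace.toSpec n K)

lemma finite_support_of_cycle (c : AlgebraicCycle (CohB1.ProjSpace n K) ℤ) : (Function.support ⇑c).Finite := by
  have := compactSpace_projSpace K n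
  have h := LocallyFiniteSupport.finite_inter_support_of_isCompact (f := (c : (CohB1.ProjSpace n K) → ℤ))
    (fun z => c.supportLocallyFiniteWithinDomain' z trivial) isCompact_univ
  rwa [Set.univ_inter] at h

/-- A finitely supported function as a cycle. -/
def cycleOfFun {F : (CohB1.ProjSpace n K) → ℤ} (hF : (Function.support F).Finite) : AlgebraicCycle (CohB1.ProjSpace n K) ℤ where
  toFun := F
  supportWithinDomain' := Set.subset_univ _
  supportLocallyFiniteWithinDomain' := fun _ _ =>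
    ⟨Set.univ, Filter.univ_mem, hF.subset fun _ hy => hy.2⟩

lemma finite_support_pointFun (ξ : (CohB1.ProjSpace n K)) : (Function.support (pointFun ξ)).Finite :=
  (Set.finite_singleton ξ).subset fun x hx => by
    by_contra h
    exact hx (if_neg h)

variable {δ : (CohB1.ProjSpace n K) → ℤ} (hδ : Cyc.DeltaCompat (CohB1.ProjSpace.toSpec n K) δ (fun _ => 0))
include hδ

lemma setup_projSpace : Cyc.IsSetup (CohB1.ProjSpace n K) δ :=
  have := Approx60.Segre.isProper_toSpec K n
  isSetup_of_field (CohB1.ProjSpace.toSpec n K) δ hδ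

lemma finite_support_divFun (ζ : (CohB1.ProjSpace n K)) (g : ((CohB1.ProjSpace n K)).residueField ζ) (hg : g ≠ 0) :
    (Function.support (Cyc.divFun δ ζ g)).Finite :=
  finite_support_of_cycle K n
    { toFun := Cyc.divFun δ ζ g
      supportWithinDomain' := Set.subset_univ _
      supportLocallyFiniteWithinDomain' := fun z _ => divFun_locallyFinite (setup_projSpace K n hδ) ζ g hg z }

lemma finite_support_fibKilled {m : ℤ} {F : (CohB1.ProjSpace n K) → ℤ} (h : FibKilled (CohB1.ProjSpace.toSpec n K) δ (IsLocalRing.closedPoint K) m F) :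
    (Function.support F).Finite := by
  obtain ⟨ι, hι, ζ, g, h1, h2⟩ := h
  refine (Set.finite_iUnion fun i => finite_support_divFun K n hδ (ζ i) (g i) (h1 i).2.2).subset ?_
  intro x hx
  by_contra hn
  simp only [Set.mem_iUnion, Function.mem_support, not_exists, not_not] at hn
  exact hx ((h2 x (toSpec_apply_eq K n x)).trans (Finset.sum_eq_zero fun i _ => hn i))

lemma delta_eq_of_fibKilled {m : ℤ} {F : (CohB1.ProjSpace n K) → ℤ} (h : FibKilled (CohB1.ProjSpace.toSpec n K) δ (IsLocalRing.closedPoint K) m F) {x : (CohB1.ProjSpace n K)} (hx : F x ≠ 0) :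
    δ x = m := by
  obtain ⟨ι, hι, ζ, g, h1, h2⟩ := h
  by_contra hn
  refine hx ((h2 x (toSpec_apply_eq K n x)).trans (Finset.sum_eq_zero fun i _ => dif_neg fun hh => ?_))
  have := (h1 i).2.1
  omega

section Cell

variable (l : ℕ) (hl : l ≤ n)

lemma setup_cell :
    Cyc.DeltaCompat (Spec.map (CommRingCat.ofHom (algebraMap K (MvPolynomial (Fin l) K))))
      (fun w => δ (cellMap K n l hl w) - 0) (fun _ => 0) ∧
    Cyc.IsSetup (Spec (CommRingCat.of (MvPolynomial (Fin l) K))) (fun w => δ (cellMap K n l hl w) - 0) := by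
  have h := deltaCompat_square' (cellMap K n l hl) (𝟙 (Spec (CommRingCat.of K)))
    (Spec.map (CommRingCat.ofHom (algebraMap K (MvPolynomial (Fin l) K)))) (CohB1.ProjSpace.toSpec n K)
    (by rw [Category.comp_id, cellMap_toSpec]) hδ 0 (fun _ => rfl)
  have : LocallyOfFiniteType (Spec.map (CommRingCat.ofHom (algebraMap K (MvPolynomial (Fin l) K)))) := by
    rw [HasRingHomProperty.Spec_iff (P := @LocallyOfFiniteType)]
    exact RingHom.finiteType_algebraMap.2 (inferInstance : Algebra.FiniteType K (MvPolynomial (Fin l) K))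
  exact ⟨h, isSetup_of_field _ _ h⟩

lemma isAffFibre_cell :
    IsAffFibre (Spec.map (CommRingCat.ofHom (algebraMap K (MvPolynomial (Fin l) K))))
      (fun w => δ (cellMap K n l hl w) - 0) (fun _ => 0) l (IsLocalRing.closedPoint K) := by
  obtain ⟨h, hA⟩ := setup_cell K n hδ l hl
  exact isAffFibre_poly l K _ (algebraMap K _) (RingEquiv.refl _) (fun _ => rfl) _ _ hA
    (isSetup_spec_field K) h (IsLocalRing.closedPoint K)

lemma delta_cell :
    ∃ ζ, δ (cellMap K n l hl ζ) = l ∧
      ∀ w, δ (cellMap K n l hl w) ≤ l ∧ (δ (cellMap K n l hl w) = l → w = ζ) := by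
  obtain ⟨-, hA⟩ := setup_cell K n hδ l hl
  obtain ⟨ζ, -, hd, -, hall, -⟩ := isAffFibre_cell K n hδ l hl
  simp only [sub_zero, zero_add] at hd
  refine ⟨ζ, hd, fun w => ?_⟩
  have hw := hall w (Subsingleton.elim (α := PrimeSpectrum K) _ _)
  have h1 := delta_le hA.2.2 hw
  simp only [sub_zero] at h1
  exact ⟨h1.trans hd.le, fun h => (eq_of_delta_le hA.2.2 hw (by simp only [sub_zero]; omega)).symm⟩

lemma cell_kill {z : (CohB1.ProjSpace n K)} (hz : z ∈ Set.range (cellMap K n l hl)) (hlt : δ z < l) :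
    ∃ G : (CohB1.ProjSpace n K) → ℤ, FibKilled (CohB1.ProjSpace.toSpec n K) δ (IsLocalRing.closedPoint K) (δ z) G ∧
      (∀ x ∈ Set.range (cellMap K n l hl), G x = pointFun z x) ∧
      ∀ x, G x ≠ 0 → x ∈ linSub K n l := by
  obtain ⟨w, rfl⟩ := hz
  obtain ⟨-, hA⟩ := setup_cell K n hδ l hl
  obtain ⟨-, -, -, -, -, hk⟩ := isAffFibre_cell K n hδ l hl
  obtain ⟨ι, hι, ζ, g, h1, h2⟩ :=
    hk w (Subsingleton.elim (α := PrimeSpectrum K) _ _) (by simpa using hlt)
  simp only [sub_zero] at h1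
  choose g' hg' using fun i => residueFieldMap_surjective (cellMap K n l hl) (ζ i) (g i)
  have hne : ∀ i, g' i ≠ 0 := fun i h0 => (h1 i).2.2 (by rw [← hg' i, h0, map_zero])
  refine ⟨fun x => ∑ i, Cyc.divFun δ (cellMap K n l hl (ζ i)) (g' i) x,
    ⟨ι, hι, _, g', fun i => ⟨toSpec_apply_eq K n _, (h1 i).2.1, hne i⟩, fun _ _ => rfl⟩, ?_, ?_⟩
  · rintro _ ⟨y, rfl⟩
    have h3 := h2 y (Subsingleton.elim (α := PrimeSpectrum K) _ _)
    rw [show pointFun (cellMap K n l hl w) (cellMap K n l hl y) = pointFun w y by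
      unfold pointFun
      by_cases h : y = w
      · rw [if_pos h, if_pos (congrArg _ h)]
      · rw [if_neg h, if_neg fun e => h ((cellMap K n l hl).isEmbedding.injective e)], h3]
    refine Finset.sum_congr rfl fun i _ => ?_
    rw [divFun_preimmersion' (cellMap K n l hl) (setup_projSpace K n hδ) 0 hA (ζ i) y (g' i) (hne i),
      hg' i]
  · intro x hx
    obtain ⟨i, -, hi⟩ := Finset.exists_ne_zero_of_sum_ne_zero hx
    unfold Cyc.divFun at hi
    split_ifs at hi with h
    · exact h.1.mem_closed (isClosed_linSub K n l) ((range_cellMap K n l hl).le ⟨ζ i, rfl⟩).1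
    · exact absurd rfl hi

end Cell

lemma exists_top_linSub (l : ℕ) (hl : l ≤ n) :
    ∃ ξ, δ ξ = l ∧ ∀ x ∈ linSub K n l, δ x ≤ l ∧ (δ x = l → x = ξ) := by
  induction l with
  | zero =>
    obtain ⟨ζ, hd, hall⟩ := delta_cell K n hδ 0 hl
    refine ⟨_, hd, fun x hx => ?_⟩
    obtain ⟨w, rfl⟩ := (range_cellMap K n 0 hl).ge ⟨hx, linSub_zero_subset K n x hx⟩
    exact ⟨(hall w).1, fun h => congrArg _ ((hall w).2 h)⟩
  | succ l ih =>
    obtain ⟨ζ, hd, hall⟩ := delta_cell K n hδ (l + 1) hl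
    obtain ⟨ξ, -, hlow⟩ := ih (by omega)
    refine ⟨_, hd, fun x hx => ?_⟩
    by_cases hU : x ∈ Var76.ProjCoord.U K n ⟨l + 1, by omega⟩
    · obtain ⟨w, rfl⟩ := (range_cellMap K n (l + 1) hl).ge ⟨hx, hU⟩
      exact ⟨(hall w).1, fun h => congrArg _ ((hall w).2 h)⟩
    · have := (hlow x (mem_linSub_of_notMem K n hl hx hU)).1
      exact ⟨by push_cast; omega, fun h => absurd h (by push_cast; omega)⟩

lemma exists_reduce {m l : ℕ} (hml : m ≤ l) (hl : l + 1 ≤ n) {F : (CohB1.ProjSpace n K) → ℤ}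
    (hfin : (Function.support F).Finite) (hF : ∀ x, F x ≠ 0 → δ x = m ∧ x ∈ linSub K n (l + 1)) :
    ∃ F' : (CohB1.ProjSpace n K) → ℤ, (Function.support F').Finite ∧
      (∀ x, F' x ≠ 0 → δ x = m ∧ x ∈ linSub K n l) ∧
      FibKilled (CohB1.ProjSpace.toSpec n K) δ (IsLocalRing.closedPoint K) m (fun x => F x - F' x) := by
  classical
  let R := Set.range (cellMap K n (l + 1) hl)
  let s := hfin.toFinset.filter (· ∈ R)
  have hG : ∀ z, ∃ G : (CohB1.ProjSpace n K) → ℤ, z ∈ s → FibKilled (CohB1.ProjSpace.toSpec n K) δ (IsLocalRing.closedPoint K) (m : ℤ) G ∧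
      (∀ x ∈ R, G x = pointFun z x) ∧ ∀ x, G x ≠ 0 → x ∈ linSub K n (l + 1) := by
    intro z
    by_cases hz : z ∈ s
    · have hz' := Finset.mem_filter.1 hz
      have hd : δ z = m := (hF z (hfin.mem_toFinset.1 hz'.1)).1
      obtain ⟨G, h1, h2, h3⟩ := cell_kill K n hδ (l + 1) hl hz'.2 (by push_cast; omega)
      exact ⟨G, fun _ => ⟨hd ▸ h1, h2, h3⟩⟩
    · exact ⟨fun _ => 0, fun h => absurd h hz⟩
  choose G hG using hG
  have hk : FibKilled (CohB1.ProjSpace.toSpec n K) δ (IsLocalRing.closedPoint K) (m : ℤ) (fun x => ∑ z ∈ s, F z * G z x) :=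
    fibKilled_sum (setup_projSpace K n hδ) s F G fun z hz => (hG z hz).1
  refine ⟨fun x => F x - ∑ z ∈ s, F z * G z x,
    (hfin.union (finite_support_fibKilled K n hδ hk)).subset (Function.support_sub _ _), ?_,
    hk.congr fun x _ => by ring⟩
  intro x hx
  have hmem : δ x = m ∧ x ∈ linSub K n (l + 1) := by
    by_cases hFx : F x = 0
    · replace hx : F x - ∑ z ∈ s, F z * G z x ≠ 0 := hx
      rw [hFx, zero_sub, neg_ne_zero] at hx
      obtain ⟨z, hz, hzx⟩ := Finset.exists_ne_zero_of_sum_ne_zero hx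
      exact ⟨delta_eq_of_fibKilled K n hδ (hG z hz).1 (right_ne_zero_of_mul hzx),
        (hG z hz).2.2 x (right_ne_zero_of_mul hzx)⟩
    · exact hF x hFx
  refine ⟨hmem.1, mem_linSub_of_notMem K n hl hmem.2 fun hU => hx ?_⟩
  have hxR : x ∈ R := (range_cellMap K n (l + 1) hl).ge ⟨hmem.2, hU⟩
  show F x - ∑ z ∈ s, F z * G z x = 0
  rw [Finset.sum_congr rfl fun z hz => by rw [(hG z hz).2.1 x hxR]]
  simp only [pointFun, mul_ite, mul_one, mul_zero]
  rw [Finset.sum_ite_eq]
  by_cases hxs : x ∈ s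
  · rw [if_pos hxs, sub_self]
  · rw [if_neg hxs, sub_zero]
    exact by_contra fun h => hxs (Finset.mem_filter.2 ⟨hfin.mem_toFinset.2 h, hxR⟩)

lemma exists_killed_sub_top {m : ℕ} {ξ : (CohB1.ProjSpace n K)}
    (hξ : ∀ x ∈ linSub K n m, δ x = m → x = ξ) :
    ∀ (d l : ℕ), l = m + d → l ≤ n → ∀ F : (CohB1.ProjSpace n K) → ℤ, (Function.support F).Finite →
      (∀ x, F x ≠ 0 → δ x = m ∧ x ∈ linSub K n l) →
      ∃ c : ℤ, FibKilled (CohB1.ProjSpace.toSpec n K) δ (IsLocalRing.closedPoint K) (m : ℤ) (fun x => F x - c * pointFun ξ x) := by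
  intro d
  induction d with
  | zero =>
    intro l hl _ F _ hF
    obtain rfl : l = m := by omega
    refine ⟨F ξ, fibKilled_zero.congr fun x _ => ?_⟩
    unfold pointFun
    split_ifs with h
    · rw [h]; ring
    · rw [mul_zero, sub_zero]
      exact (by_contra fun hx => h (hξ x (hF x hx).2 (hF x hx).1) : F x = 0).symm
  | succ d ih =>
    intro l hl hln F hfin hF
    obtain ⟨l', rfl⟩ : ∃ l', l = l' + 1 := ⟨m + d, by omega⟩
    obtain ⟨F', hfin', hF', hk⟩ := exists_reduce K n hδ (show m ≤ l' by omega) hln hfin hF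
    obtain ⟨c, hc⟩ := ih l' (by omega) (by omega) F' hfin' hF'
    exact ⟨c, (hk.add hc).congr fun x _ => by ring⟩

lemma ratEquivZero_of_fibKilled {m : ℤ} (A : AlgebraicCycle (CohB1.ProjSpace n K) ℤ) (h : FibKilled (CohB1.ProjSpace.toSpec n K) δ (IsLocalRing.closedPoint K) m ⇑A) :
    Cyc.RatEquivZero δ m A := by
  obtain ⟨ι, hι, ζ, g, h1, h2⟩ := h
  refine ⟨ι, ζ, g, fun i => (h1 i).2.1, fun i => (h1 i).2.2,
    fun x => ⟨Set.univ, isOpen_univ, trivial, Set.toFinite _⟩, fun x => ?_⟩
  rw [h2 x (toSpec_apply_eq K n x), finsum_eq_sum_of_fintype]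

lemma degree_eq_zero_of_ratEquivZero (A : AlgebraicCycle (CohB1.ProjSpace n K) ℤ) (hA : A ∈ Cyc.Zk (CohB1.ProjSpace n K) δ 0)
    (h : Cyc.RatEquivZero δ 0 A) : ∑ᶠ x : (CohB1.ProjSpace n K), (((CohB1.ProjSpace.toSpec n K)).residueDegree x : ℤ) * A x = 0 := by
  have := Approx60.Segre.isProper_toSpec K n
  have h1 := ratEquivZero_map (setup_projSpace K n hδ) (isSetup_spec_field K) (CohB1.ProjSpace.toSpec n K) hδ h
  obtain ⟨ι, ξ, f, hd, -, -, hsum⟩ := h1
  have : IsEmpty ι := ⟨fun i => absurd (hd i) (by simp)⟩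
  have h2 := hsum (IsLocalRing.closedPoint K)
  rw [finsum_of_isEmpty, map_apply_eq] at h2
  refine Eq.trans ?_ h2
  refine Eq.trans ?_ ((finsum_mem_congr (t := Set.univ) (Set.eq_univ_of_forall (toSpec_apply_eq K n))
    fun _ _ => rfl).trans (finsum_mem_univ _)).symm
  refine finsum_congr fun x => ?_
  by_cases hx : A x = 0
  · simp [hx]
  · rw [if_pos (show δ x = 0 from by_contra fun hn => hx (hA x hn)), mul_comm]

/-- On projective space every `m`-cycle is a multiple of the `(n - m)`-fold cap of `O(1)` up to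
rational equivalence. -/
theorem exists_killed_sub_cap {L : ((CohB1.ProjSpace n K)).Modules} (hL : PicF.IsInvertible L)
    (hL1 : Nonempty (L ≅ Twist.twistProjSpace n K 1))
    (t : ℕ → (η : (CohB1.ProjSpace n K)) → Cyc.secFibre L η) (ht : ∀ i η, t i η ≠ 0)
    (γ : ℕ → (CohB1.ProjSpace n K) → ℤ) (hγ0 : γ 0 = Cyc.subschemeFun δ n (𝟙 (CohB1.ProjSpace n K)))
    (hγs : ∀ i, γ (i + 1) = Cyc.c1CapFun δ L (γ i) (t i))
    {i : ℕ} (hi : i ≤ n) (F : (CohB1.ProjSpace n K) → ℤ) (hfin : (Function.support F).Finite)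
    (hF : ∀ x, F x ≠ 0 → δ x = (n : ℤ) - i) :
    ∃ a : ℤ, FibKilled (CohB1.ProjSpace.toSpec n K) δ (IsLocalRing.closedPoint K) ((n : ℤ) - i) (fun x => F x - a * γ i x) := by
  classical
  have hX := setup_projSpace K n hδ
  obtain ⟨m, rfl⟩ : ∃ m, n = i + m := ⟨n - i, by omega⟩
  have hm : ((i + m : ℕ) : ℤ) - i = m := by push_cast; ring
  rw [hm] at hF ⊢
  obtain ⟨ξ, hξd, hξ⟩ := exists_top_linSub K (i + m) hδ m (by omega)
  have htop := fun G (hG : (Function.support G).Finite) (hG' : ∀ x, G x ≠ 0 → δ x = (m : ℤ)) =>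
    exists_killed_sub_top K (i + m) hδ (fun x hx h => (hξ x hx).2 h) i (i + m) (by omega) le_rfl G hG
      fun x hx => ⟨hG' x hx, linSub_top K (i + m) x⟩
  -- the caps are cycles
  have hdim : ∀ j x, γ j x ≠ 0 → δ x = ((i + m : ℕ) : ℤ) - j := by
    intro j
    induction j with
    | zero =>
      intro x hx
      rw [hγ0] at hx
      unfold Cyc.subschemeFun at hx
      split_ifs at hx with h
      · simpa using h
      · exact absurd rfl hx
    | succ j ihj =>
      intro x hx
      rw [hγs j] at hx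
      obtain ⟨η, hη⟩ : ∃ η, γ j η * Cyc.secDivFun δ L η (t j η) x ≠ 0 := by
        by_contra hall
        push Not at hall
        exact hx (finsum_eq_zero_of_forall_eq_zero hall)
      have h1 := ihj η (left_ne_zero_of_mul hη)
      have h2 := right_ne_zero_of_mul hη
      unfold Cyc.secDivFun at h2
      split_ifs at h2 with h
      · push_cast at h1 ⊢; linarith [h.2]
      · exact absurd rfl h2
  have hγfin : ∀ j, (Function.support (γ j)).Finite := by
    intro j
    induction j with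
    | zero =>
      obtain ⟨ζ, -, hall⟩ := exists_top_linSub K (i + m) hδ (i + m) le_rfl
      refine (Set.finite_singleton ζ).subset fun x hx => ?_
      exact (hall x (linSub_top K (i + m) x)).2 (by have := hdim 0 x hx; simpa using this)
    | succ j ihj =>
      obtain ⟨D, hD⟩ := exists_c1CapCycle hX hL (cycleOfFun K (i + m) ihj) (t j) (ht j)
      rw [hγs j, show Cyc.c1CapFun δ L (γ j) (t j) = ⇑D from hD.symm]
      exact finite_support_of_cycle K (i + m) D
  obtain ⟨c, hc⟩ := htop (γ i) (hγfin i) fun x hx => by rw [hdim i x hx, hm]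
  -- the degree of the top cap
  choose C hC using fun (a : AlgebraicCycle (CohB1.ProjSpace (i + m) K) ℤ) (j : ℕ) =>
    exists_c1CapCycle hX hL a (t j) (ht j)
  let iter := fun (a : AlgebraicCycle (CohB1.ProjSpace (i + m) K) ℤ) (j : ℕ) =>
    Nat.rec (motive := fun _ => AlgebraicCycle (CohB1.ProjSpace (i + m) K) ℤ) a (fun j b => C b (i + j)) j
  let A := cycleOfFun K (i + m) (finite_support_fibKilled K (i + m) hδ hc)
  let Z := cycleOfFun K (i + m) (finite_support_pointFun K (i + m) ξ)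
  have hlin : ∀ j x, γ (i + j) x = c * iter Z j x + iter A j x := by
    intro j
    induction j with
    | zero =>
      intro x
      show γ i x = c * pointFun ξ x + (γ i x - c * pointFun ξ x)
      ring
    | succ j ihj =>
      intro x
      show γ (i + j + 1) x = c * C (iter Z j) (i + j) x + C (iter A j) (i + j) x
      rw [hγs, c1CapFun_finsum_apply hX L (t (i + j)) Finset.univ ![c, 1] ![iter Z j, iter A j] _ x
        fun η _ => by rw [ihj η]; simp [Fin.sum_univ_two]]
      simp [Fin.sum_univ_two, hC]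
  have hA : ∀ j : ℕ, Cyc.RatEquivZero δ ((m : ℤ) - j) (iter A j) := by
    intro j
    induction j with
    | zero => simpa [iter] using ratEquivZero_of_fibKilled K (i + m) hδ A hc
    | succ j ihj =>
      exact ratEquivZero_c1Cap hX hL (k := (m : ℤ) - ((j + 1 : ℕ) : ℤ))
        (by rw [show (m : ℤ) - ((j + 1 : ℕ) : ℤ) + 1 = m - j by push_cast; ring]; exact ihj)
        (t (i + j)) (ht (i + j)) _ (hC _ _)
  have hAm : iter A m ∈ Cyc.Zk _ δ 0 := by
    have h := hA m
    rw [sub_self] at h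
    obtain ⟨ι, ζ, g, hd, -, -, hsum⟩ := h
    intro x hx
    rw [hsum]
    refine finsum_eq_zero_of_forall_eq_zero fun b => dif_neg fun hh => hx ?_
    have := hd b
    omega
  have hunit : c * (∑ᶠ x, ((CohB1.ProjSpace.toSpec (i + m) K).residueDegree x : ℤ) * iter Z m x) = 1 := by
    have h1 := sum_residueDegree_cap_projSpace K (i + m) hδ hL hL1 t ht γ hγ0 hγs
    have h2 := degree_eq_zero_of_ratEquivZero K (i + m) hδ (iter A m) hAm
      (by simpa using hA m)
    rw [finsum_congr fun x => show ((CohB1.ProjSpace.toSpec (i + m) K).residueDegree x : ℤ) * γ (i + m) x =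
        c * ((CohB1.ProjSpace.toSpec (i + m) K).residueDegree x * iter Z m x) +
          (CohB1.ProjSpace.toSpec (i + m) K).residueDegree x * iter A m x by rw [hlin]; ring,
      finsum_add_distrib ((finite_support_of_cycle K (i + m) (iter Z m)).subset fun x hx =>
          right_ne_zero_of_mul (right_ne_zero_of_mul hx))
        ((finite_support_of_cycle K (i + m) (iter A m)).subset fun x hx => right_ne_zero_of_mul hx),
      h2, add_zero, ← mul_finsum _ _] at h1
    exact h1
  have hcc : c * c = 1 := by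
    rcases Int.eq_one_or_neg_one_of_mul_eq_one hunit with rfl | rfl <;> norm_num
  obtain ⟨a, ha⟩ := htop F hfin hF
  refine ⟨a * c, (ha.add (hc.smul hX (-(a * c)))).congr fun x _ => ?_⟩
  have : a * c * (c * pointFun ξ x) = a * pointFun ξ x := by
    rw [← mul_assoc, mul_assoc a c c, hcc, mul_one]
  linear_combination this

end Groth.Agent.Cyc90.Dev
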