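import Groth.Agent.Cyc90.Dev.Cls
import Groth.Agent.Cyc90.PushDiv
import Groth.Agent.Cyc90.CurveDeg
import Groth.Agent.EGA73.CurveDim
import Groth.Agent.WC97.Dim
import Groth.Agent.SpecVan49.Dim
import Groth.Prelude.Def_ChowOps
import Groth.Prelude.Def_CurvBase

/-! Dimension and degree of points on schemes locally of finite type over a field. -/

set_option autoImplicit false
set_option backward.isDefEq.respectTransparency.types false
set_option linter.style.haveILetI false
universe u

open CategoryTheory AlgebraicGeometry TopologicalSpace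

namespace Groth.Agent.Cyc90.Dev

variable {k : Type u} [Field k] {X : Scheme.{u}} {δ : X → ℤ}

theorem surjective_kStr_id (o : ↥(Spec (CommRingCat.of k))) :
    Function.Surjective (WC97.kStr (𝟙 (Spec (CommRingCat.of k))) o) := by
  let ψ := WC97.kStr (𝟙 (Spec (CommRingCat.of k))) o
  have h1 : IsClosedImmersion (Spec.map (CommRingCat.ofHom ψ)) := by
    rw [WC97.kStr_spec, Category.comp_id]
    exact IsClosedImmersion.of_isPreimmersion _ (isClosed_discrete _)
  intro z
  obtain ⟨w, hw⟩ := (Spec.map (CommRingCat.ofHom ψ)).app_surjective ⊤ (isAffineOpen_top _)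
    ((Scheme.ΓSpecIso _).inv z)
  refine ⟨(Scheme.ΓSpecIso _).hom w, ?_⟩
  have h2 := congr($(Scheme.ΓSpecIso_naturality (CommRingCat.ofHom ψ)).hom w)
  refine (h2.symm.trans ?_)
  exact (congrArg (Scheme.ΓSpecIso _).hom hw).trans (Iso.inv_hom_id_apply _ z)

variable [X.Over (Spec (CommRingCat.of k))]
variable [LocallyOfFiniteType (X ↘ Spec (CommRingCat.of k))]
variable (hδ : Cyc.DeltaCompat (X ↘ Spec (CommRingCat.of k)) δ (fun _ => 0))

include hδ

/-- The dimension function is the transcendence degree. -/
theorem delta_eq_tdegN (x : X) :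
    δ x = (WC97.tdegN (X ↘ Spec (CommRingCat.of k)) x : ℤ) := by
  obtain ⟨n, hn, hd⟩ := hδ x
  let f := X ↘ Spec (CommRingCat.of k)
  letI a1 : Algebra k (X.residueField x) := (WC97.kStr f x).toAlgebra
  letI a2 : Algebra k ((Spec (CommRingCat.of k)).residueField (f x)) :=
    (WC97.kStr (𝟙 (Spec (CommRingCat.of k))) (f x)).toAlgebra
  letI a3 : Algebra ((Spec (CommRingCat.of k)).residueField (f x)) (X.residueField x) :=
    (f.residueFieldMap x).hom.toAlgebra
  have : IsScalarTower k ((Spec (CommRingCat.of k)).residueField (f x)) (X.residueField x) :=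
    .of_algebraMap_eq fun r =>
      RingHom.congr_fun (WC97.kStr_comp f f (𝟙 _) (Category.comp_id _) x) r
  have hsurj : Function.Surjective
      (algebraMap k ((Spec (CommRingCat.of k)).residueField (f x))) :=
    surjective_kStr_id (f x)
  have : Module.Finite k ((Spec (CommRingCat.of k)).residueField (f x)) :=
    Module.Finite.of_surjective (Algebra.linearMap k _) hsurj
  have key : WC97.tdeg f x =
      Algebra.trdeg ((Spec (CommRingCat.of k)).residueField (f x)) (X.residueField x) := by
    show Algebra.trdeg k (X.residueField x) = _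
    rw [← trdeg_add_eq k ((Spec (CommRingCat.of k)).residueField (f x)) (A := X.residueField x),
      trdeg_eq_zero (R := k) (A := (Spec (CommRingCat.of k)).residueField (f x)), zero_add]
  rw [hd, zero_add]
  refine congrArg Nat.cast ?_
  show n = Cardinal.toNat (WC97.tdeg f x)
  rw [key, hn, Cardinal.toNat_natCast]

theorem delta_nonneg' (x : X) : 0 ≤ δ x := by
  rw [delta_eq_tdegN hδ x]
  exact Int.natCast_nonneg _

/-- The dimension of a point closure is `δ`. -/
theorem dim_closure_eq_delta (x : X) :
    topologicalKrullDim (closure ({x} : Set X)) = ((δ x).toNat : WithBot ℕ∞) := by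
  rw [WC97.topologicalKrullDim_closure (X ↘ Spec (CommRingCat.of k)) x, delta_eq_tdegN hδ x,
    Int.toNat_natCast]

theorem delta_le_of_dim_closure_le {x : X} {d : ℕ}
    (h : topologicalKrullDim (closure ({x} : Set X)) ≤ d) : δ x ≤ d := by
  rw [dim_closure_eq_delta hδ x] at h
  have h1 : (δ x).toNat ≤ d := by exact_mod_cast h
  omega

theorem delta_eq_zero_of_isClosed {x : X} (hx : IsClosed ({x} : Set X)) : δ x = 0 := by
  refine le_antisymm (delta_le_of_dim_closure_le hδ (d := 0) ?_) (delta_nonneg' hδ x)
  rw [hx.closure_eq]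
  exact topologicalKrullDim_zero_of_discreteTopology _

variable (hX : Cyc.IsSetup X δ)
include hX

theorem isClosed_of_delta_eq_zero {x : X} (hx : δ x = 0) : IsClosed ({x} : Set X) := by
  refine isClosed_of_closure_subset fun y hy => ?_
  have h := specializes_iff_mem_closure.2 hy
  exact (eq_of_delta_le hX.2.2 h (by rw [hx]; exact delta_nonneg' hδ y)).symm

/-- Chains of specializations in a point closure have length at most `δ + 1`. -/
theorem dimLT_closure {x : X} {e : ℕ} (he : δ x < e) :
    SpecVan49.DimLT (closure ({x} : Set X)) e := by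
  intro f hf
  have key : ∀ (i : ℕ) (hi : i < e + 1), δ (f ⟨i, hi⟩) + i ≤ δ x := by
    intro i
    induction i with
    | zero =>
      intro hi
      simpa using delta_le hX.2.2 (specializes_iff_mem_closure.2 (hf.1 ⟨0, hi⟩))
    | succ j ih =>
      intro hi
      obtain ⟨h1, h2⟩ := hf.2 ⟨j, by omega⟩ ⟨j + 1, hi⟩ (Fin.mk_lt_mk.2 j.lt_succ_self)
      have h3 := delta_lt hX.2.2 h1 fun h => h2 (h ▸ specializes_rfl)
      have h4 := ih (by omega)
      push_cast
      omega
  have h1 := key e (Nat.lt_succ_self e)
  have h2 := delta_nonneg' hδ (f ⟨e, Nat.lt_succ_self e⟩)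
  omega

omit hX

theorem residueDegree_ne_zero {x : X} (hx : δ x = 0) :
    (X ↘ Spec (CommRingCat.of k)).residueDegree x ≠ 0 := by
  let f := X ↘ Spec (CommRingCat.of k)
  have hfin : (f.residueFieldMap x).hom.Finite :=
    finite_residueFieldMap_of_delta_eq f hδ x hx
  letI := (f.residueFieldMap x).hom.toAlgebra
  haveI : Module.Finite ((Spec (CommRingCat.of k)).residueField (f x)) (X.residueField x) := hfin
  exact (Module.finrank_pos (R := (Spec (CommRingCat.of k)).residueField (f x))
    (M := X.residueField x)).ne'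

omit hδ [LocallyOfFiniteType (X ↘ Spec (CommRingCat.of k))]

theorem finrank_resAlgebra (x : X) :
    (letI := Curv2.resAlgebra k X x; Module.finrank k (X.residueField x)) =
      (X ↘ Spec (CommRingCat.of k)).residueDegree x := by
  rw [residueDegree_eq_finrank]
  unfold Curv2.resAlgebra
  rw [EGA73.resMap_eq_kStr]

end Groth.Agent.Cyc90.Dev
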