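import Groth.Agent.Cyc90.Dev.ChernOps

/-! Segre operators and their reciprocity with the Chern caps. -/

set_option autoImplicit false
set_option backward.isDefEq.respectTransparency.types false
universe u

open CategoryTheory AlgebraicGeometry TopologicalSpace

noncomputable section

namespace Groth.Agent.Cyc90.Dev

variable {X P : Scheme.{u}} {δ : X → ℤ} {δP : P → ℤ} {p : P ⟶ X} {O1 : P.Modules} {n : ℕ}
  (hX : Cyc.IsSetup X δ) (hB : ProjFibres n p O1) (hinv : PicF.IsInvertible O1)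
  (hPs : Cyc.IsSetup P δP) (hδ : Cyc.DeltaCompat p δP δ)
  (t : ℕ → (ξ : P) → Cyc.secFibre O1 ξ) (ht : ∀ i ξ, t i ξ ≠ 0)

/-- Capping a term by more powers of `O(1)` gives the later term, up to rational equivalence. -/
lemma capPow_chTerm (u : ℕ → (ξ : P) → Cyc.secFibre O1 ξ) (hu : ∀ i ξ, u i ξ ≠ 0) {k : ℤ}
    {a : AlgebraicCycle X ℤ} (ha : a ∈ Cyc.Zk X δ k) (i e : ℕ) :
    capPow hPs hinv u hu e (chTerm hB hinv hPs hδ t ht i a) - chTerm hB hinv hPs hδ t ht (i + e) a ∈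
      ratZ hPs (k + n - (i + e : ℕ)) := by
  let w : ℕ → (ξ : P) → Cyc.secFibre O1 ξ := fun m => if m < i then t m else u (m - i)
  have hw : ∀ m ξ, w m ξ ≠ 0 := fun m ξ => by
    simp only [w]; split_ifs
    · exact ht _ _
    · exact hu _ _
  have h : capPow hPs hinv u hu e (chTerm hB hinv hPs hδ t ht i a) =
      chTerm hB hinv hPs hδ w hw (i + e) a :=
    capPow_comp hPs hinv t ht u hu i _ w hw (fun m hm => if_pos hm)
      (fun m => (if_neg (by omega)).trans (by rw [Nat.add_sub_cancel_left])) e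
  rw [h]
  exact chTerm_indep hB hinv hPs hδ w hw t ht ha (i + e)

variable [IsProper p]

/-- `p_*(c₁(O(1))^e ∩ p^* a)`. -/
def segOp (e : ℕ) : AlgebraicCycle X ℤ →+ AlgebraicCycle X ℤ :=
  (mapHom p δP δ).comp (chTerm hB hinv hPs hδ t ht e)

include hX in
lemma segOp_of_lt {k : ℤ} {a : AlgebraicCycle X ℤ} (ha : a ∈ Cyc.Zk X δ k) {e : ℕ} (he : e < n) :
    segOp hB hinv hPs hδ t ht e a = 0 :=
  (map_cap_of_fibres hX hB hinv hPs hδ ha t ht
    (fun m => Cyc.c1PowFun δP O1 t m (Cyc.pullFun p δP δ n ⇑a)) rfl (fun _ => rfl) e _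
    (coe_chTerm hB hinv hPs hδ t ht e a)).1 he

include hX in
lemma segOp_self {k : ℤ} {a : AlgebraicCycle X ℤ} (ha : a ∈ Cyc.Zk X δ k) :
    segOp hB hinv hPs hδ t ht n a = a :=
  (map_cap_of_fibres hX hB hinv hPs hδ ha t ht
    (fun m => Cyc.c1PowFun δP O1 t m (Cyc.pullFun p δP δ n ⇑a)) rfl (fun _ => rfl) n _
    (coe_chTerm hB hinv hPs hδ t ht n a)).2 rfl

variable [Flat p]

include hX in
lemma segOp_rat {k : ℤ} {a : AlgebraicCycle X ℤ} (ha : a ∈ ratZ hX k) (e : ℕ) :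
    segOp hB hinv hPs hδ t ht e a ∈ ratZ hX (k + n - e) :=
  mapHom_rat p hPs hX hδ (chTerm_rat hX hB hinv hPs hδ t ht ha e)

omit [Flat p] in
include hX in
/-- The Segre operators annihilate the Chern caps in each positive degree. -/
lemma segre_chern {k : ℤ} {α : AlgebraicCycle X ℤ} {γ : Fin (n + 2) → AlgebraicCycle X ℤ}
    (hγ : Cyc.IsChernCap p δ δP O1 (n + 1) k α γ) (M : ℕ) (hM : 1 ≤ M) :
    (∑ j ∈ Finset.range (M + 1), if h : j ≤ n + 1 then
      (-1 : ℤ) ^ (M - j) • segOp hB hinv hPs hδ t ht (n + (M - j)) (γ ⟨j, Nat.lt_succ_of_le h⟩)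
        else 0) ∈ ratZ hX (k - M) := by
  have h1 : mapHom p δP δ (capPow hPs hinv t ht (M - 1) (chRel hB hinv hPs hδ t ht γ)) ∈
      ratZ hX (k - M) := by
    refine mapHom_rat p hPs hX hδ ?_
    have := capPow_rat hPs hinv t ht (chRel_of_isChernCap hB hinv hPs hδ t ht hγ) (M - 1)
    rwa [show k - 1 - ((M - 1 : ℕ) : ℤ) = k - M by omega] at this
  let f : ℕ → AlgebraicCycle X ℤ := fun j => if h : j ≤ n + 1 then
      (-1 : ℤ) ^ (n + 1 - j) • segOp hB hinv hPs hδ t ht (n + M - j) (γ ⟨j, Nat.lt_succ_of_le h⟩) else 0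
  have h2 : ∑ j ∈ Finset.range (n + 2), f j ∈ ratZ hX (k - M) := by
    rw [chRel, map_sum, map_sum, ← Equiv.sum_comp Fin.revPerm] at h1
    rw [← Fin.sum_univ_eq_sum_range f (n + 2), ← sub_add_cancel (∑ i : Fin (n + 2), f (i : ℕ)) _]
    refine add_mem ?_ h1
    rw [← Finset.sum_sub_distrib]
    refine sum_mem fun i _ => ?_
    have hi : ((Fin.rev i : Fin (n + 2)) : ℕ) = n + 1 - (i : ℕ) := by rw [Fin.val_rev]; omega
    have hile : (i : ℕ) ≤ n + 1 := by omega
    simp only [f, dif_pos hile, Fin.revPerm_apply, Fin.rev_rev, map_zsmul, hi, Fin.eta, ← smul_sub]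
    refine zsmul_mem ?_ _
    rw [segOp, AddMonoidHom.comp_apply, ← map_sub]
    refine mapHom_rat p hPs hX hδ ?_
    have := capPow_chTerm hB hinv hPs hδ t ht t ht (hγ.2.1 i) (n + 1 - (i : ℕ)) (M - 1)
    rw [show n + 1 - (i : ℕ) + (M - 1) = n + M - (i : ℕ) by omega,
      show k - ((i : ℕ) : ℤ) + n - ((n + M - (i : ℕ) : ℕ) : ℤ) = k - M by omega] at this
    exact neg_sub (capPow hPs hinv t ht (M - 1) _) _ ▸ neg_mem this
  let g : ℕ → AlgebraicCycle X ℤ := fun j => if h : j ≤ n + 1 then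
      (-1 : ℤ) ^ (M - j) • segOp hB hinv hPs hδ t ht (n + (M - j)) (γ ⟨j, Nat.lt_succ_of_le h⟩) else 0
  suffices h : ∑ j ∈ Finset.range (M + 1), g j =
      (-1 : ℤ) ^ (M + n + 1) • ∑ j ∈ Finset.range (n + 2), f j from h ▸ zsmul_mem h2 _
  rw [Finset.smul_sum,
    Finset.sum_subset (Finset.range_mono (show n + 2 ≤ M + n + 3 by omega)) fun j _ hj => by
      rw [Finset.mem_range] at hj
      simp only [f, dif_neg (show ¬ j ≤ n + 1 by omega), smul_zero]]
  have hg : ∀ j, M < j → j < M + n + 3 → (-1 : ℤ) ^ (M + n + 1) • f j = 0 := fun j hj _ => by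
    simp only [f]
    split_ifs with h
    · rw [segOp_of_lt hX hB hinv hPs hδ t ht (hγ.2.1 ⟨j, Nat.lt_succ_of_le h⟩) (by omega),
        smul_zero, smul_zero]
    · exact smul_zero _
  rw [← Finset.sum_subset (Finset.range_mono (show M + 1 ≤ M + n + 3 by omega)) fun j hj hj' => by
      rw [Finset.mem_range] at hj hj'
      exact hg j (by omega) hj]
  refine Finset.sum_congr rfl fun j hj => ?_
  rw [Finset.mem_range] at hj
  simp only [f, g]
  split_ifs with h
  · rw [smul_smul, ← pow_add, show n + (M - j) = n + M - j by omega,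
      show M + n + 1 + (n + 1 - j) = (M - j) + ((n + 1) + (n + 1)) by omega, pow_add (-1 : ℤ) (M - j),
      Even.neg_one_pow ⟨_, rfl⟩, mul_one]
  · exact (smul_zero _).symm

include hX in
/-- The total Segre operator is inverse to the total Chern class. -/
theorem segre_reciprocity {k : ℤ} {α : AlgebraicCycle X ℤ} (hα : α ∈ Cyc.Zk X δ k)
    {γ : ℕ → Fin (n + 2) → AlgebraicCycle X ℤ}
    (hγ : ∀ i : ℕ, Cyc.IsChernCap p δ δP O1 (n + 1) (k - i)
      (segOp hB hinv hPs hδ t ht (n + i) α) (γ i)) (m : ℕ) (hm : 1 ≤ m) :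
    (∑ i ∈ Finset.range (m + 1), if h : m - i ≤ n + 1 then
      (-1 : ℤ) ^ i • γ i ⟨m - i, Nat.lt_succ_of_le h⟩ else 0) ∈ ratZ hX (k - m) := by
  induction m using Nat.strong_induction_on with
  | _ m ih =>
  let G : ℕ → ℕ → AlgebraicCycle X ℤ := fun i j =>
    if h : j ≤ n + 1 then γ i ⟨j, Nat.lt_succ_of_le h⟩ else 0
  let S : ℕ → AlgebraicCycle X ℤ →+ AlgebraicCycle X ℤ := fun l => segOp hB hinv hPs hδ t ht (n + l)
  let Z : ℕ → AlgebraicCycle X ℤ := fun q => ∑ i ∈ Finset.range (q + 1), (-1 : ℤ) ^ i • G i (q - i)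
  have hG : ∀ i j : ℕ, G i j ∈ zkSub δ (k - i - j) := fun i j => by
    simp only [G]
    split_ifs with h
    · exact (hγ i).2.1 ⟨j, Nat.lt_succ_of_le h⟩
    · exact zero_mem _
  have hZ : ∀ q, Z q = ∑ i ∈ Finset.range (q + 1), if h : q - i ≤ n + 1 then
      (-1 : ℤ) ^ i • γ i ⟨q - i, Nat.lt_succ_of_le h⟩ else 0 := fun q => by
    refine Finset.sum_congr rfl fun i _ => ?_
    simp only [G]
    split_ifs with h
    · rfl
    · exact smul_zero _
  rw [← hZ]
  have hG0 : ∀ i, G i 0 = S i α := fun i => (dif_pos (Nat.zero_le _)).trans (hγ i).1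
  let f : ℕ → ℕ → AlgebraicCycle X ℤ := fun i j =>
    ((-1 : ℤ) ^ (m - (i + j)) * (-1 : ℤ) ^ i) • S (m - (i + j)) (G i j)
  have hdiag := Finset.sum_range_diag_flip (m + 1) f
  have hL : ∀ q ∈ Finset.range (m + 1), ∑ i ∈ Finset.range (q + 1), f i (q - i) =
      (-1 : ℤ) ^ (m - q) • S (m - q) (Z q) := fun q _ => by
    simp only [Z, map_sum, Finset.smul_sum, map_zsmul, smul_smul]
    refine Finset.sum_congr rfl fun i hi => ?_
    rw [Finset.mem_range] at hi
    simp only [f]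
    rw [Nat.add_sub_cancel' (by omega : i ≤ q)]
  have hR : ∀ i ∈ Finset.range (m + 1), i < m → ∑ j ∈ Finset.range (m + 1 - i), f i j ∈
      ratZ hX (k - m) := fun i _ hi => by
    have h := segre_chern hX hB hinv hPs hδ t ht (hγ i) (m - i) (by omega)
    rw [show k - (i : ℤ) - ((m - i : ℕ) : ℤ) = k - m by omega, show m - i + 1 = m + 1 - i by omega] at h
    convert zsmul_mem h ((-1 : ℤ) ^ i) using 1
    rw [Finset.smul_sum]
    refine Finset.sum_congr rfl fun j hj => ?_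
    rw [Finset.mem_range] at hj
    simp only [f, G, S, Nat.sub_add_eq]
    split_ifs with h
    · rw [smul_smul, mul_comm]
    · rw [map_zero, smul_zero, smul_zero]
  rw [Finset.sum_congr rfl hL, Finset.sum_range_succ, Finset.sum_range_succ] at hdiag
  have hRm : ∑ j ∈ Finset.range (m + 1 - m), f m j = (-1 : ℤ) ^ m • S m α := by
    rw [show m + 1 - m = 1 by omega, Finset.sum_range_one]
    simp only [f, Nat.add_zero, Nat.sub_self, pow_zero, one_mul, hG0]
    rw [show S 0 (S m α) = S m α from segOp_self hX hB hinv hPs hδ t ht (hG0 m ▸ hG m 0)]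
  have hZm : Z m ∈ zkSub δ (k - m) := sum_mem fun i hi => by
    rw [Finset.mem_range] at hi
    refine zsmul_mem ?_ _
    have := hG i (m - i)
    rwa [show k - (i : ℤ) - ((m - i : ℕ) : ℤ) = k - m by omega] at this
  have hLm : (-1 : ℤ) ^ (m - m) • S (m - m) (Z m) = Z m := by
    rw [Nat.sub_self, pow_zero, one_smul]
    exact segOp_self hX hB hinv hPs hδ t ht hZm
  have hZ0 : Z 0 = α := by
    simp only [Z, Nat.zero_add, Finset.sum_range_one, pow_zero, one_smul, Nat.sub_zero, hG0]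
    exact segOp_self hX hB hinv hPs hδ t ht hα
  have hLrest : ∑ q ∈ Finset.range m, (-1 : ℤ) ^ (m - q) • S (m - q) (Z q) - (-1 : ℤ) ^ m • S m α ∈
      ratZ hX (k - m) := by
    obtain ⟨m', rfl⟩ := Nat.exists_eq_add_of_le' hm
    rw [Finset.sum_range_succ', Nat.sub_zero, hZ0, add_sub_cancel_right]
    refine sum_mem fun q hq => zsmul_mem ?_ _
    rw [Finset.mem_range] at hq
    have h := segOp_rat hX hB hinv hPs hδ t ht
      ((hZ (q + 1)).symm ▸ ih (q + 1) (by omega) (by omega)) (n + (m' + 1 - (q + 1)))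
    rwa [show k - ((q + 1 : ℕ) : ℤ) + n - ((n + (m' + 1 - (q + 1)) : ℕ) : ℤ) =
      k - ((m' + 1 : ℕ) : ℤ) by omega] at h
  rw [hLm, hRm] at hdiag
  rw [show Z m = (∑ i ∈ Finset.range m, ∑ j ∈ Finset.range (m + 1 - i), f i j) -
      (∑ q ∈ Finset.range m, (-1 : ℤ) ^ (m - q) • S (m - q) (Z q) - (-1 : ℤ) ^ m • S m α) by
    rw [← eq_sub_iff_add_eq'] at hdiag; rw [hdiag]; abel]
  refine sub_mem (sum_mem fun i hi => hR i (Finset.mem_range.2 ?_) (Finset.mem_range.1 hi)) hLrest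
  exact Nat.lt_succ_of_lt (Finset.mem_range.1 hi)

end Groth.Agent.Cyc90.Dev
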