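import Groth.Agent.Cyc90.Dev.SplitMap
import Groth.Agent.Cyc90.Dev.FiltFin
import Groth.Agent.Cyc90.Dev.EsymmLemmas

/-! Computing with Chern roots after a splitting. -/

set_option autoImplicit false
set_option backward.isDefEq.respectTransparency.types false
set_option synthInstance.maxHeartbeats 200000
universe u

open CategoryTheory CategoryTheory.Limits AlgebraicGeometry TopologicalSpace Opposite

noncomputable section

namespace Groth.Agent.Cyc90.Dev

variable {X : Scheme.{u}} {δ : X → ℤ}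

/-- The roots of a filtration, as operators. -/
def rootsOp (hX : Cyc.IsSetup X δ) (ls : List X.Modules) : Multiset (opRing hX) := ↑(ls.map (lc1 hX))

lemma card_rootsOp (hX : Cyc.IsSetup X δ) (ls : List X.Modules) :
    Multiset.card (rootsOp hX ls) = ls.length := by simp [rootsOp]

lemma rootsOp_append (hX : Cyc.IsSetup X δ) (l₁ l₂ : List X.Modules) :
    rootsOp hX (l₁ ++ l₂) = rootsOp hX l₁ + rootsOp hX l₂ := by
  simp [rootsOp]

section

variable {P : Scheme.{u}} {δP : P → ℤ} {π : P ⟶ X} [Flat π] [LocallyOfFiniteType π] {d : ℕ}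
  (hX : Cyc.IsSetup X δ) (hP : Cyc.IsSetup P δP) (hc : ShiftAt π δP δ d) (hd : Cyc.DeltaCompat π δP δ)

include hd in
/-- Along a split map, a class whose pullback vanishes vanishes. -/
lemma clk_eq_zero_of_pullAll (hπ : SplitMap π d) {k : ℤ} {a : AlgebraicCycle X ℤ} (ha : a ∈ zkSub δ k)
    (h : pullAll π hP hX hc (clk hX k a) = 0) : clk hX k a = 0 := by
  rw [pullAll_clk π hP hX hc ha, clk_eq_zero_iff hP (pullHom_mem π hP hc ha)] at h
  exact (clk_eq_zero_iff hX ha).2 (hπ.inj X (𝟙 X) δ hX P π (𝟙 P)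
    (IsPullback.of_horiz_isIso ⟨by simp⟩) δP hP hd k a ha (pullHom π hP hc a) rfl h)

include hd in
/-- Along a split map, classes of cycles are determined by their pullbacks. -/
lemma ratEquiv_of_pullAll (hπ : SplitMap π d) {k : ℤ} {a b : AlgebraicCycle X ℤ} (ha : a ∈ zkSub δ k)
    (hb : b ∈ zkSub δ k) (h : pullAll π hP hX hc (clk hX k a) = pullAll π hP hX hc (clk hX k b)) :
    Cyc.RatEquiv δ k a b := by
  refine (clk_eq_zero_iff hX (sub_mem ha hb)).1 (clk_eq_zero_of_pullAll hX hP hc hd hπ (sub_mem ha hb) ?_)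
  have h2 := clk_add hX (sub_mem ha hb) hb
  rw [sub_add_cancel] at h2
  rw [h2, map_add] at h
  exact add_eq_right.1 h

include hd in
/-- The pulled back Chern caps are the symmetric functions of the roots. -/
theorem pullAll_chernCap (hπd : Cyc.HasRelDim π d) {r : ℕ} {E : X.Modules} (hE : FlatMod.IsFinLocFreeOfRank r E) {B : Scheme.{u}}
    {p : B ⟶ X} {O1 : B.Modules} {q : (Scheme.Modules.pullback p).obj E ⟶ O1}
    (hB : KRR.IsProjBundle p E O1 q) [IsProper p] {δB : B → ℤ} (hBs : Cyc.IsSetup B δB)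
    (hδB : Cyc.DeltaCompat p δB δ) {ls : List P.Modules}
    (hf : HasFilt ((Scheme.Modules.pullback π).obj E) ls) (hlen : ls.length = r) {k : ℤ}
    {α : AlgebraicCycle X ℤ} (hα : α ∈ zkSub δ k) {γ : Fin (r + 1) → AlgebraicCycle X ℤ}
    (hγ : Cyc.IsChernCap p δ δB O1 r k α γ) (j : Fin (r + 1)) :
    pullAll π hP hX hc (clk hX (k - (j : ℕ)) (γ j)) =
      opAct hP ((rootsOp hP ls).esymm j) (pullAll π hP hX hc (clk hX k α)) := by
  rcases r with _ | n
  · obtain rfl : j = 0 := Subsingleton.elim (α := Fin 1) _ _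
    simp only [hγ.1, Fin.val_zero, Nat.cast_zero, sub_zero, Multiset.esymm, Multiset.powersetCard_zero_left,
      Multiset.map_singleton, Multiset.prod_zero, Multiset.sum_singleton, map_one]
    rfl
  · let a := pullback.fst p π
    let b := pullback.snd p π
    have hsq : IsPullback a b p π := IsPullback.of_hasPullback p π
    obtain ⟨hBf, hflB, hinv⟩ := projFibres_of_isProjBundle hE hB
    obtain ⟨hB', hflat, hinv'⟩ := projFibres_bc hE hB hsq
    haveI := hflB
    haveI := hflat
    haveI : IsProper b := MorphismProperty.of_isPullback hsq inferInstance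
    have hb : Cyc.DeltaCompat b (upDelta b δP) δP := deltaCompat_upDelta b δP
    have hs : Cyc.IsSetup _ (upDelta b δP) := isSetup_upDelta b hP
    have hca : ShiftAt a (upDelta b δP) δB d := by
      haveI : LocallyOfFiniteType a := MorphismProperty.of_isPullback hsq.flip inferInstance
      exact shiftAt_of_hasRelDim a (FibDim94.hasRelDim_of_isPullback hsq.flip hπd)
        (deltaCompat_square_top hsq.w hd hδB hb)
    have hcap := isChernCap_pull hsq hc hca hX hP hBs hs hδB hb hBf hB' hinv hγ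
    haveI : Epi (bcQuot hsq.w q) := (isGrass_bc (Grass.IsGrass.of_isProjBundle hB) hsq).epi
    have h := chernCap_eq_esymm hP hB' hinv' hs hb (q := bcQuot hsq.w q) hf hlen
      (show pullHom π hP hc α ∈ zkSub δP (k + d) from pullHom_mem π hP hc hα) hcap j
    rw [pullAll_clk π hP hX hc hα,
      pullAll_clk π hP hX hc (show γ j ∈ zkSub δ (k - (j : ℕ)) from hγ.2.1 j)]
    rw [show k + (d : ℤ) - ((j : ℕ) : ℤ) = k - ((j : ℕ) : ℤ) + d by ring] at h
    exact h

end

end Groth.Agent.Cyc90.Dev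

namespace Groth.Agent.Cyc90.Dev

variable {X : Scheme.{u}} {δ : X → ℤ}

lemma HasFilt.single {L : X.Modules} (hL : PicF.IsInvertible L) : HasFilt L [L] := by
  refine .step (M' := kernel (𝟙 L)) (kernel.ι _) (𝟙 L) (kernel.condition _)
    { exact := ShortComplex.exact_of_f_is_kernel _ (kernelIsKernel _) } hL (.zero ?_)
  rw [IsZero.iff_id_eq_zero, ← cancel_mono (kernel.ι (𝟙 L))]
  simpa using kernel.condition (𝟙 L)

lemma shortExact_pullback_bundle {Y : Scheme.{u}} (f : Y ⟶ X) {A B C : X.Modules} {a : A ⟶ B} {b : B ⟶ C}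
    {w : a ≫ b = 0} (h : (ShortComplex.mk a b w).ShortExact) {r : ℕ} (hC : FlatMod.IsFinLocFreeOfRank r C) :
    ((ShortComplex.mk a b w).map (Scheme.Modules.pullback f)).ShortExact :=
  KRR40.shortExact_pullback f h fun x => by
    obtain ⟨U, hx, h⟩ := hC x
    exact ⟨U, r, hx, h⟩

/-- A split map for finitely many bundles, with its weight function. -/
lemma exists_split (hX : Cyc.IsSetup X δ) (m : ℕ) (E : Fin m → X.Modules) (rk : Fin m → ℕ)
    (hE : ∀ i, FlatMod.IsFinLocFreeOfRank (rk i) (E i)) :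
    ∃ (P : Scheme.{u}) (π : P ⟶ X) (d : ℕ) (δP : P → ℤ), SplitMap π d ∧ Flat π ∧ LocallyOfFiniteType π ∧
      Cyc.IsSetup P δP ∧ Cyc.DeltaCompat π δP δ ∧ ShiftAt π δP δ d ∧
      ∀ i, ∃ ls, HasFilt ((Scheme.Modules.pullback π).obj (E i)) ls ∧ ls.length = rk i := by
  obtain ⟨P, π, d, hπ, hall⟩ := exists_splitting_family m E rk hE
  haveI := hπ.proper
  exact ⟨P, π, d, upDelta π δ, hπ, hπ.flat, inferInstance, isSetup_upDelta π hX, deltaCompat_upDelta π δ,
    shiftAt_of_hasRelDim π hπ.relDim (deltaCompat_upDelta π δ), hall⟩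

end Groth.Agent.Cyc90.Dev
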