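import Groth.Agent.Cyc90.Dev.KerRank
import Groth.Agent.Cyc90.Dev.ChernRoots
import Groth.Agent.Cyc90.Dev.GrassBC
import Groth.Agent.Cyc90.Dev.CycleSquare
import Groth.Agent.Cyc90.Dev.ChernComm
import Groth.Agent.Cyc90.Dev.Segre
import Groth.Agent.Curves2.ProjLine
import Groth.Agent.S10829
import Groth.Agent.S5729
import Groth.Agent.S9708
import Groth.Agent.S4418
import Groth.Agent.S4421
import Groth.Agent.FibDim94.BaseChange
import Groth.Agent.EGA73.Invertible

/-! The splitting tower of a family of bundles. -/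

set_option autoImplicit false
set_option backward.isDefEq.respectTransparency.types false
set_option synthInstance.maxHeartbeats 200000
universe u

open CategoryTheory CategoryTheory.Limits AlgebraicGeometry TopologicalSpace Opposite

noncomputable section

namespace Groth.Agent.Cyc90.Dev

variable {X P Q : Scheme.{u}}

/-- Flat proper maps of relative dimension `d`, projective over affine opens, along which flat
pullback of cycle classes stays injective after every base change. -/
structure SplitMap (π : P ⟶ X) (d : ℕ) : Prop where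
  proj : ∀ U : X.Opens, IsCompact (U : Set X) → IsQuasiSeparated (U : Set X) → RelProj.IsProjective (π ∣_ U)
  proper : IsProper π
  flat : Flat π
  relDim : Cyc.HasRelDim π d
  inj : ∀ (Y : Scheme.{u}) (f : Y ⟶ X) [LocallyOfFiniteType f] (δY : Y → ℤ), Cyc.IsSetup Y δY →
    ∀ (PY : Scheme.{u}) (πY : PY ⟶ Y) (g : PY ⟶ P), IsPullback g πY π f →
    ∀ (δPY : PY → ℤ), Cyc.IsSetup PY δPY → Cyc.DeltaCompat πY δPY δY →
    ∀ (k : ℤ) (α : AlgebraicCycle Y ℤ), α ∈ Cyc.Zk Y δY k →
    ∀ β : AlgebraicCycle PY ℤ, ⇑β = Cyc.pullFun πY δPY δY d ⇑α →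
    Cyc.RatEquivZero δPY (k + d) β → Cyc.RatEquivZero δY k α

lemma isProjective_restrict {π : P ⟶ X} (h : RelProj.IsProjective π) (U : X.Opens) :
    RelProj.IsProjective (π ∣_ U) := by
  have h1 := S4421.result π h U.ι
  have e := (isPullback_morphismRestrict π U).flip
  obtain ⟨𝒮, R, r, chart, i, h2, h3, h4, h5⟩ := h1
  refine ⟨𝒮, R, r, chart, e.isoPullback ≪≫ i, h2, h3, h4, ?_⟩
  rw [Iso.trans_hom, Category.assoc, h5, e.isoPullback_hom_snd]

lemma hasRelDim_of_projFibres {n : ℕ} {p : P ⟶ X} {O1 : P.Modules} (hB : ProjFibres n p O1) :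
    Cyc.HasRelDim p n := by
  intro ξ T hT
  obtain ⟨-, e, -, -, -⟩ := hB ξ
  haveI := Curves2.ProjLine.irreducibleSpace (X.residueField ξ) n
  haveI : IrreducibleSpace ↥(p.fiber ξ) :=
    (e.hom.homeomorph.surjective).irreducibleSpace e.hom.continuous
  rw [irreducibleComponents_eq_singleton, Set.mem_singleton_iff] at hT
  subst hT
  rw [(Homeomorph.Set.univ ↥(p.fiber ξ)).isHomeomorph.topologicalKrullDim_eq _,
    ← e.hom.homeomorph.isHomeomorph.topologicalKrullDim_eq _]
  exact S10829.result _ n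

/-- The projective bundle of a bundle is a split map, with its quotient. -/
theorem exists_splitMap_step {n : ℕ} {E : X.Modules} (hE : FlatMod.IsFinLocFreeOfRank (n + 1) E) :
    ∃ (P : Scheme.{u}) (p : P ⟶ X) (O1 : P.Modules) (q : (Scheme.Modules.pullback p).obj E ⟶ O1),
      KRR.IsProjBundle p E O1 q ∧ SplitMap p n := by
  have hlf : FlatMod.IsFinLocFree E := fun x => by
    obtain ⟨U, hx, h⟩ := hE x
    exact ⟨U, n + 1, hx, h⟩
  have hq : Coh.IsQCoh E := Props58.LocFree.isQuasicoherent_of_isFinLocFree hlf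
  obtain ⟨𝒮, j, hj, P, p, chart, hP, O, lam, hO⟩ := EGAProj74.exists_projBundle hq
  obtain ⟨φ, hφ⟩ := EGAProj74.exists_canonical hq hj hO hP
  have hinv : PicF.IsInvertible O :=
    EGAProj74.isInvertible_of_isGenDegOne hO (EGAProj74.isGenDegOne_grSym hq hj)
  have hG : Grass.IsGrass p E 1 O
      (((Scheme.Modules.pullbackPushforwardAdjunction p).homEquiv E O).symm φ) :=
    { rank := Mero90.isFinLocFreeOfRank_of_isInvertible hinv
      epi := EGAProj74.epi_canonical hq hj hO hφ
      univ := fun T g L hL s hs => by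
        haveI := hs
        have h := EGAProj74.existsUnique_of_epi hq hj hP hO hφ g L (isInvertible_of_rank_one hL) s
        simpa only [Grass.quotBC, Category.assoc] using h }
  have hproj : RelProj.IsProjective p := (S5729.result p).2
    ⟨E, 𝒮, j, P, p, chart, 𝟙 P, hq, Props58.LocFree.isFiniteType_of_isFinLocFree hlf, hj, hP,
      inferInstance, Category.id_comp _⟩
  haveI hprop : IsProper p := (S4418.result p hproj).2
  obtain ⟨hB, hflat, -⟩ := projFibres_of_isProjBundle hE hG.isProjBundle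
  refine ⟨P, p, O, _, hG.isProjBundle, fun U _ _ => isProjective_restrict hproj U, hprop, hflat,
    hasRelDim_of_projFibres hB, ?_⟩
  intro Y f _ δY hY PY πY g hsq δPY hPY hπY k α hα β hβ hrat
  obtain ⟨hBY, hflY, hinvY⟩ := projFibres_bc hE hG.isProjBundle hsq
  haveI := hflY
  haveI : IsProper πY := MorphismProperty.of_isPullback hsq inferInstance
  obtain ⟨s, hs⟩ := exists_secFibre_family hinvY
  let t : ℕ → (ξ : PY) → Cyc.secFibre ((Scheme.Modules.pullback g).obj O) ξ := fun _ => s
  have ht : ∀ i ξ, t i ξ ≠ 0 := fun _ => hs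
  have h := capPow_rat hPY hinvY t ht hrat n
  have hβ' : β = pullHom πY hPY (shiftAt_of_fibres hBY hπY) α := DFunLike.coe_injective hβ
  rw [add_sub_cancel_right, hβ'] at h
  have h2 := mapHom_rat πY hPY hY hπY h
  rwa [show mapHom πY δPY δY (capPow hPY hinvY t ht n (pullHom πY hPY (shiftAt_of_fibres hBY hπY) α)) = α from
    segOp_self hY hBY hinvY hPY hπY t ht hα] at h2

/-- Split maps compose. -/
theorem SplitMap.comp {π₂ : Q ⟶ P} {π₁ : P ⟶ X} {d₂ d₁ : ℕ} (h₂ : SplitMap π₂ d₂) (h₁ : SplitMap π₁ d₁) :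
    SplitMap (π₂ ≫ π₁) (d₂ + d₁) := by
  haveI := h₁.proper; haveI := h₂.proper; haveI := h₁.flat; haveI := h₂.flat
  refine ⟨fun U hU hU' => ?_, inferInstance, inferInstance, Div89.hasRelDim_comp π₂ π₁ h₂.relDim h₁.relDim, ?_⟩
  · rw [morphismRestrict_comp]
    haveI : CompactSpace ↥(U : Scheme.{u}) := isCompact_iff_compactSpace.1 hU
    haveI : QuasiSeparatedSpace ↥(U : Scheme.{u}) :=
      (isQuasiSeparated_iff_quasiSeparatedSpace (U : Set X) U.2).1 hU'
    haveI : CompactSpace ↥((π₁ ⁻¹ᵁ U : P.Opens) : Scheme.{u}) :=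
      isCompact_iff_compactSpace.1 (π₁.isCompact_preimage hU)
    haveI : QuasiSeparatedSpace ↥((π₁ ⁻¹ᵁ U : P.Opens) : Scheme.{u}) :=
      quasiSeparatedSpace_of_quasiSeparated (π₁ ∣_ U)
    refine S9708.result _ _ (h₂.proj _ (π₁.isCompact_preimage hU) ?_) (h₁.proj U hU hU')
    exact (isQuasiSeparated_iff_quasiSeparatedSpace _ (π₁ ⁻¹ᵁ U).2).2 ‹QuasiSeparatedSpace ↥((π₁ ⁻¹ᵁ U : P.Opens) : Scheme.{u})›
  · intro Y f _ δY hY PY πY g hsq δPY hPY hπY k α hα β hβ hrat
    let a := pullback.fst π₁ f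
    let b := pullback.snd π₁ f
    let g' : PY ⟶ pullback π₁ f := pullback.lift (g ≫ π₂) πY (by rw [Category.assoc, hsq.w])
    have hg'b : g' ≫ b = πY := pullback.lift_snd _ _ _
    have hg'a : g' ≫ a = g ≫ π₂ := pullback.lift_fst _ _ _
    have htop : IsPullback g g' π₂ a := by
      refine IsPullback.of_bot ?_ hg'a.symm (IsPullback.of_hasPullback π₁ f)
      rw [hg'b]; exact hsq
    have hb : Cyc.DeltaCompat b (upDelta b δY) δY := deltaCompat_upDelta b δY
    have hQ : Cyc.IsSetup _ (upDelta b δY) := isSetup_upDelta b hY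
    have hg' : Cyc.DeltaCompat g' δPY (upDelta b δY) := deltaCompat_of_comp g' b (hg'b.symm ▸ hπY) hb
    haveI : LocallyOfFiniteType g' := MorphismProperty.of_isPullback htop inferInstance
    haveI : Flat g' := MorphismProperty.of_isPullback htop inferInstance
    haveI : Flat b := MorphismProperty.of_isPullback (IsPullback.of_hasPullback π₁ f) inferInstance
    have hcb : ShiftAt b (upDelta b δY) δY d₁ :=
      shiftAt_of_hasRelDim b (hasRelDim_pullback_snd π₁ f h₁.relDim) hb
    have hcg : ShiftAt g' δPY (upDelta b δY) d₂ :=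
      shiftAt_of_hasRelDim g' (FibDim94.hasRelDim_of_isPullback htop h₂.relDim) hg'
    have hcomp := (pullFun_comp g' b hPY.2.2 hQ.2.2 hcg hcb (α : Y → ℤ)).2
    rw [hg'b] at hcomp
    let α₁ := pullHom b hQ hcb α
    refine h₁.inj Y f δY hY _ b a (IsPullback.of_hasPullback π₁ f) _ hQ hb k α hα α₁ rfl ?_
    refine h₂.inj _ a (upDelta b δY) hQ PY g' g htop δPY hPY hg' (k + d₁) α₁ (pullHom_mem b hQ hcb hα) β ?_ ?_
    · rw [hβ, show ((d₂ + d₁ : ℕ) : ℤ) = d₁ + d₂ by push_cast; ring, hcomp]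
      rfl
    · rwa [show k + (d₁ : ℤ) + d₂ = k + ((d₂ + d₁ : ℕ) : ℤ) by push_cast; ring]

end Groth.Agent.Cyc90.Dev

namespace Groth.Agent.Cyc90.Dev

variable {X : Scheme.{u}}

/-- A bundle becomes filtered with invertible pieces along a split map. -/
theorem exists_splitting : ∀ (r : ℕ) {X : Scheme.{u}} {E : X.Modules}, FlatMod.IsFinLocFreeOfRank r E →
    ∃ (P : Scheme.{u}) (π : P ⟶ X) (d : ℕ) (ls : List P.Modules), SplitMap π d ∧
      HasFilt ((Scheme.Modules.pullback π).obj E) ls ∧ ls.length = r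
  | 0, X, E, hE => by
    obtain ⟨P, p, -, -, -, hp⟩ := exists_splitMap_step (n := 0)
      (Mero90.isFinLocFreeOfRank_of_isInvertible (EGA73.isInvertible_structureModule (X := X)))
    refine ⟨P, p, 0, [], hp, .zero ((Scheme.Modules.pullback p).map_isZero ?_), rfl⟩
    exact isZero_of_rank_zero hE
  | r + 1, X, E, hE => by
    obtain ⟨P, p, O, q, hP, hp⟩ := exists_splitMap_step hE
    haveI := hP.epi
    have hO : PicF.IsInvertible O := isInvertible_of_rank_one hP.invertible
    have hK := isFinLocFreeOfRank_kernel (Grass5.QuotBC.isFinLocFreeOfRank_pullback p hE) hO q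
    obtain ⟨Q, π, d, ls, hπ, hf, hlen⟩ := exists_splitting r hK
    have hs : (ShortComplex.mk (kernel.ι q) q (kernel.condition q)).ShortExact :=
      { exact := ShortComplex.exact_of_f_is_kernel _ (kernelIsKernel q) }
    refine ⟨Q, π ≫ p, d + r, (Scheme.Modules.pullback π).obj O :: ls, hπ.comp hp, ?_, by simp [hlen]⟩
    refine (HasFilt.step _ _ ((ShortComplex.mk _ _ (kernel.condition q)).map (Scheme.Modules.pullback π)).zero
      (KRR40.shortExact_pullback π hs (HasFilt.isFinLocFree_of_isInvertible hO))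
      (Amp73.isInvertible_pullback π hO) hf).of_iso ((Scheme.Modules.pullbackComp π p).app E)
where
  isZero_of_rank_zero {X : Scheme.{u}} {E : X.Modules} (hE : FlatMod.IsFinLocFreeOfRank 0 E) : IsZero E := by
    rw [IsZero.iff_id_eq_zero, FlatMor68.PullbackDescent.zero_iff]
    intro x z
    obtain ⟨U, hx, ⟨φ⟩⟩ := hE x
    obtain ⟨s, hs⟩ := Props58.LocFree.exists_stalkBasis_of_iso φ
    haveI : Subsingleton (E.presheaf.stalk x) := (hs x hx).2.subsingleton
    exact Subsingleton.elim _ _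

/-- Finitely many bundles become filtered along one split map. -/
theorem exists_splitting_family : ∀ (m : ℕ) {X : Scheme.{u}} (E : Fin m → X.Modules) (rk : Fin m → ℕ),
    (∀ i, FlatMod.IsFinLocFreeOfRank (rk i) (E i)) →
    ∃ (P : Scheme.{u}) (π : P ⟶ X) (d : ℕ), SplitMap π d ∧
      ∀ i, ∃ ls, HasFilt ((Scheme.Modules.pullback π).obj (E i)) ls ∧ ls.length = rk i
  | 0, X, _, _, _ => by
    obtain ⟨P, p, -, -, -, hp⟩ := exists_splitMap_step (n := 0)
      (Mero90.isFinLocFreeOfRank_of_isInvertible (EGA73.isInvertible_structureModule (X := X)))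
    exact ⟨P, p, 0, hp, fun i => i.elim0⟩
  | m + 1, X, E, rk, hE => by
    obtain ⟨P, p, d, ls, hp, hf, hlen⟩ := exists_splitting (rk 0) (hE 0)
    obtain ⟨Q, π, d', hπ, hall⟩ := exists_splitting_family m
      (fun i => (Scheme.Modules.pullback p).obj (E i.succ)) (fun i => rk i.succ)
      fun i => Grass5.QuotBC.isFinLocFreeOfRank_pullback p (hE i.succ)
    refine ⟨Q, π ≫ p, d' + d, hπ.comp hp, Fin.cases ⟨_, (hf.pullback π).of_iso
      ((Scheme.Modules.pullbackComp π p).app _), by simp [hlen]⟩ fun i => ?_⟩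
    obtain ⟨l, hl, hll⟩ := hall i
    exact ⟨l, hl.of_iso ((Scheme.Modules.pullbackComp π p).app _), hll⟩

end Groth.Agent.Cyc90.Dev
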