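import Groth.Agent.Cyc90.Frame.Additive
import Groth.Agent.QC70.SubMod
import Groth.Agent.QC70.StalkLoc
import Groth.Prelude.Def_ChowK

/-! Coherent submodules prescribed by stalks at the points of top dimension. -/

set_option autoImplicit false
set_option backward.isDefEq.respectTransparency.types false
set_option linter.style.haveILetI false
universe u

open CategoryTheory CategoryTheory.Limits AlgebraicGeometry TopologicalSpace IsLocalRing

namespace Groth.Agent.Cyc90.Dev

open QC70

variable {X : Scheme.{u}} {δ : X → ℤ} {k : ℤ}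

lemma cohLe_mono {F : X.Modules} {k' : ℤ} (h : Cyc.CohLe δ k F) (hk : k ≤ k') : Cyc.CohLe δ k' F :=
  ⟨h.1, fun x hx => (h.2 x hx).trans hk⟩

/-- The points of top dimension of the support in an affine open are finitely many. -/
lemma finite_top (hX : Cyc.IsSetup X δ) {M : X.Modules} (hM : Cyc.CohLe δ k M) {U : X.Opens}
    (hU : IsAffineOpen U) :
    {η : X | η ∈ U ∧ δ η = k ∧ Nontrivial (M.presheaf.stalk η)}.Finite := by
  classical
  have hM' : Cyc.CohLe δ (k - 1 + 1) M := by rwa [sub_add_cancel]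
  choose V hVo hxV hVf using Frame.locallyFinite_top hX hM'
  obtain ⟨t, ht⟩ := hU.isCompact.elim_finite_subcover V hVo
    (fun x _ => Set.mem_iUnion.2 ⟨x, hxV x⟩)
  refine ((t.finite_toSet.biUnion fun i _ => (hVf i).image Subtype.val)).subset ?_
  rintro η ⟨hη, hd, hn⟩
  obtain ⟨i, hi, hηi⟩ := Set.mem_iUnion₂.1 (ht hη)
  exact Set.mem_biUnion hi ⟨⟨η, by omega, hn⟩, ⟨η, subset_closure rfl, hηi⟩, rfl⟩

lemma length_top_ne_top (hX : Cyc.IsSetup X δ) {M : X.Modules} (hM : Cyc.CohLe δ k M) {η : X}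
    (hη : δ η = k) : Module.length (X.presheaf.stalk η) (M.presheaf.stalk η) ≠ ⊤ :=
  have := hX.1
  length_stalk_ne_top M hM.1 η (eq_of_delta_eq hX.2.2 hM.2 hη)

lemma exists_pow_kills {R : Type*} [CommRing R] [IsLocalRing R] {M : Type*} [AddCommGroup M]
    [Module R M] (h : IsFiniteLength R M) {r : R} (hr : r ∈ maximalIdeal R) :
    ∃ n : ℕ, ∀ e : M, r ^ n • e = 0 := by
  induction h with
  | of_subsingleton => exact ⟨0, fun e => Subsingleton.elim _ _⟩
  | @of_simple_quotient M _ _ N _ _ ih =>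
    obtain ⟨n, hn⟩ := ih
    refine ⟨n + 1, fun e => ?_⟩
    have h1 : r • Submodule.Quotient.mk (p := N) e = 0 := by
      refine Module.mem_annihilator.1 ?_ _
      rw [IsLocalRing.eq_maximalIdeal (IsSimpleModule.annihilator_isMaximal (R := R) (M := M ⧸ N))]
      exact hr
    rw [← Submodule.Quotient.mk_smul, Submodule.Quotient.mk_eq_zero] at h1
    have := congrArg Subtype.val (hn ⟨r • e, h1⟩)
    rwa [Submodule.coe_smul, smul_smul, ← pow_succ] at this

lemma exists_pow_germ_kills (hX : Cyc.IsSetup X δ) {M : X.Modules} (hM : Cyc.CohLe δ k M)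
    {U : X.Opens} {η : X} (hηU : η ∈ U) (hη : δ η = k) {f : Γ(X, U)} (hf : η ∉ X.basicOpen f) :
    ∃ n : ℕ, ∀ e : M.presheaf.stalk η, X.presheaf.germ U η hηU f ^ n • e = 0 :=
  exists_pow_kills (Module.length_ne_top_iff.1 (length_top_ne_top hX hM hη))
    ((IsLocalRing.mem_maximalIdeal _).2 fun hu => hf ((Scheme.mem_basicOpen X f η hηU).2 hu))

section Sub

variable {M : X.Modules} (N : ∀ η : X, δ η = k → Submodule (X.presheaf.stalk η) (M.presheaf.stalk η))

/-- The sections whose germs at the top points lie in the given submodules. -/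
def stalkSub : LocalSubmod M where
  obj V :=
    { carrier := {s | ∀ (η : X) (hV : η ∈ V) (hη : δ η = k), germM M V η hV s ∈ N η hη}
      add_mem' := fun {a b} ha hb η hV hη => by
        rw [germM_add]; exact add_mem (ha η hV hη) (hb η hV hη)
      zero_mem' := fun η hV hη => by rw [germM_zero]; exact zero_mem _
      smul_mem' := fun c s hs η hV hη => by
        rw [germM_smul]; exact Submodule.smul_mem _ _ (hs η hV hη) }
  res_mem {V W} h s hs η hW hη := by rw [germM_res]; exact hs η (h hW) hη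
  of_locally {V} s h η hV hη := by
    obtain ⟨W, hW, hηW, hs⟩ := h η hV
    rw [← germM_res hW hηW s]
    exact hs η hηW hη

lemma exists_mult (hX : Cyc.IsSetup X δ) (hM : Cyc.CohLe δ k M) {U : X.Opens} (hU : IsAffineOpen U)
    (f : Γ(X, U)) : ∃ n : ℕ, ∀ t : Γ(M, U),
      (∀ η (hV : η ∈ U) (hη : δ η = k), η ∈ X.basicOpen f → germM M U η hV t ∈ N η hη) →
      f ^ n • t ∈ (stalkSub N).obj U := by
  classical
  let S := (finite_top hX hM hU).toFinset
  have hb : ∀ η : X, ∃ n : ℕ, ∀ (hηU : η ∈ U), δ η = k → η ∉ X.basicOpen f →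
      ∀ e : M.presheaf.stalk η, X.presheaf.germ U η hηU f ^ n • e = 0 := by
    intro η
    by_cases h : η ∈ U ∧ δ η = k ∧ η ∉ X.basicOpen f
    · obtain ⟨n, hn⟩ := exists_pow_germ_kills hX hM h.1 h.2.1 h.2.2
      exact ⟨n, fun _ _ _ => hn⟩
    · exact ⟨0, fun a b c => absurd ⟨a, b, c⟩ h⟩
  choose n hn using hb
  refine ⟨S.sup n, fun t ht η hV hη => ?_⟩
  rw [germM_smul]
  by_cases hf : η ∈ X.basicOpen f
  · exact Submodule.smul_mem _ _ (ht η hV hη hf)
  by_cases hs : Nontrivial (M.presheaf.stalk η)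
  · have hle : n η ≤ S.sup n :=
      Finset.le_sup (f := n) ((finite_top hX hM hU).mem_toFinset.2 ⟨hV, hη, hs⟩)
    rw [map_pow, ← Nat.sub_add_cancel hle, pow_add, mul_smul, hn η hV hη hf, smul_zero]
    exact zero_mem _
  · haveI := not_nontrivial_iff_subsingleton.1 hs
    rw [Subsingleton.elim (_ • _ : M.presheaf.stalk η) 0]
    exact zero_mem _

lemma isLocAt_stalkSub (hX : Cyc.IsSetup X δ) (hM : Cyc.CohLe δ k M) {U : X.Opens}
    (hU : IsAffineOpen U) : IsLocAt (stalkSub N).mod U := by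
  haveI := hM.1.1
  have hloc := isLocAt_of_isQuasicoherent M hU
  refine ⟨fun f s => ?_, fun f t ht => ?_⟩
  · obtain ⟨a, t, ht⟩ := hloc.exists_of f ((stalkSub N).ι.app _ s)
    obtain ⟨b, hb⟩ := exists_mult N hX hM hU f
    have hmem : f ^ b • t ∈ (stalkSub N).obj U := by
      refine hb t fun η hV hη hf => ?_
      rw [← germM_res (X.basicOpen_le f) hf t, ht, germM_smul]
      refine Submodule.smul_mem _ _ ?_
      exact (show (stalkSub N).obj (X.basicOpen f) from s).2 η hf hη
    refine ⟨b + a, (⟨f ^ b • t, hmem⟩ : (stalkSub N).obj U), app_injective_of_mono (stalkSub N).ι _ ?_⟩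
    rw [Scheme.Modules.Hom.app_smul]
    change res M (X.basicOpen_le f) (f ^ b • t) = _
    rw [res_smul, ht, pow_add, mul_smul]
    exact congrArg (· • _) (map_pow _ f b)
  · have h0 : res M (X.basicOpen_le f) ((stalkSub N).ι.app U t) = 0 := by
      exact congrArg Subtype.val ht
    obtain ⟨a, ha⟩ := hloc.eq_zero_of f _ h0
    refine ⟨a, app_injective_of_mono (stalkSub N).ι _ ?_⟩
    rw [Scheme.Modules.Hom.app_smul, ha, map_zero]

theorem cohLe_stalkSub (hX : Cyc.IsSetup X δ) (hM : Cyc.CohLe δ k M) :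
    Cyc.CohLe δ k (stalkSub N).mod := by
  haveI := hX.1
  haveI := hM.1.1
  haveI := hM.1.2
  haveI hq : (stalkSub N).mod.IsQuasicoherent :=
    isQuasicoherent_of_forall_isLocAt _ fun U hU => isLocAt_stalkSub N hX hM hU
  refine ⟨⟨hq, isFiniteType_of_mono (stalkSub N).ι⟩, fun x hx => hM.2 x ?_⟩
  exact (injective_stalkMapM_of_mono (stalkSub N).ι x).nontrivial

theorem range_stalk_stalkSub (hX : Cyc.IsSetup X δ) (hM : Cyc.CohLe δ k M) {η : X} (hη : δ η = k) :
    LinearMap.range (stalkLinear (stalkSub N).ι η) = N η hη := by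
  classical
  haveI := hM.1.1
  refine le_antisymm ?_ fun e he => ?_
  · rintro _ ⟨d, rfl⟩
    obtain ⟨W, hW, s, rfl⟩ := germM_exist d
    change stalkMapM _ η _ ∈ _
    rw [stalkMapM_germ]
    exact (show (stalkSub N).obj W from s).2 η hW hη
  · obtain ⟨_, ⟨U, hU, rfl⟩, hηU, -⟩ :=
      X.isBasis_affineOpens.exists_subset_of_mem_open (Set.mem_univ η) isOpen_univ
    obtain ⟨f, t, hηf, ht⟩ := stalk_exists_smul (isLocAt_of_isQuasicoherent M hU) hU hηU e
    let S := (finite_top hX hM hU).toFinset.erase η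
    let W : X.Opens := ⟨(⋃ y ∈ S, closure {y})ᶜ,
      (S.finite_toSet.isClosed_biUnion fun _ _ => isClosed_closure).isOpen_compl⟩
    have hηW : η ∈ W := by
      intro h
      obtain ⟨y, hy, hyη⟩ := Set.mem_iUnion₂.1 h
      obtain ⟨hne, hy'⟩ := Finset.mem_erase.1 hy
      obtain ⟨-, hd, -⟩ := (finite_top hX hM hU).mem_toFinset.1 hy'
      exact hne (eq_of_delta_le hX.2.2 (specializes_iff_mem_closure.2 hyη) (by rw [hd, hη]))
    obtain ⟨a, haW, hηa⟩ := hU.exists_basicOpen_le ⟨η, hηW⟩ hηU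
    obtain ⟨b, hb⟩ := exists_mult N hX hM hU a
    have hmem : a ^ b • t ∈ (stalkSub N).obj U := by
      refine hb t fun y hV hy hya => ?_
      by_cases hyη : y = η
      · subst hyη
        rw [← ht]
        exact Submodule.smul_mem _ _ he
      · by_cases hs : Nontrivial (M.presheaf.stalk y)
        · exact absurd (Set.mem_biUnion (show y ∈ S from Finset.mem_erase.2
            ⟨hyη, (finite_top hX hM hU).mem_toFinset.2 ⟨hV, hy, hs⟩⟩) (subset_closure (Set.mem_singleton y))) (haW hya)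
        · haveI := not_nontrivial_iff_subsingleton.1 hs
          rw [Subsingleton.elim (germM M U y hV t) 0]
          exact zero_mem _
    obtain ⟨v, hv⟩ := ((isUnit_germ hηa).pow b).mul (isUnit_germ hηf)
    refine ⟨(↑v⁻¹ : X.presheaf.stalk η) •
      germM (stalkSub N).mod U η hηU (⟨a ^ b • t, hmem⟩ : (stalkSub N).obj U), ?_⟩
    rw [map_smul]
    change _ • stalkMapM _ η _ = e
    rw [stalkMapM_germ]
    change _ • germM M U η hηU (a ^ b • t) = e
    rw [germM_smul, map_pow, ← ht, smul_smul (X.presheaf.germ U η hηU a ^ b), ← hv, smul_smul,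
      Units.inv_mul, one_smul]

end Sub

end Groth.Agent.Cyc90.Dev
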