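import Groth.Agent.Cyc90.Dev.RootFacts
import Groth.Agent.Cyc90.Dev.EsymmPairs
import Groth.Agent.Crv77.Twist
import Groth.Agent.EGA73.Tensor
import Groth.Agent.EGA73.Invertible
import Groth.Agent.QC70.HomLocFree

/-! Filtrations of tensor products. -/

set_option autoImplicit false
set_option backward.isDefEq.respectTransparency.types false
set_option synthInstance.maxHeartbeats 200000
universe u

open CategoryTheory CategoryTheory.Limits AlgebraicGeometry

noncomputable section

namespace Groth.Agent.Cyc90.Dev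

variable {X : Scheme.{u}}

section Site

open Opposite

variable {C : Type u} [SmallCategory C] {J : GrothendieckTopology C} {O : Sheaf J CommRingCat.{u}}

lemma exists_tR_shortExact (G : ModSite.Mod O)
    (hG : ∀ W : C, ∃ S ∈ J W, ∀ ⦃V : C⦄ (i : V ⟶ W), S.arrows i →
      Module.Flat (O.obj.obj (op V)) ((Mod48.pre G).obj (op V)))
    {S : ShortComplex (ModSite.Mod O)} (hS : S.ShortExact) :
    ∃ h0 : (Mod48.tR G).map S.f ≫ (Mod48.tR G).map S.g = 0,
      (ShortComplex.mk ((Mod48.tR G).map S.f) ((Mod48.tR G).map S.g) h0).ShortExact :=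
  ⟨(S.map (Mod48.tR G)).zero, Crv77.shortExact_tR_of_locally_flat G hG hS⟩

lemma isZero_tR (G : ModSite.Mod O) {F : ModSite.Mod O} (h : IsZero F) : IsZero ((Mod48.tR G).obj F) :=
  (Mod48.tR G).map_isZero h

end Site

lemma isZero_tensor {M : X.Modules} (N : X.Modules) (h : IsZero M) : IsZero (CohB1.tensorMod M N) :=
  isZero_tR (O := X.sheaf) N h

/-- Tensoring with a finite locally free module is exact. -/
lemma exists_tensor_shortExact {N : X.Modules} (hN : FlatMod.IsFinLocFree N) {S : ShortComplex X.Modules}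
    (hS : S.ShortExact) : ∃ (f : CohB1.tensorMod S.X₁ N ⟶ CohB1.tensorMod S.X₂ N)
      (g : CohB1.tensorMod S.X₂ N ⟶ CohB1.tensorMod S.X₃ N) (h0 : f ≫ g = 0),
      (ShortComplex.mk f g h0).ShortExact :=
  ⟨_, _, exists_tR_shortExact (O := X.sheaf) N (QC70.locally_flat_of_isFinLocFree hN) hS⟩

namespace HasFilt

variable {M N L : X.Modules} {ls ls' : List X.Modules}

lemma twist (h : HasFilt M ls) (hL : PicF.IsInvertible L) :
    HasFilt (CohB1.tensorMod M L) (ls.map fun A => CohB1.tensorMod A L) := by
  induction h with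
  | zero h0 => exact .zero (isZero_tensor L h0)
  | step a b w hs hA _ ih =>
    obtain ⟨f, g, w', hs'⟩ := exists_tensor_shortExact (isFinLocFree_of_isInvertible hL) hs
    exact .step f g w' hs' (EGA73.isInvertible_tensorMod hA hL) ih

lemma tensor (h : HasFilt M ls) (h' : HasFilt N ls') (hN : FlatMod.IsFinLocFree N) :
    HasFilt (CohB1.tensorMod M N) (ls.flatMap fun A => ls'.map fun B => CohB1.tensorMod B A) := by
  induction h with
  | zero h0 => exact .zero (isZero_tensor N h0)
  | @step M' M A as a b w hs hA _ ih =>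
    rw [List.flatMap_cons]
    obtain ⟨f, g, w', hs'⟩ := exists_tensor_shortExact hN hs
    exact append f g w' hs' ih ((h'.twist hA).of_iso (EGA73.tensComm N A))

end HasFilt

variable {δ : X → ℤ} (hX : Cyc.IsSetup X δ)

lemma rootsOp_twist {ls : List X.Modules} (hls : ∀ A ∈ ls, PicF.IsInvertible A) {L : X.Modules}
    (hL : PicF.IsInvertible L) :
    rootsOp hX (ls.map fun A => CohB1.tensorMod A L) = (rootsOp hX ls).map (· + lc1 hX L) := by
  rw [rootsOp, rootsOp, Multiset.map_coe, List.map_map, List.map_map]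
  refine congrArg _ (List.map_congr_left fun A hA => ?_)
  exact lc1_tensor hX (hls A hA) hL (EGA73.isInvertible_tensorMod (hls A hA) hL)

lemma rootsOp_tensor {ls ls' : List X.Modules} (hls : ∀ A ∈ ls, PicF.IsInvertible A)
    (hls' : ∀ A ∈ ls', PicF.IsInvertible A) :
    rootsOp hX (ls.flatMap fun A => ls'.map fun B => CohB1.tensorMod B A) =
      pairSums (rootsOp hX ls) (rootsOp hX ls') := by
  induction ls with
  | nil => simp [rootsOp, pairSums]
  | cons A as ih =>
    rw [List.flatMap_cons, rootsOp_append, rootsOp_twist hX hls' (hls A List.mem_cons_self),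
      ih fun B hB => hls B (List.mem_cons_of_mem A hB)]
    simp only [rootsOp, pairSums, List.map_cons, ← Multiset.cons_coe, Multiset.cons_bind]

end Groth.Agent.Cyc90.Dev
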