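import Groth.Agent.Crv77.Twist
import Groth.Agent.Amp73.TensorFrame
import Groth.Agent.Mero90.Frames
import Groth.Agent.QCTens72.Basic
import Groth.Agent.QC70.CohOps

/-! Stalks of a twist by an invertible module. -/

set_option autoImplicit false
set_option backward.isDefEq.respectTransparency.types false
universe u

open CategoryTheory CategoryTheory.Limits AlgebraicGeometry TopologicalSpace Opposite MonoidalCategory

namespace Groth.Agent.Cyc90.Dev

open Groth.Agent.Var76.LineBundle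
open Groth.Agent.QC70 (germM stalkMapM stalkLinear)
open Groth.Agent.Amp73 (tm)

variable {X : Scheme.{u}} {F F' L : X.Modules}

/-- The twist of a morphism. -/
noncomputable def twMap (g : F ⟶ F') (L : X.Modules) : CohB1.tensorMod F L ⟶ CohB1.tensorMod F' L :=
  (Crv77.twist L).map g

lemma twMap_tm (g : F ⟶ F') (L : X.Modules) (U : X.Opens) (m : Γ(F, U)) (n : Γ(L, U)) :
    (twMap g L).app U (tm F L m n) = tm F' L (g.app U m) n := by
  have h := Mod48.shfU_naturality (O := X.sheaf)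
    (Mod48.fgt.map g ▷ Mod48.pre (O := X.sheaf) L : Mod48.pre (O := X.sheaf) F ⊗ Mod48.pre L ⟶ _)
  exact (congrArg (fun φ => (φ.app (op U)).hom (Mero90.tq m n)) h).symm

variable {U : X.Opens} (e : Γ(L, U)) {x : X} (hx : x ∈ U)

/-- The tensor with a local section, on stalks. -/
noncomputable def tmFun (d : F.presheaf.stalk x) : (CohB1.tensorMod F L).presheaf.stalk x :=
  germM (CohB1.tensorMod F L) ((QC70.germM_exist d).choose ⊓ U) x
    ⟨(QC70.germM_exist d).choose_spec.choose, hx⟩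
    (tm F L (Var76.LineBundle.res F inf_le_left (QC70.germM_exist d).choose_spec.choose_spec.choose)
      (Var76.LineBundle.res L inf_le_right e))

lemma germ_tm_congr {W₁ W₂ : X.Opens} (h₁ : W₁ ≤ U) (h₂ : W₂ ≤ U) (x₁ : x ∈ W₁) (x₂ : x ∈ W₂)
    (s₁ : Γ(F, W₁)) (s₂ : Γ(F, W₂)) (h : germM F W₁ x x₁ s₁ = germM F W₂ x x₂ s₂) :
    germM (CohB1.tensorMod F L) W₁ x x₁ (tm F L s₁ (Var76.LineBundle.res L h₁ e)) =
      germM (CohB1.tensorMod F L) W₂ x x₂ (tm F L s₂ (Var76.LineBundle.res L h₂ e)) := by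
  obtain ⟨W, hW, i₁, i₂, he⟩ := TopCat.Presheaf.germ_eq F.presheaf x x₁ x₂ _ _ h
  replace he : Var76.LineBundle.res F i₁.le s₁ = Var76.LineBundle.res F i₂.le s₂ := he
  refine (QC70.germM_res i₁.le hW _).symm.trans (Eq.trans ?_ (QC70.germM_res i₂.le hW _))
  congr 1
  change Var76.LineBundle.res _ i₁.le _ = Var76.LineBundle.res _ i₂.le _
  rw [Amp73.res_tm, Amp73.res_tm, he, res_res, res_res]

lemma tmFun_germ {W : X.Opens} (hW : W ≤ U) (hxW : x ∈ W) (s : Γ(F, W)) :
    tmFun e hx (germM F W x hxW s) =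
      germM (CohB1.tensorMod F L) W x hxW (tm F L s (Var76.LineBundle.res L hW e)) := by
  refine germ_tm_congr e _ _ _ _ _ _ ?_
  exact (QC70.germM_res inf_le_left _ _).trans
    (QC70.germM_exist (germM F W x hxW s)).choose_spec.choose_spec.choose_spec

include hx in
lemma exists_germ_le (d : F.presheaf.stalk x) :
    ∃ (W : X.Opens) (_ : W ≤ U) (hxW : x ∈ W) (s : Γ(F, W)), germM F W x hxW s = d := by
  obtain ⟨V, hxV, s, rfl⟩ := QC70.germM_exist d
  exact ⟨V ⊓ U, inf_le_right, ⟨hxV, hx⟩, QC70.res F inf_le_left s, QC70.germM_res _ _ _⟩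

/-- The tensor with a local section, linear. -/
noncomputable def tmLin : F.presheaf.stalk x →ₗ[X.presheaf.stalk x] (CohB1.tensorMod F L).presheaf.stalk x where
  toFun := tmFun e hx
  map_add' a b := by
    obtain ⟨W, hW, hxW, s, rfl⟩ := exists_germ_le hx a
    obtain ⟨W', hW', hxW', t, rfl⟩ := exists_germ_le hx b
    have h : x ∈ W ⊓ W' := ⟨hxW, hxW'⟩
    rw [← QC70.germM_res (inf_le_left : W ⊓ W' ≤ W) h s, ← QC70.germM_res (inf_le_right : W ⊓ W' ≤ W') h t,
      ← QC70.germM_add, tmFun_germ e hx (inf_le_left.trans hW), tmFun_germ e hx (inf_le_left.trans hW),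
      tmFun_germ e hx (inf_le_left.trans hW), ← QC70.germM_add]
    congr 1
    exact Amp73.tm_add_left _ _ _
  map_smul' r a := by
    obtain ⟨W, hW, hxW, s, rfl⟩ := exists_germ_le hx a
    obtain ⟨W', hxW', c, rfl⟩ := X.presheaf.exists_germ_eq r
    have h : x ∈ W ⊓ W' := ⟨hxW, hxW'⟩
    rw [RingHom.id_apply, ← QC70.germM_res (inf_le_left : W ⊓ W' ≤ W) h s,
      ← QC70.germ_resO (inf_le_right : W ⊓ W' ≤ W') h c, ← QC70.germM_smul,
      tmFun_germ e hx (inf_le_left.trans hW), tmFun_germ e hx (inf_le_left.trans hW), ← QC70.germM_smul]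
    congr 1
    exact Amp73.tm_smul_left _ _ _

lemma tmLin_germ {W : X.Opens} (hW : W ≤ U) (hxW : x ∈ W) (s : Γ(F, W)) :
    tmLin e hx (germM F W x hxW s) =
      germM (CohB1.tensorMod F L) W x hxW (tm F L s (Var76.LineBundle.res L hW e)) :=
  tmFun_germ e hx hW hxW s

theorem bijective_tmLin (he : IsFrame L U e) : Function.Bijective (tmLin (F := F) e hx) := by
  constructor
  · suffices h : ∀ d, tmLin (F := F) e hx d = 0 → d = 0 by
      intro a b hab
      refine sub_eq_zero.1 (h _ ?_)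
      rw [map_sub, hab, sub_self]
    intro d hd
    obtain ⟨W, hW, hxW, s, rfl⟩ := exists_germ_le hx d
    rw [tmLin_germ e hx hW] at hd
    obtain ⟨V, hV, hxV, h0⟩ := QC70.germM_eq_zero hd
    rw [← QC70.germM_res hV hxV s]
    replace h0 : Var76.LineBundle.res _ hV (tm F L s (Var76.LineBundle.res L hW e)) = 0 := h0
    have h1 : Var76.LineBundle.res F hV s = 0 := by
      refine Amp73.tm_frame_injective he (hV.trans hW) _ _ ?_
      rw [Amp73.tm_zero_left, ← h0, Amp73.res_tm_of_le e hW hV]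
    rw [show QC70.res F hV s = 0 from h1, QC70.germM_zero]
  · intro z
    obtain ⟨V, hxV, w, rfl⟩ := QC70.germM_exist z
    obtain ⟨m, hm⟩ := Amp73.exists_eq_tm_frame he (inf_le_right : V ⊓ U ≤ U)
      (Var76.LineBundle.res _ inf_le_left w)
    refine ⟨germM F (V ⊓ U) x ⟨hxV, hx⟩ m, ?_⟩
    rw [tmLin_germ e hx inf_le_right, hm]
    exact QC70.germM_res _ _ _

lemma tmLin_stalkSpecializes {y : X} (h : y ⤳ x) (d : F.presheaf.stalk x) :
    tmLin e (h.mem_open U.2 hx) (F.presheaf.stalkSpecializes h d) =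
      (CohB1.tensorMod F L).presheaf.stalkSpecializes h (tmLin e hx d) := by
  obtain ⟨W, hW, hxW, s, rfl⟩ := exists_germ_le hx d
  rw [tmLin_germ e hx hW]
  refine Eq.trans ?_ (TopCat.Presheaf.germ_stalkSpecializes_apply _ hxW h _).symm
  rw [show F.presheaf.stalkSpecializes h (germM F W x hxW s) = germM F W y (h.mem_open W.2 hxW) s from
    TopCat.Presheaf.germ_stalkSpecializes_apply _ hxW h _]
  exact tmLin_germ e _ hW _ s

lemma twMap_tmLin (g : F ⟶ F') (d : F.presheaf.stalk x) :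
    stalkMapM (twMap g L) x (tmLin e hx d) = tmLin e hx (stalkMapM g x d) := by
  obtain ⟨W, hW, hxW, s, rfl⟩ := exists_germ_le hx d
  rw [tmLin_germ e hx hW, QC70.stalkMapM_germ, QC70.stalkMapM_germ, tmLin_germ e hx hW, twMap_tm]

lemma tmLin_eq_smul {V : X.Opens} (e' : Γ(L, V)) (hx' : x ∈ V) (a : X.presheaf.stalk x)
    (ha : germM L V x hx' e' = a • germM L U x hx e) (d : F.presheaf.stalk x) :
    tmLin e' hx' d = a • tmLin e hx d := by
  obtain ⟨W₀, hxW₀, c, rfl⟩ := X.presheaf.exists_germ_eq a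
  have hx3 : x ∈ V ⊓ (U ⊓ W₀) := ⟨hx', hx, hxW₀⟩
  rw [← QC70.germM_res (inf_le_left : V ⊓ (U ⊓ W₀) ≤ V) hx3 e',
    ← QC70.germM_res (inf_le_right.trans inf_le_left : V ⊓ (U ⊓ W₀) ≤ U) hx3 e,
    ← QC70.germ_resO (inf_le_right.trans inf_le_right : V ⊓ (U ⊓ W₀) ≤ W₀) hx3 c,
    ← QC70.germM_smul] at ha
  obtain ⟨T, hT, i₁, i₂, heq⟩ := TopCat.Presheaf.germ_eq L.presheaf x hx3 hx3 _ _ ha
  obtain ⟨W, hW, hxW, s, rfl⟩ := exists_germ_le (U := T) hT d
  have hTV : T ≤ V := i₁.le.trans inf_le_left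
  have hTU : T ≤ U := i₁.le.trans (inf_le_right.trans inf_le_left)
  have hTW : T ≤ W₀ := i₁.le.trans (inf_le_right.trans inf_le_right)
  rw [tmLin_germ e' hx' (hW.trans hTV), tmLin_germ e hx (hW.trans hTU),
    ← QC70.germ_resO (hW.trans hTW) hxW c, ← QC70.germM_smul, ← Amp73.tm_smul_right]
  congr 2
  have h2 : Var76.LineBundle.res L hTV e' = QC70.resO X hTW c • Var76.LineBundle.res L hTU e := by
    have := heq
    change QC70.res L i₁.le (QC70.res L _ e') = QC70.res L i₂.le (_ • QC70.res L _ e) at this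
    rw [QC70.res_res, QC70.res_smul, QC70.res_res, QC70.resO_resO] at this
    exact this
  have h3 := congrArg (QC70.res L hW) h2
  change QC70.res L hW (QC70.res L hTV e') = QC70.res L hW (_ • QC70.res L hTU e) at h3
  rw [QC70.res_res, QC70.res_smul, QC70.res_res, QC70.resO_resO] at h3
  exact h3

omit e hx in
lemma nonempty_stalk_equiv (hL : PicF.IsInvertible L) (F : X.Modules) (x : X) :
    Nonempty (F.presheaf.stalk x ≃ₗ[X.presheaf.stalk x] (CohB1.tensorMod F L).presheaf.stalk x) := by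
  obtain ⟨U, hx, e, he⟩ := Mero90.exists_frame' hL x
  exact ⟨LinearEquiv.ofBijective (tmLin e hx) (bijective_tmLin e hx he)⟩

omit e hx in
lemma isCoh_twist {F : X.Modules} (hF : Coh.IsCoh F) (hLc : Coh.IsCoh L) :
    Coh.IsCoh (CohB1.tensorMod F L) := by
  obtain ⟨_, _⟩ := hF
  obtain ⟨_, _⟩ := hLc
  exact ⟨QCTens72.isQuasicoherent_tensorMod _ _, QCTens72.isFiniteType_tensorMod _ _⟩

end Groth.Agent.Cyc90.Dev
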