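import Groth.Agent.Cyc90.Dev.VBSurj

/-! Decomposition by rank. -/

set_option autoImplicit false
set_option backward.isDefEq.respectTransparency.types false
set_option synthInstance.maxHeartbeats 200000
set_option linter.style.haveILetI false
universe u

open CategoryTheory CategoryTheory.Limits AlgebraicGeometry TopologicalSpace Opposite

noncomputable section

namespace Groth.Agent.Cyc90.Dev

open QC70 Props58.LocFree

variable {X : Scheme.{u}}

/-- Where a module is free of rank `m`. -/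
def rankOpen (F : X.Modules) (m : ℕ) : X.Opens :=
  ⟨{x | ∃ (U : X.Opens) (s : Fin m → Γ(F, U)), x ∈ U ∧ StalkBasis s},
    isOpen_iff_forall_mem_open.2 fun _ ⟨U, s, hx, hs⟩ => ⟨U, fun _ hy => ⟨U, s, hy, hs⟩, U.2, hx⟩⟩

lemma rankOpen_unique {F : X.Modules} {m m' : ℕ} {x : X} (h : x ∈ rankOpen F m) (h' : x ∈ rankOpen F m') :
    m = m' := by
  obtain ⟨U, s, hx, hs⟩ := h
  obtain ⟨U', s', hx', hs'⟩ := h'
  simpa using Fintype.card_congr ((germBasis hs hx).indexEquiv (germBasis hs' hx'))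

lemma exists_mem_rankOpen {F : X.Modules} (hF : FlatMod.IsFinLocFree F) (x : X) : ∃ m, x ∈ rankOpen F m := by
  obtain ⟨U, n, s, hx, hs⟩ := isFinLocFree_iff.mp hF x
  exact ⟨n, U, s, hx, hs⟩

lemma isClosed_rankOpen {F : X.Modules} (hF : FlatMod.IsFinLocFree F) (m : ℕ) :
    IsClosed (rankOpen F m : Set X) := by
  rw [← isOpen_compl_iff, isOpen_iff_forall_mem_open]
  intro x hx
  obtain ⟨m', hm'⟩ := exists_mem_rankOpen hF x
  exact ⟨rankOpen F m', fun y hy hy' => hx (rankOpen_unique hy hy' ▸ hm'), (rankOpen F m').2, hm'⟩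

lemma isFinLocFreeOfRank_rankOpen (F : X.Modules) (m : ℕ) :
    FlatMod.IsFinLocFreeOfRank m ((Scheme.Modules.pullback (rankOpen F m).ι).obj F) := fun x => by
  obtain ⟨U, s, hx, hs⟩ := x.2
  exact ⟨(rankOpen F m).ι ⁻¹ᵁ U, hx, nonempty_iso_of_stalkBasis (Pinch99.stalkBasis_pullS _ hs)⟩

lemma finsum_eq_comp {ι κ : Type*} {M : Type*} [AddCommMonoid M] (e : ι → κ) (he : Function.Injective e)
    (g : κ → M) (hg : ∀ j, g j ≠ 0 → j ∈ Set.range e) : ∑ᶠ j, g j = ∑ᶠ i, g (e i) := by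
  rw [← finsum_mem_range he, ← finsum_mem_univ g]
  exact finsum_mem_inter_support_eq' g _ _ fun j hj => iff_of_true trivial (hg j hj)

/-- Rational equivalence to zero may be checked on an open partition. -/
theorem ratEquivZero_of_partition {δ : X → ℤ} {k : ℤ} (α : AlgebraicCycle X ℤ) (W : ℕ → X.Opens)
    (hcl : ∀ m, IsClosed (W m : Set X)) (hcov : ∀ x, ∃ m, x ∈ W m)
    (huniq : ∀ m m' x, x ∈ W m → x ∈ W m' → m = m')
    (h : ∀ m, ∃ ρ : AlgebraicCycle X ℤ, Cyc.RatEquivZero δ k ρ ∧ ∀ x ∈ W m, α x = ρ x) :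
    Cyc.RatEquivZero δ k α := by
  choose ρ hρ hαρ using h
  choose ι ξ f hd hf hlf hsum using hρ
  let K := Σ m : ℕ, {i : ι m // ξ m i ∈ W m}
  refine ⟨K, fun p => ξ p.1 p.2.1, fun p => f p.1 p.2.1, fun p => hd _ _, fun p => hf _ _, fun x => ?_, fun x => ?_⟩
  · obtain ⟨m, hm⟩ := hcov x
    obtain ⟨U, hU, hxU, hfin⟩ := hlf m x
    refine ⟨U ∩ W m, hU.inter (W m).2, ⟨hxU, hm⟩, ?_⟩
    refine Set.Finite.subset ((hfin.preimage Subtype.val_injective.injOn).image (Sigma.mk m)) ?_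
    rintro ⟨m', i, hi⟩ ⟨y, hy, hyU, hyW⟩
    obtain rfl : m' = m := huniq m' m y ((hcl m').closure_subset_iff.2 (Set.singleton_subset_iff.2 hi) hy) hyW
    exact ⟨⟨i, hi⟩, ⟨y, hy, hyU⟩, rfl⟩
  · obtain ⟨m, hm⟩ := hcov x
    rw [hαρ m x hm, hsum, finsum_eq_comp (Subtype.val : {i : ι m // ξ m i ∈ W m} → ι m) Subtype.val_injective _
      (fun i hi => ?_), finsum_eq_comp (Sigma.mk m) sigma_mk_injective
        (fun p : K => Cyc.divFun δ (ξ p.1 p.2.1) (f p.1 p.2.1) x) (fun p hp => ?_)]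
    · obtain ⟨m', i, hi⟩ := p
      simp only [Cyc.divFun] at hp
      split_ifs at hp with hh
      · obtain rfl : m' = m :=
          huniq m' m x ((hcl m').closure_subset_iff.2 (Set.singleton_subset_iff.2 hi) hh.1.mem_closure) hm
        exact ⟨⟨i, hi⟩, rfl⟩
      · exact (hp rfl).elim
    · simp only [Cyc.divFun] at hi
      split_ifs at hi with hh
      · exact ⟨⟨i, hh.1.mem_open (W m).2 hm⟩, rfl⟩
      · exact (hi rfl).elim

/-- Pushforward into a vector bundle from the sub-bundle with trivial kernel kills classes. -/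
theorem ratEquivZero_map_trivialKernel' {δ : X → ℤ} (hX : Cyc.IsSetup X δ) {Λ M M' : X.Modules} {a : Λ ⟶ M}
    {b : M ⟶ M'} {w : a ≫ b = 0} (hs : (ShortComplex.mk a b w).ShortExact) (eΛ : Λ ≅ Coh.structureModule X)
    (hM : FlatMod.IsFinLocFree M) (hM' : FlatMod.IsFinLocFree M') {A A' : RelSpec.QCAlg X}
    {jA : M ⟶ A.toModule} {jA' : M' ⟶ A'.toModule} (hA : RelSpec.IsSymAlg M A jA)
    (hA' : RelSpec.IsSymAlg M' A' jA') {ψ : A ⟶ A'} (hψ : jA ≫ RelSpec.QCAlg.Hom.toModuleMap ψ = b ≫ jA')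
    [QuasiCompact (RelSpec.QCAlg.specMap ψ)] {δV : A.spec → ℤ} (hV : Cyc.IsSetup A.spec δV)
    (hπ : Cyc.DeltaCompat A.π δV δ) {δV' : A'.spec → ℤ} (hV' : Cyc.IsSetup A'.spec δV')
    (hπ' : Cyc.DeltaCompat A'.π δV' δ) {k : ℤ} (α : AlgebraicCycle A'.spec ℤ) (hα : α ∈ Cyc.Zk A'.spec δV' k) :
    Cyc.RatEquivZero δV k (AlgebraicCycle.map (RelSpec.QCAlg.specMap ψ) δV' δV α) := by
  haveI := hX.1
  haveI : Epi b := hs.epi_g
  let i := RelSpec.QCAlg.specMap ψ
  haveI : IsClosedImmersion i := EGAProj74.isClosedImmersion_specMap_of_epi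
    (isQuasicoherent_of_isFinLocFree hM) (isQuasicoherent_of_isFinLocFree hM') b hA' ψ hψ
  have hi : Cyc.DeltaCompat i δV' δV := deltaCompat_of_comp _ A.π (by rw [RelSpec.QCAlg.specMap_π]; exact hπ') hπ
  refine ratEquivZero_of_partition _ (fun m => A.π ⁻¹ᵁ rankOpen M' m)
    (fun m => (isClosed_rankOpen hM' m).preimage A.π.continuous) (fun x => exists_mem_rankOpen hM' (A.π x))
    (fun m m' x h h' => rankOpen_unique h h') fun m => ?_
  let f := (rankOpen M' m).ι
  haveI : IsClosedImmersion f := IsClosedImmersion.of_isPreimmersion f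
    (by rw [Scheme.Opens.range_ι]; exact isClosed_rankOpen hM' m)
  have hU : Cyc.IsSetup (rankOpen M' m : Scheme.{u}) (fun z => δ (f z)) := isSetup_closedImmersion f hX
  have hfd := deltaCompat_preimmersion f δ
  have hT := isFinLocFreeOfRank_rankOpen M' m
  have hsT := KRR40.shortExact_pullback f hs hM'
  let eT : (Scheme.Modules.pullback f).obj Λ ≅ Coh.structureModule _ :=
    (Scheme.Modules.pullback f).mapIso eΛ ≪≫ PicLoc.pullbackStructureIso f
  have hMT : FlatMod.IsFinLocFreeOfRank (m + 1) ((Scheme.Modules.pullback f).obj M) :=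
    isFinLocFreeOfRank_extension_sub hsT (isInvertible_of_rank_one fun x => by
      obtain ⟨U, hx, ⟨u⟩⟩ := Mero90.isFinLocFreeOfRank_of_isInvertible
        (EGA73.isInvertible_structureModule (X := (rankOpen M' m : Scheme.{u}))) x
      exact ⟨U, hx, ⟨(Scheme.Modules.restrictFunctor U.ι).mapIso eT ≪≫ u⟩⟩) hT
  obtain ⟨B, jB, hB, -⟩ := EGAProj74.exists_isSymAlg (isQuasicoherent_of_isFinLocFree (isFinLocFree_of_rank hMT))
  obtain ⟨B', jB', hB', -⟩ := EGAProj74.exists_isSymAlg (isQuasicoherent_of_isFinLocFree (isFinLocFree_of_rank hT))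
  obtain ⟨φ, hφ, -⟩ := hB B' ((Scheme.Modules.pullback f).map b ≫ jB')
  obtain ⟨h, hh, hsq⟩ := exists_vb_baseChange (f := f) hA hB
  obtain ⟨h', hh', hsq'⟩ := exists_vb_baseChange (f := f) hA' hB'
  haveI : IsClosedImmersion h := MorphismProperty.of_isPullback hsq.flip inferInstance
  haveI : IsClosedImmersion h' := MorphismProperty.of_isPullback hsq'.flip inferInstance
  let j := RelSpec.QCAlg.specMap φ
  haveI : Epi ((Scheme.Modules.pullback f).map b) := hsT.epi_g
  haveI : IsClosedImmersion j := EGAProj74.isClosedImmersion_specMap_of_epi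
    (isQuasicoherent_of_isFinLocFree (isFinLocFree_of_rank hMT))
    (isQuasicoherent_of_isFinLocFree (isFinLocFree_of_rank hT)) _ hB' φ hφ
  have hcomm : j ≫ h = h' ≫ i := vbMap_specMap hA hψ hφ hh hh'
  have hBd : Cyc.DeltaCompat B.π (fun z => δV (h z)) fun z => δ (f z) :=
    deltaCompat_of_comp B.π f (hsq.w ▸ IntMult12.deltaCompat_trans (deltaCompat_preimmersion h δV) hπ) hfd
  have hBd' : Cyc.DeltaCompat B'.π (fun z => δV' (h' z)) fun z => δ (f z) :=
    deltaCompat_of_comp B'.π f (hsq'.w ▸ IntMult12.deltaCompat_trans (deltaCompat_preimmersion h' δV') hπ') hfd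
  have hjd : Cyc.DeltaCompat j (fun z => δV' (h' z)) fun z => δV (h z) :=
    deltaCompat_of_comp j B.π (by rw [RelSpec.QCAlg.specMap_π]; exact hBd') hBd
  let αm := restrictClosed h' α
  have hαm : αm ∈ zkSub (fun z => δV' (h' z)) k := fun z hz => by rw [restrictClosed_apply]; exact hα _ hz
  have hrat := ratEquivZero_map_trivialKernel hU hsT eT hT hB hB' hφ (isSetup_closedImmersion h hV) hBd
    (isSetup_closedImmersion h' hV') hBd' hjd hαm
  refine ⟨mapHom h (fun z => δV (h z)) δV (mapHom j (fun z => δV' (h' z)) (fun z => δV (h z)) αm),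
    mapHom_rat h (isSetup_closedImmersion h hV) hV (deltaCompat_preimmersion h δV) hrat, fun x hx => ?_⟩
  have e : mapHom h (fun z => δV (h z)) δV (mapHom j (fun z => δV' (h' z)) (fun z => δV (h z)) αm) =
      mapHom i δV' δV (mapHom h' (fun z => δV' (h' z)) δV' αm) := by
    show AlgebraicCycle.map h _ _ (AlgebraicCycle.map j _ _ αm) =
      AlgebraicCycle.map i _ _ (AlgebraicCycle.map h' _ _ αm)
    rw [Div89.map_map j h hjd (deltaCompat_preimmersion h δV), Div89.map_map h' i (deltaCompat_preimmersion h' δV') hi]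
    simp only [hcomm]
  rw [e, mapHom_apply, map_apply_eq, map_apply_eq]
  refine finsum_mem_congr rfl fun z hz => ?_
  have hz' : z ∈ Set.range h' := by
    have hmem : A'.π z ∈ Set.range f := by
      rw [Scheme.Opens.range_ι, ← RelSpec.QCAlg.specMap_π ψ, Scheme.Hom.comp_apply]
      rw [Set.mem_preimage, Set.mem_singleton_iff] at hz
      rw [show i z = x from hz]
      exact hx
    obtain ⟨t, ht⟩ := hmem
    obtain ⟨y, hy, -⟩ := Scheme.exists_preimage_of_isPullback hsq' z t ht.symm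
    exact ⟨y, hy⟩
  obtain ⟨y, rfl⟩ := hz'
  rw [mapHom_apply, map_closedImmersion_image, restrictClosed_apply]

end Groth.Agent.Cyc90.Dev
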