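import Groth.Agent.Cyc90.Dev.VBTop
import Groth.Agent.Cyc90.AffBundlePoly

/-! Classes on vector bundles come from the base; the trivial quotient. -/

set_option autoImplicit false
set_option backward.isDefEq.respectTransparency.types false
set_option synthInstance.maxHeartbeats 200000
set_option linter.style.haveILetI false
universe u

open CategoryTheory CategoryTheory.Limits AlgebraicGeometry TopologicalSpace Opposite

noncomputable section

namespace Groth.Agent.Cyc90.Dev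

open QC70 Props58.LocFree

variable {X : Scheme.{u}} {δ : X → ℤ}

/-- A vector bundle has affine fibres. -/
theorem isAffFibre_vb {E : X.Modules} {n : ℕ} (hE : FlatMod.IsFinLocFreeOfRank n E) {A : RelSpec.QCAlg X}
    {j : E ⟶ A.toModule} (hA : RelSpec.IsSymAlg E A j) (hX : Cyc.IsSetup X δ) {δV : A.spec → ℤ}
    (hV : Cyc.IsSetup A.spec δV) (hπ : Cyc.DeltaCompat A.π δV δ) (η : X) : IsAffFibre A.π δV δ n η := by
  obtain ⟨U, hU, s, hη, hs⟩ := exists_affine_stalkBasis hE η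
  obtain ⟨e, hC, -⟩ := exists_chart (isQuasicoherent_of_isFinLocFree (isFinLocFree_of_rank hE)) hA hU hs
  have hW : IsAffineOpen (A.π ⁻¹ᵁ U) := hU.preimage A.π
  have hsq : hW.fromSpec ≫ A.π = Spec.map (A.π.app U) ≫ hU.fromSpec := by
    rw [Scheme.Hom.app_eq_appLE]
    exact (hU.SpecMap_appLE_fromSpec A.π hW le_rfl).symm
  obtain ⟨η', rfl⟩ : η ∈ Set.range hU.fromSpec := by rw [hU.range_fromSpec]; exact hη
  have hd₁ := deltaCompat_preimmersion hW.fromSpec δV
  have hd₂ := deltaCompat_preimmersion hU.fromSpec δ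
  have hV' := isSetup_of_lft hW.fromSpec δV hV _ hd₁
  have hX' := isSetup_of_lft hU.fromSpec δ hX _ hd₂
  refine isAffFibre_of_square A.π (Spec.map (A.π.app U)) hW.fromSpec hU.fromSpec hsq ?_ hV η' ?_
  · rw [hU.range_fromSpec, hW.range_fromSpec]
    exact le_rfl
  · refine isAffFibre_poly n Γ(X, U) Γ(A.spec, A.π ⁻¹ᵁ U) (A.π.app U).hom e.symm (fun a => ?_) _ _ hV' hX'
      (deltaCompat_of_comp (Spec.map (A.π.app U)) hU.fromSpec (hsq ▸ IntMult12.deltaCompat_trans hd₁ hπ) hd₂) η'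
    rw [← hC, RingEquiv.symm_apply_apply]

/-- The sub-bundle with trivial line bundle as kernel: pushforward to the bundle kills classes. -/
theorem ratEquivZero_map_trivialKernel (hX : Cyc.IsSetup X δ) {Λ M M' : X.Modules} {a : Λ ⟶ M} {b : M ⟶ M'}
    {w : a ≫ b = 0} (hs : (ShortComplex.mk a b w).ShortExact) (eΛ : Λ ≅ Coh.structureModule X) {n : ℕ}
    (hM' : FlatMod.IsFinLocFreeOfRank n M') {A A' : RelSpec.QCAlg X} {jA : M ⟶ A.toModule}
    {jA' : M' ⟶ A'.toModule} (hA : RelSpec.IsSymAlg M A jA) (hA' : RelSpec.IsSymAlg M' A' jA') {ψ : A ⟶ A'}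
    (hψ : jA ≫ RelSpec.QCAlg.Hom.toModuleMap ψ = b ≫ jA') [IsProper (RelSpec.QCAlg.specMap ψ)]
    {δV : A.spec → ℤ} (hV : Cyc.IsSetup A.spec δV) (hπ : Cyc.DeltaCompat A.π δV δ) {δV' : A'.spec → ℤ}
    (hV' : Cyc.IsSetup A'.spec δV') (hπ' : Cyc.DeltaCompat A'.π δV' δ)
    (hi : Cyc.DeltaCompat (RelSpec.QCAlg.specMap ψ) δV' δV) {k : ℤ} {α : AlgebraicCycle A'.spec ℤ}
    (hα : α ∈ zkSub δV' k) :
    Cyc.RatEquivZero δV k (mapHom (RelSpec.QCAlg.specMap ψ) δV' δV α) := by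
  have hΛ : PicF.IsInvertible Λ := isInvertible_of_rank_one fun x => by
    obtain ⟨U, hx, ⟨u⟩⟩ := Mero90.isFinLocFreeOfRank_of_isInvertible (EGA73.isInvertible_structureModule (X := X)) x
    exact ⟨U, hx, ⟨(Scheme.Modules.restrictFunctor U.ι).mapIso eΛ ≪≫ u⟩⟩
  have := smoothOfRelativeDimension_vb hM' hA'
  haveI := SmoothOfRelativeDimension.smooth n A'.π
  have hM := isFinLocFreeOfRank_extension_sub hs hΛ hM'
  have := smoothOfRelativeDimension_vb hM hA
  haveI := SmoothOfRelativeDimension.smooth (n + 1) A.π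
  have hc : ShiftAt A.π δV δ ((n + 1 : ℕ) : ℤ) := shiftAt_of_hasRelDim A.π (hasRelDim_vb hM hA) hπ
  have hc' : ShiftAt A'.π δV' δ (n : ℤ) := shiftAt_of_hasRelDim A'.π (hasRelDim_vb hM' hA') hπ'
  obtain ⟨β, β', hβ, hβ', hrat⟩ := exists_pullFun_ratEquiv hV' hX hπ' (isAffFibre_vb hM' hA' hX hV' hπ')
    (k - n) α (by rw [sub_add_cancel]; exact hα)
  have e : β' = pullHom A'.π hV' hc' β := DFunLike.coe_injective hβ'
  rw [sub_add_cancel] at hrat
  have hβ'' : pullHom A'.π hV' hc' β ∈ zkSub δV' k := by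
    have := pullHom_mem A'.π hV' hc' (show β ∈ zkSub δ (k - n) from hβ)
    rwa [sub_add_cancel] at this
  refine (clk_eq_zero_iff hV (mapHom_mem _ hα)).1 ?_
  rw [← mapAll_clk _ hV' hV hi hα, (clk_eq_iff hV' hα hβ'').2 (e ▸ hrat)]
  have h := mapAll_pullAll_corankOne hs hΛ hM' hA hA' hψ hX hV hπ hV' hπ' hi hc hc' (clk hX (k - n) β)
  rw [pullAll_clk A'.π hV' hX hc' hβ, sub_add_cancel] at h
  rw [h, lc1_iso hX hΛ EGA73.isInvertible_structureModule eΛ, lc1_structureModule, neg_zero, map_zero]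
  exact map_zero _

end Groth.Agent.Cyc90.Dev
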