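import Groth.Agent.S0611
import Mathlib.RingTheory.Regular.Flat
import Groth.Agent.EGA4Alg4.FlatReg

/-! Cutting a regular ideal by one minimal generator. -/

set_option autoImplicit false
set_option backward.isDefEq.respectTransparency.types false
universe u

open RingTheory.Sequence IsLocalRing
open scoped Pointwise

noncomputable section

namespace Groth.Agent.Cyc90.Dev

variable {A B : Type u} [CommRing A] [CommRing B] [IsLocalRing B] [IsNoetherianRing B]

lemma span_range_update {n : ℕ} (g : Fin (n + 1) → B) (u : Fin (n + 1) → B) {j : Fin (n + 1)}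
    (hu : IsUnit (u j)) :
    Ideal.span (Set.range (Fin.cons (∑ i, g i * u i) (g ∘ j.succAbove) : Fin (n + 1) → B)) =
      Ideal.span (Set.range g) := by
  refine le_antisymm (Ideal.span_le.2 ?_) (Ideal.span_le.2 ?_)
  · rintro _ ⟨i, rfl⟩
    induction i using Fin.cases with
    | zero =>
      simp only [Fin.cons_zero]
      exact sum_mem fun i _ => Ideal.mul_mem_right _ _ (Ideal.subset_span ⟨i, rfl⟩)
    | succ i => exact Ideal.subset_span ⟨j.succAbove i, by simp⟩
  · rintro _ ⟨i, rfl⟩
    have hs : ∀ i, g (j.succAbove i) ∈ Ideal.span (Set.range (Fin.cons (∑ i, g i * u i) (g ∘ j.succAbove) :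
        Fin (n + 1) → B)) := fun i => Ideal.subset_span ⟨i.succ, by simp⟩
    rcases Fin.eq_self_or_eq_succAbove j i with rfl | ⟨i, rfl⟩
    · refine (Ideal.mul_unit_mem_iff_mem _ hu).1 ?_
      have h0 : (∑ k, g k * u k) ∈ Ideal.span (Set.range (Fin.cons (∑ k, g k * u k) (g ∘ i.succAbove) :
          Fin (n + 1) → B)) := Ideal.subset_span ⟨0, by simp⟩
      rw [show g i * u i = (∑ k, g k * u k) - ∑ k, g (i.succAbove k) * u (i.succAbove k) by
        rw [Fin.sum_univ_succAbove _ i, add_sub_cancel_right]]
      exact sub_mem h0 (sum_mem fun k _ => Ideal.mul_mem_right _ _ (hs k))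
    · exact hs i

/-- Flat image of a regular ideal, cut by a minimal generator. -/
theorem exists_regular_cut [IsLocalRing A] [IsNoetherianRing A] [Algebra A B] [Module.Flat A B]
    [IsLocalHom (algebraMap A B)] {n : ℕ} (f : Fin (n + 1) → A) (hf : IsRegular A (List.ofFn f))
    (g : Fin (n + 1) → A) (hg : Ideal.span (Set.range f) = Ideal.span (Set.range g))
    (u : Fin (n + 1) → B) {j : Fin (n + 1)} (hu : IsUnit (u j)) :
    IsSMulRegular B (∑ i, algebraMap A B (g i) * u i) ∧
      ∀ {C : Type u} [CommRing C] (π : B →+* C), Function.Surjective π →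
        RingHom.ker π = Ideal.span {∑ i, algebraMap A B (g i) * u i} →
        ∃ h : Fin n → C, IsRegular C (List.ofFn h) ∧
          Ideal.span (Set.range h) = ((Ideal.span (Set.range g)).map (algebraMap A B)).map π := by
  set s := ∑ i, algebraMap A B (g i) * u i with hs
  have hgr : IsRegular A (List.ofFn g) := S0611.result f g hf hg
  have hne : Ideal.span (Set.range g) ≤ maximalIdeal A := by
    refine IsLocalRing.le_maximalIdeal fun h => ?_
    have h2 := hgr.top_ne_smul
    rw [show Ideal.ofList (List.ofFn g) = Ideal.span (Set.range g) from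
      congrArg Ideal.span (Set.ext fun z => List.mem_ofFn), h] at h2
    exact h2 (by simp)
  have hB : IsRegular B (List.ofFn (algebraMap A B ∘ g)) := by
    refine ⟨?_, ?_⟩
    · rw [← List.map_ofFn]
      exact hgr.toIsWeaklyRegular.of_flat
    · rw [show Ideal.ofList (List.ofFn (algebraMap A B ∘ g)) = Ideal.span (Set.range (algebraMap A B ∘ g)) from
        congrArg Ideal.span (Set.ext fun z => List.mem_ofFn)]
      intro h
      have h1 : Ideal.span (Set.range (algebraMap A B ∘ g)) ≤ maximalIdeal B := Ideal.span_le.2 (by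
        rintro _ ⟨i, rfl⟩
        exact map_nonunit (algebraMap A B) _ (hne (Ideal.subset_span ⟨i, rfl⟩)))
      rw [smul_eq_mul, Ideal.mul_top] at h
      exact (maximalIdeal.isMaximal B).ne_top (top_le_iff.1 (h.le.trans h1))
  have hspan := span_range_update (algebraMap A B ∘ g) u hu
  have hB' := S0611.result (algebraMap A B ∘ g) _ hB hspan.symm
  rw [List.ofFn_succ, Fin.cons_zero] at hB'
  simp only [Fin.cons_succ, Function.comp_apply, ← hs] at hB'
  obtain ⟨h1, h2⟩ := (isRegular_cons_iff _ _ _).1 hB'
  refine ⟨h1, fun {C} _ π hπ hker => ⟨fun i => π (algebraMap A B (g (j.succAbove i))), ?_, ?_⟩⟩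
  · letI := π.toAlgebra
    have e : (s • ⊤ : Submodule B B) = LinearMap.ker (Algebra.linearMap B C) := by
      rw [← Submodule.ideal_span_singleton_smul, smul_eq_mul, Ideal.mul_top, ← hker]
      rfl
    let eq : QuotSMulTop s B ≃ₗ[B] C :=
      (Submodule.quotEquivOfEq _ _ e).trans ((Algebra.linearMap B C).quotKerEquivOfSurjective hπ)
    have h3 := (eq.isWeaklyRegular_congr _).1 h2.toIsWeaklyRegular
    refine ⟨?_, ?_⟩
    · rw [show (List.ofFn fun i => π (algebraMap A B (g (j.succAbove i)))) =
        (List.ofFn fun i => algebraMap A B (g (j.succAbove i))).map (algebraMap B C) by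
          rw [List.map_ofFn]; rfl]
      exact (isWeaklyRegular_map_algebraMap_iff C C _).2 h3
    · have hIm : Ideal.span (Set.range (algebraMap A B ∘ g)) ≤ maximalIdeal B := Ideal.span_le.2 (by
        rintro _ ⟨i, rfl⟩
        exact map_nonunit (algebraMap A B) _ (hne (Ideal.subset_span ⟨i, rfl⟩)))
      have hsm : s ∈ Ideal.span (Set.range (algebraMap A B ∘ g)) :=
        sum_mem fun i _ => Ideal.mul_mem_right _ _ (Ideal.subset_span ⟨i, rfl⟩)
      rw [smul_eq_mul, Ideal.mul_top]
      intro h
      have h4 : (⊤ : Ideal C) ≤ (Ideal.span (Set.range (algebraMap A B ∘ g))).map π := by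
        rw [h, Ideal.map_span, ← Set.range_comp]
        refine Ideal.span_le.2 fun z hz => ?_
        obtain ⟨i, rfl⟩ := List.mem_ofFn.1 hz
        exact Ideal.subset_span ⟨j.succAbove i, rfl⟩
      have h5 := congrArg (Ideal.comap π) (top_le_iff.1 h4)
      rw [Ideal.comap_top, Ideal.comap_map_of_surjective π hπ, ← RingHom.ker_eq_comap_bot, hker] at h5
      refine (maximalIdeal.isMaximal B).ne_top (top_le_iff.1 (h5.ge.trans (sup_le hIm ?_)))
      exact (Ideal.span_singleton_le_iff_mem _).2 (hIm hsm)
  · rw [Ideal.map_span, Ideal.map_span, ← Set.range_comp, ← Set.range_comp]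
    refine le_antisymm (Ideal.span_mono ?_) (Ideal.span_le.2 ?_)
    · rintro _ ⟨i, rfl⟩
      exact ⟨j.succAbove i, rfl⟩
    · rintro _ ⟨i, rfl⟩
      have hi : algebraMap A B (g i) ∈ Ideal.span (Set.range (Fin.cons s ((algebraMap A B ∘ g) ∘ j.succAbove) :
          Fin (n + 1) → B)) := by
        rw [show s = ∑ k, (algebraMap A B ∘ g) k * u k from rfl, hspan]
        exact Ideal.subset_span ⟨i, rfl⟩
      have hm := Ideal.mem_map_of_mem π hi
      rw [Ideal.map_span, ← Set.range_comp] at hm
      refine Ideal.span_le.2 ?_ hm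
      rintro _ ⟨k, rfl⟩
      induction k using Fin.cases with
      | zero =>
        have : π s = 0 := (hker.ge (Ideal.mem_span_singleton_self s) :)
        simp [this]
      | succ k => exact Ideal.subset_span ⟨k, by simp⟩

end Groth.Agent.Cyc90.Dev
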