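import Groth.Agent.Cyc90.Dev.FiltBasis
import Groth.Agent.Cyc90.Dev.BundleUniv
import Groth.Agent.Pinch99.Faithful

/-! The ideal of coordinates of a section of a bundle. -/

set_option autoImplicit false
set_option backward.isDefEq.respectTransparency.types false
set_option synthInstance.maxHeartbeats 200000
universe u

open CategoryTheory CategoryTheory.Limits AlgebraicGeometry TopologicalSpace Opposite

noncomputable section

namespace Groth.Agent.Cyc90.Dev

open QC70 Props58.LocFree

section Algebra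

variable {R : Type u} [CommRing R] {M : Type u} [AddCommGroup M] [Module R M]

/-- The ideal of values of linear forms at `v`. -/
def coordIdeal (R : Type u) [CommRing R] {M : Type u} [AddCommGroup M] [Module R M] (v : M) : Ideal R :=
  LinearMap.range (Module.Dual.eval R M v)

lemma coordIdeal_eq_span {ι : Type*} [Fintype ι] (b : Module.Basis ι R M) (v : M) :
    coordIdeal R v = Ideal.span (Set.range fun i => b.repr v i) := by
  classical
  refine le_antisymm ?_ (Ideal.span_le.2 ?_)
  · rintro _ ⟨φ, rfl⟩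
    show φ v ∈ _
    have e : φ v = ∑ i, b.repr v i * φ (b i) := by
      conv_lhs => rw [← b.sum_repr v]
      simp only [map_sum, map_smul, smul_eq_mul]
    rw [e]
    refine sum_mem fun i _ => ?_
    exact Ideal.mul_mem_right _ _ (Ideal.subset_span ⟨i, rfl⟩)
  · rintro _ ⟨i, rfl⟩
    exact ⟨b.coord i, rfl⟩

lemma mem_smul_top_iff_coordIdeal_le {ι : Type*} [Fintype ι] (b : Module.Basis ι R M) (v : M) (I : Ideal R) :
    v ∈ I • (⊤ : Submodule R M) ↔ coordIdeal R v ≤ I := by
  constructor
  · intro hv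
    rintro _ ⟨φ, rfl⟩
    show φ v ∈ I
    refine Submodule.smul_induction_on hv (fun r hr m _ => ?_) fun x y hx hy => ?_
    · rw [map_smul, smul_eq_mul]; exact Ideal.mul_mem_right _ _ hr
    · rw [map_add]; exact add_mem hx hy
  · intro h
    rw [← b.sum_repr v]
    exact sum_mem fun i _ => Submodule.smul_mem_smul
      (h (by rw [coordIdeal_eq_span b v]; exact Ideal.subset_span ⟨i, rfl⟩)) trivial

end Algebra

variable {X : Scheme.{u}} {E : X.Modules} {U : X.Opens} {n : ℕ} {e : Fin n → Γ(E, U)}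

/-- The basis of a stalk given by a stalk basis. -/
def germBasis (he : StalkBasis e) {y : X} (hy : y ∈ U) :
    Module.Basis (Fin n) (X.presheaf.stalk y) (E.presheaf.stalk y) :=
  Module.Basis.ofEquivFun (he.stalkEquiv y hy).symm

lemma germBasis_repr (he : StalkBasis e) {y : X} (hy : y ∈ U) {z : E.presheaf.stalk y}
    {c : Fin n → X.presheaf.stalk y} (hc : germComb e y hy c = z) (i : Fin n) :
    (germBasis he hy).repr z i = c i := by
  have h1 : he.stalkEquiv y hy c = z := by
    rw [← hc]
    exact Fintype.linearCombination_apply ..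
  have h2 := congrFun ((germBasis he hy).equivFun_apply z) i
  rw [germBasis, Module.Basis.equivFun_ofEquivFun] at h2
  rw [← h1, LinearEquiv.symm_apply_apply] at h2
  rw [← h1]
  exact h2.symm

/-- The coordinate ideal at a point, in a basis. -/
lemma coordIdeal_germ {s : Γ(E, ⊤)} (he : StalkBasis e) {a : Fin n → Γ(X, U)}
    (ha : ∑ i, a i • e i = res E le_top s) {y : X} (hy : y ∈ U) :
    coordIdeal (X.presheaf.stalk y) (E.presheaf.germ ⊤ y trivial s) =
      Ideal.span (Set.range fun i => X.presheaf.germ U y hy (a i)) := by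
  rw [coordIdeal_eq_span (germBasis he hy)]
  refine congrArg (fun f => Ideal.span (Set.range f)) (funext fun i => germBasis_repr he hy (c := fun i => X.presheaf.germ U y hy (a i)) ?_ i)
  refine Eq.trans ?_ (germM_res (le_top : U ≤ ⊤) hy s)
  rw [← ha, germM_sum]
  simp only [germComb, germM_smul]

/-- Around every point, coordinates of a section. -/
lemma exists_coords (hE : FlatMod.IsFinLocFreeOfRank n E) (s : Γ(E, ⊤)) (x : X) :
    ∃ (U : X.Opens) (e : Fin n → Γ(E, U)) (a : Fin n → Γ(X, U)),
      x ∈ U ∧ StalkBasis e ∧ ∑ i, a i • e i = res E le_top s := by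
  obtain ⟨U, hx, ⟨φ⟩⟩ := hE x
  obtain ⟨e, he⟩ := exists_stalkBasis_of_iso φ
  obtain ⟨a, ha⟩ := he.exists_comb le_rfl (res E le_top s)
  simp only [res_self] at ha
  exact ⟨U, e, a, hx, he, ha⟩

lemma mem_smul_top_iff_germ (hE : FlatMod.IsFinLocFreeOfRank n E) (s : Γ(E, ⊤)) (x : X)
    (I : Ideal (X.presheaf.stalk x)) :
    E.presheaf.germ ⊤ x trivial s ∈ I • (⊤ : Submodule (X.presheaf.stalk x) (E.presheaf.stalk x)) ↔
      coordIdeal (X.presheaf.stalk x) (E.presheaf.germ ⊤ x trivial s) ≤ I := by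
  obtain ⟨U, e, a, hx, he, -⟩ := exists_coords hE s x
  exact mem_smul_top_iff_coordIdeal_le (germBasis he hx) _ I

/-- Coordinates of a pulled back section. -/
lemma coords_pullS {Y : Scheme.{u}} (f : Y ⟶ X) {s : Γ(E, ⊤)} {a : Fin n → Γ(X, U)}
    (ha : ∑ i, a i • e i = res E le_top s) :
    ∑ i, f.app U (a i) • Amp73.pullS f E U (e i) =
      res ((Scheme.Modules.pullback f).obj E) le_top (Amp73.pullS f E ⊤ s) := by
  have h := congrArg (Amp73.pullS f E U) ha
  rw [Pinch99.pullS_sum] at h
  simp only [Amp73.pullS_smul] at h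
  exact h.trans (Pinch99.pullS_res f E le_top s).symm

/-- The coordinate ideal of a pulled back section. -/
lemma coordIdeal_pullS {Y : Scheme.{u}} (f : Y ⟶ X) (hE : FlatMod.IsFinLocFreeOfRank n E) (s : Γ(E, ⊤)) (y : Y) :
    coordIdeal (Y.presheaf.stalk y) (((Scheme.Modules.pullback f).obj E).presheaf.germ ⊤ y trivial
        (Amp73.pullS f E ⊤ s)) =
      (coordIdeal (X.presheaf.stalk (f y)) (E.presheaf.germ ⊤ (f y) trivial s)).map (f.stalkMap y).hom := by
  obtain ⟨U, e, a, hx, he, ha⟩ := exists_coords hE s (f y)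
  have h := coordIdeal_germ (Pinch99.stalkBasis_pullS f he) (coords_pullS f ha) (y := y) hx
  rw [coordIdeal_germ he ha hx, Ideal.map_span, ← Set.range_comp]
  refine h.trans (congrArg (fun g => Ideal.span (Set.range g)) (funext fun i => ?_))
  exact (f.germ_stalkMap_apply U y hx (a i)).symm

/-- The sub of an extension by an invertible module carries the same coordinate ideal. -/
lemma coordIdeal_sub {A B L : X.Modules} {a : A ⟶ B} {b : B ⟶ L} {w : a ≫ b = 0}
    (hs : (ShortComplex.mk a b w).ShortExact) (hL : PicF.IsInvertible L)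
    (hA : FlatMod.IsFinLocFreeOfRank n A) (t : Γ(A, ⊤)) (x : X) :
    coordIdeal (X.presheaf.stalk x) (B.presheaf.germ ⊤ x trivial (a.app ⊤ t)) =
      coordIdeal (X.presheaf.stalk x) (A.presheaf.germ ⊤ x trivial t) := by
  have hA' : ∀ x : X, ∃ (U : X.Opens) (s : Fin n → Γ(A, U)), x ∈ U ∧ StalkBasis s := fun x => by
    obtain ⟨U, hx, ⟨φ⟩⟩ := hA x
    obtain ⟨s, hs'⟩ := exists_stalkBasis_of_iso φ
    exact ⟨U, s, hx, hs'⟩
  obtain ⟨U, s, g, m, hx, h1, h2, h3⟩ := exists_stalkBasis_cons hs hL hA' x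
  obtain ⟨c, hc⟩ := h1.exists_comb le_rfl (res A le_top t)
  simp only [res_self] at hc
  have hB := stalkBasis_cons hs h1 h2 h3
  have hcB : ∑ i, (Fin.cons 0 c : Fin (n + 1) → Γ(X, U)) i • (Fin.cons m fun i => a.app U (s i) :
      Fin (n + 1) → Γ(B, U)) i = res B le_top (a.app ⊤ t) := by
    rw [Fin.sum_univ_succ]
    simp only [Fin.cons_zero, Fin.cons_succ, zero_smul, zero_add]
    rw [← QC70.app_res, ← hc, map_sum]
    exact Finset.sum_congr rfl fun i _ => (Scheme.Modules.Hom.app_smul a _ _).symm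
  rw [coordIdeal_germ hB hcB hx, coordIdeal_germ h1 hc hx]
  refine le_antisymm (Ideal.span_le.2 ?_) (Ideal.span_mono ?_)
  · rintro _ ⟨i, rfl⟩
    induction i using Fin.cases with
    | zero => simp
    | succ i => exact Ideal.subset_span ⟨i, by simp⟩
  · rintro _ ⟨i, rfl⟩
    exact ⟨i.succ, by simp⟩

end Groth.Agent.Cyc90.Dev
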