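import Groth.Agent.Cyc90.Dev.ZeroContent
import Groth.Agent.Cyc90.Dev.MapAll
import Groth.Agent.Cyc90.PullSheaf
import Groth.Agent.Cyc90.Fundamental
import Groth.Prelude.Def_C1

/-! Cycles given by the lengths of the quotients by a family of ideals in the local rings. -/

set_option autoImplicit false
set_option backward.isDefEq.respectTransparency.types false
set_option synthInstance.maxHeartbeats 200000
set_option linter.style.haveILetI false
universe u

open CategoryTheory AlgebraicGeometry TopologicalSpace Opposite IsLocalRing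

noncomputable section

namespace Groth.Agent.Cyc90.Dev

variable {X Y : Scheme.{u}}

/-- The lengths of the quotients by a family of ideals, in one dimension. -/
def lenFun (δ : X → ℤ) (k : ℤ) (I : ∀ x : X, Ideal (X.presheaf.stalk x)) : X → ℤ :=
  fun x => if δ x = k then ((Module.length (X.presheaf.stalk x) (X.presheaf.stalk x ⧸ I x)).toNat : ℤ) else 0

lemma lenFun_eq_zero {δ : X → ℤ} {k : ℤ} {I : ∀ x : X, Ideal (X.presheaf.stalk x)} {x : X}
    (h : δ x ≠ k ∨ I x = ⊤) : lenFun δ k I x = 0 := by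
  by_cases hx : δ x = k
  · obtain h | h := h
    · exact absurd hx h
    · haveI : Subsingleton (X.presheaf.stalk x ⧸ I x) := Ideal.Quotient.subsingleton_iff.2 h
      rw [lenFun, if_pos hx, Module.length_eq_zero]
      simp
  · exact if_neg hx

lemma mem_zkSub_of_coe_eq_lenFun {δ : X → ℤ} {k : ℤ} {I : ∀ x : X, Ideal (X.presheaf.stalk x)}
    {a : AlgebraicCycle X ℤ} (ha : ⇑a = lenFun δ k I) : a ∈ zkSub δ k := fun x hx => by
  show (⇑a) x = 0
  rw [ha]
  exact if_neg hx

/-- Length of the local ring of a closed subscheme. -/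
lemma length_stalk_closed (i : Y ⟶ X) [IsClosedImmersion i] (y : Y) :
    Module.length (Y.presheaf.stalk y) (Y.presheaf.stalk y) =
      Module.length (X.presheaf.stalk (i y)) (X.presheaf.stalk (i y) ⧸ RingHom.ker (i.stalkMap y).hom) := by
  refine (length_eq_of_semilinear (i.stalkMap y).hom (i.stalkMap_surjective y)
    (RingHom.quotientKerEquivOfSurjective (i.stalkMap_surjective y)).toAddEquiv fun a m => ?_).symm
  obtain ⟨m, rfl⟩ := Ideal.Quotient.mk_surjective m
  exact map_mul (i.stalkMap y).hom a m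

/-- The cycle of a closed subscheme, by lengths. -/
lemma subschemeFun_eq_lenFun (i : Y ⟶ X) [IsClosedImmersion i] (δ : X → ℤ) (k : ℤ)
    (I : ∀ x : X, Ideal (X.presheaf.stalk x)) (h1 : ∀ y : Y, RingHom.ker (i.stalkMap y).hom = I (i y))
    (h2 : ∀ x ∉ Set.range i, I x = ⊤) : Cyc.subschemeFun δ k i = lenFun δ k I := by
  funext x
  by_cases hx : x ∈ Set.range i
  · obtain ⟨y, rfl⟩ := hx
    unfold Cyc.subschemeFun lenFun
    rw [show {z : Y | i z = i y} = {y} from Set.ext fun z => i.isClosedEmbedding.injective.eq_iff,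
      finsum_mem_singleton, length_stalk_closed i y, h1]
  · rw [lenFun_eq_zero (Or.inr (h2 x hx)), Cyc.subschemeFun]
    dsimp only
    rw [show {z : Y | i z = x} = ∅ from Set.eq_empty_of_forall_notMem fun z hz => hx ⟨z, hz⟩,
      finsum_mem_empty, ite_self]

lemma subschemeFun_id_eq_lenFun (δ : X → ℤ) (k : ℤ) :
    Cyc.subschemeFun δ k (𝟙 X) = lenFun δ k fun _ => ⊥ := by
  funext x
  rw [subschemeFun_id_apply, lenFun, (Submodule.quotEquivOfEqBot (⊥ : Ideal (X.presheaf.stalk x)) rfl).length_eq]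

/-- Flat pullback of a cycle given by lengths. -/
lemma pullHom_lenFun (f : X ⟶ Y) [Flat f] {δ : X → ℤ} {δY : Y → ℤ} (hX : Cyc.IsSetup X δ) {c : ℤ}
    (hc : ShiftAt f δ δY c) {k : ℤ} {I : ∀ y : Y, Ideal (Y.presheaf.stalk y)}
    (hdim : ∀ y, I y ≠ ⊤ → δY y ≤ k) {a : AlgebraicCycle Y ℤ} (ha : ⇑a = lenFun δY k I) :
    ⇑(pullHom f hX hc a) = lenFun δ (k + c) fun x => (I (f x)).map (f.stalkMap x).hom := by
  funext x
  have h1 := (delta_le_of_shift f hX.2.2 hc x).1
  rw [coe_pullHom, ha]
  unfold Cyc.pullFun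
  by_cases hy : δY (f x) = k
  · by_cases hx : δ x = δY (f x) + c
    · rw [if_pos hx, lenFun, if_pos hy, lenFun, if_pos (by omega), ← Nat.cast_mul, ← ENat.toNat_mul]
      congr 2
      letI := (f.stalkMap x).hom.toAlgebra
      haveI : Module.Flat (Y.presheaf.stalk (f x)) (X.presheaf.stalk x) := Flat.stalkMap f x
      haveI : IsLocalHom (algebraMap (Y.presheaf.stalk (f x)) (X.presheaf.stalk x)) := f.toLRSHom.prop x
      rw [show (f.stalkMap x).hom = algebraMap (Y.presheaf.stalk (f x)) (X.presheaf.stalk x) from rfl,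
        (Algebra.TensorProduct.quotIdealMapEquivTensorQuot (X.presheaf.stalk x) (I (f x))).toLinearEquiv.length_eq,
        IsLocalRing.length_baseChange (Y.presheaf.stalk (f x)) (X.presheaf.stalk x)]
    · rw [if_neg hx]
      exact (lenFun_eq_zero (Or.inl (by omega))).symm
  · rw [lenFun_eq_zero (δ := δY) (Or.inl hy), zero_mul, ite_self]
    refine (lenFun_eq_zero ?_).symm
    by_cases hx : δ x = k + c
    · right
      have : I (f x) = ⊤ := by
        by_contra h
        have := hdim _ h
        omega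
      dsimp only
      rw [this, Ideal.map_top]
    · exact Or.inl hx

section Coord

variable {R : Type u} [CommRing R] {M N : Type u} [AddCommGroup M] [Module R M] [AddCommGroup N] [Module R N]

lemma coordIdeal_map_le (g : M →ₗ[R] N) (v : M) : coordIdeal R (g v) ≤ coordIdeal R v := by
  rintro _ ⟨φ, rfl⟩
  exact ⟨φ.comp g, rfl⟩

lemma coordIdeal_generator {ι : Type*} [Fintype ι] [Nonempty ι] [IsLocalRing R] (b : Module.Basis ι R M)
    {t : M} (ht : Submodule.span R {t} = ⊤) : coordIdeal R t = ⊤ := by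
  by_contra h
  have h2 : t ∈ maximalIdeal R • (⊤ : Submodule R M) :=
    (mem_smul_top_iff_coordIdeal_le b t _).2 (le_maximalIdeal h)
  have h3 : b (Classical.arbitrary ι) ∈ maximalIdeal R • (⊤ : Submodule R M) := by
    obtain ⟨c, hc⟩ := Submodule.mem_span_singleton.1 (ht.ge (Submodule.mem_top (x := b (Classical.arbitrary ι))))
    rw [← hc]
    exact Submodule.smul_mem _ c h2
  have h4 := (mem_smul_top_iff_coordIdeal_le b _ _).1 h3 ⟨b.coord (Classical.arbitrary ι), rfl⟩
  simp at h4

lemma coordIdeal_smul_generator {ι : Type*} [Fintype ι] [Nonempty ι] [IsLocalRing R] (b : Module.Basis ι R M)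
    {t : M} (ht : Submodule.span R {t} = ⊤) (f : R) : coordIdeal R (f • t) = Ideal.span {f} := by
  refine le_antisymm ?_ ((Ideal.span_singleton_le_iff_mem _).2 ?_)
  · rintro _ ⟨φ, rfl⟩
    show φ (f • t) ∈ _
    rw [map_smul, smul_eq_mul]
    exact Ideal.mul_mem_right _ _ (Ideal.mem_span_singleton_self f)
  · obtain ⟨φ, hφ⟩ : (1 : R) ∈ coordIdeal R t := by rw [coordIdeal_generator b ht]; trivial
    refine ⟨φ, ?_⟩
    show φ (f • t) = f
    rw [map_smul, show φ t = 1 from hφ, smul_eq_mul, mul_one]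

/-- A vector with a regular coordinate has injective multiples. -/
lemma injective_smul_of_regular {v : M} {c : R} (hc : c ∈ coordIdeal R v) (hreg : IsSMulRegular R c) :
    Function.Injective fun a : R => a • v := fun a a' h => by
  obtain ⟨φ, hφ⟩ := hc
  refine hreg ?_
  have := congrArg φ h
  simp only [map_smul, smul_eq_mul, show φ v = c from hφ] at this
  simpa only [smul_eq_mul, mul_comm c] using this

end Coord

/-- The ideal of a zero scheme. -/
lemma ker_zeroScheme {D : Scheme.{u}} {j : D ⟶ X} {L : X.Modules} {s : Γ(L, ⊤)}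
    (hL : FlatMod.IsFinLocFreeOfRank 1 L) (hD : Cyc.IsZeroSchemeOf j L s) (d : D) :
    RingHom.ker (j.stalkMap d).hom =
      coordIdeal (X.presheaf.stalk (j d)) (L.presheaf.germ ⊤ (j d) trivial s) := by
  obtain ⟨t, f, h1, h2, h3⟩ := hD.2 d
  obtain ⟨U, e, a, hx, he, -⟩ := exists_coords hL s (j d)
  rw [h3, h2]
  exact (coordIdeal_smul_generator (germBasis he hx) h1 f).symm

/-- Off its image, the coordinates of the section generate. -/
lemma coordIdeal_zeroScheme_eq_top {D : Scheme.{u}} {j : D ⟶ X} {L : X.Modules} {s : Γ(L, ⊤)}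
    (hL : FlatMod.IsFinLocFreeOfRank 1 L) (hD : Cyc.IsZeroSchemeOf j L s) {x : X} (hx : x ∉ Set.range j) :
    coordIdeal (X.presheaf.stalk x) (L.presheaf.germ ⊤ x trivial s) = ⊤ := by
  by_contra h
  rw [hD.1] at hx
  exact hx ((Submodule.Quotient.mk_eq_zero _).2
    ((mem_smul_top_iff_germ hL s x _).2 (le_maximalIdeal h)))

/-- The cycle of zeros of a section, by lengths. -/
lemma zeroSectionFun_eq_lenFun {L : X.Modules} (hL : FlatMod.IsFinLocFreeOfRank 1 L) (s : Γ(L, ⊤))
    (δ : X → ℤ) (k : ℤ) : Cyc.zeroSectionFun δ k L s =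
      lenFun δ k fun x => coordIdeal (X.presheaf.stalk x) (L.presheaf.germ ⊤ x trivial s) := by
  funext x
  obtain ⟨U, e, a, hx, he, -⟩ := exists_coords hL s x
  let b := germBasis he hx
  have hb : Submodule.span (X.presheaf.stalk x) {b 0} = ⊤ := by
    rw [← b.span_eq, Set.range_unique]
    rfl
  have ht : ∃ t : L.presheaf.stalk x, Submodule.span (X.presheaf.stalk x) {t} = ⊤ := ⟨_, hb⟩
  have hf : ∃ f : X.presheaf.stalk x, (L.presheaf.germ ⊤ x trivial) s = f • Classical.choose ht := by
    obtain ⟨f, hf⟩ := Submodule.mem_span_singleton.1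
      ((Classical.choose_spec ht).ge (Submodule.mem_top (x := (L.presheaf.germ ⊤ x trivial) s)))
    exact ⟨f, hf.symm⟩
  have h : coordIdeal (X.presheaf.stalk x) (L.presheaf.germ ⊤ x trivial s) =
      Ideal.span {Classical.choose hf} :=
    (congrArg (coordIdeal _) (Classical.choose_spec hf)).trans
      (coordIdeal_smul_generator b (Classical.choose_spec ht) _)
  unfold Cyc.zeroSectionFun lenFun
  rw [dif_pos ht, dif_pos hf]
  exact congrArg (fun I : Ideal (X.presheaf.stalk x) => if δ x = k then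
    ((Module.length (X.presheaf.stalk x) (X.presheaf.stalk x ⧸ I)).toNat : ℤ) else 0) h.symm

end Groth.Agent.Cyc90.Dev
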