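import Groth.Agent.Cyc90.Dev.ZeroFibre
import Groth.Agent.Cyc90.Dev.ZeroAlg
import Groth.Agent.Cyc90.Dev.ZeroCycle
import Groth.Agent.Cyc90.Dev.KerRank

/-! Cutting the ideal of a section by the induced section of `O(1)`. -/

set_option autoImplicit false
set_option backward.isDefEq.respectTransparency.types false
set_option synthInstance.maxHeartbeats 200000
set_option linter.style.haveILetI false
universe u

open CategoryTheory CategoryTheory.Limits AlgebraicGeometry TopologicalSpace Opposite IsLocalRing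

noncomputable section

namespace Groth.Agent.Cyc90.Dev

open QC70 Props58.LocFree

variable {X P : Scheme.{u}}

/-- The ideals of coordinates of a section. -/
def secIdeal (E : X.Modules) (s : Γ(E, ⊤)) (x : X) : Ideal (X.presheaf.stalk x) :=
  coordIdeal (X.presheaf.stalk x) (E.presheaf.germ ⊤ x trivial s)

lemma secIdeal_pullS {E : X.Modules} {n : ℕ} (p : P ⟶ X) (hE : FlatMod.IsFinLocFreeOfRank n E) (s : Γ(E, ⊤))
    (y : P) : secIdeal ((Scheme.Modules.pullback p).obj E) (Amp73.pullS p E ⊤ s) y =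
      (secIdeal E s (p y)).map (p.stalkMap y).hom :=
  coordIdeal_pullS p hE s y

lemma secIdeal_app_le {E F : X.Modules} (φ : E ⟶ F) (s : Γ(E, ⊤)) (x : X) :
    secIdeal F (φ.app ⊤ s) x ≤ secIdeal E s x := by
  unfold secIdeal
  rw [show F.presheaf.germ ⊤ x trivial (φ.app ⊤ s) = stalkLinear φ x (E.presheaf.germ ⊤ x trivial s) from
    (stalkMapM_germ φ _ _).symm]
  exact coordIdeal_map_le _ _

/-- A section with vanishing coordinates is zero. -/
lemma eq_zero_of_secIdeal {E : X.Modules} {n : ℕ} (hE : FlatMod.IsFinLocFreeOfRank n E) (s : Γ(E, ⊤))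
    (h : ∀ x, secIdeal E s x = ⊥) : s = 0 := by
  refine TopCat.Presheaf.section_ext ⟨E.presheaf, E.isSheaf⟩ ⊤ s 0 fun x hx => ?_
  rw [map_zero]
  obtain ⟨U, e, a, hxU, he, -⟩ := exists_coords hE s x
  show E.presheaf.germ ⊤ x trivial s = 0
  let b := germBasis he hxU
  refine b.ext_elem fun i => ?_
  rw [map_zero, Finsupp.zero_apply, ← Submodule.mem_bot (R := X.presheaf.stalk x), ← h x]
  exact ⟨b.coord i, rfl⟩

variable {E : X.Modules} {m : ℕ} {p : P ⟶ X} {O1 : P.Modules} {q : (Scheme.Modules.pullback p).obj E ⟶ O1}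

lemma secIdeal_secOne_le (hE : FlatMod.IsFinLocFreeOfRank (m + 1) E) (s : Γ(E, ⊤)) (y : P) :
    secIdeal O1 (secOne q s) y ≤ (secIdeal E s (p y)).map (p.stalkMap y).hom := by
  rw [← secIdeal_pullS p hE]
  exact secIdeal_app_le q _ y

/-- A regular ideal of coordinates, cut by the section of `O(1)`. -/
theorem exists_cut (hE : FlatMod.IsFinLocFreeOfRank (m + 1) E) (hP : KRR.IsProjBundle p E O1 q) [Flat p]
    [IsLocallyNoetherian X] [IsLocallyNoetherian P] (s : Γ(E, ⊤)) (y : P)
    (f : Fin (m + 1) → X.presheaf.stalk (p y))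
    (hf : RingTheory.Sequence.IsRegular (X.presheaf.stalk (p y)) (List.ofFn f))
    (hfs : Ideal.span (Set.range f) = secIdeal E s (p y)) :
    ∃ c : P.presheaf.stalk y, secIdeal O1 (secOne q s) y = Ideal.span {c} ∧
      IsSMulRegular (P.presheaf.stalk y) c ∧
      ∀ {C : Type u} [CommRing C] (π : P.presheaf.stalk y →+* C), Function.Surjective π →
        RingHom.ker π = Ideal.span {c} →
        ∃ h : Fin m → C, RingTheory.Sequence.IsRegular C (List.ofFn h) ∧
          Ideal.span (Set.range h) = ((secIdeal E s (p y)).map (p.stalkMap y).hom).map π := by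
  obtain ⟨U, e, a, hx, he, ha⟩ := exists_coords hE s (p y)
  have hb := Pinch99.stalkBasis_pullS p he
  let b := germBasis hb (y := y) hx
  obtain ⟨V, eO, -, hyV, heO, -⟩ := exists_coords hP.invertible (secOne q s) y
  let bO := germBasis heO hyV
  let g : Fin (m + 1) → X.presheaf.stalk (p y) := fun i => X.presheaf.germ U (p y) hx (a i)
  letI : Algebra (X.presheaf.stalk (p y)) (P.presheaf.stalk y) := (p.stalkMap y).hom.toAlgebra
  haveI : Module.Flat (X.presheaf.stalk (p y)) (P.presheaf.stalk y) := Flat.stalkMap p y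
  haveI : IsLocalHom (algebraMap (X.presheaf.stalk (p y)) (P.presheaf.stalk y)) := p.toLRSHom.prop y
  let φ := (bO.coord 0).comp (stalkLinear q y)
  let u : Fin (m + 1) → P.presheaf.stalk y := fun i => φ (b i)
  have hsum : ((Scheme.Modules.pullback p).obj E).presheaf.germ ⊤ y trivial (Amp73.pullS p E ⊤ s) =
      ∑ i, algebraMap _ (P.presheaf.stalk y) (g i) • b i := by
    rw [← b.sum_repr (((Scheme.Modules.pullback p).obj E).presheaf.germ ⊤ y trivial (Amp73.pullS p E ⊤ s))]
    refine Finset.sum_congr rfl fun i _ => congrArg (· • b i) ?_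
    refine germBasis_repr hb hx (c := fun i => algebraMap _ (P.presheaf.stalk y) (g i)) ?_ i
    refine Eq.trans ?_ (germM_res (le_top : p ⁻¹ᵁ U ≤ ⊤) hx _)
    rw [← coords_pullS p ha, germM_sum]
    refine Finset.sum_congr rfl fun i _ => ?_
    rw [germM_smul]
    congr 1
    exact p.germ_stalkMap_apply U y hx (a i)
  have hc : secIdeal O1 (secOne q s) y = Ideal.span {∑ i, algebraMap _ (P.presheaf.stalk y) (g i) * u i} := by
    unfold secIdeal
    rw [coordIdeal_eq_span bO, Set.range_unique, germ_secOne, hsum]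
    congr 2
    show φ (∑ i, _ • b i) = _
    rw [map_sum]
    exact Finset.sum_congr rfl fun i _ => map_smul φ _ _
  haveI := hP.epi
  obtain ⟨j, hj⟩ : ∃ j, IsUnit (u j) := by
    obtain ⟨v, hv⟩ := surjective_stalkMapM_of_epi q y (bO 0)
    by_contra h
    push Not at h
    have h1 : φ v = 1 := by
      show bO.coord 0 (stalkMapM q y v) = 1
      rw [hv]; simp
    refine (maximalIdeal.isMaximal (P.presheaf.stalk y)).ne_top ((Ideal.eq_top_iff_one _).2 ?_)
    rw [← h1, ← b.sum_repr v, map_sum]
    refine sum_mem fun i _ => ?_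
    rw [map_smul, smul_eq_mul]
    exact Ideal.mul_mem_left _ _ ((mem_maximalIdeal _).2 (h i))
  have hg : Ideal.span (Set.range f) = Ideal.span (Set.range g) := hfs.trans (coordIdeal_germ he ha hx)
  obtain ⟨h1, h2⟩ := exists_regular_cut f hf g hg u hj
  refine ⟨_, hc, h1, fun π hπ hker => ?_⟩
  obtain ⟨h, hh, e⟩ := h2 π hπ hker
  exact ⟨h, hh, by rw [e, ← hfs, hg]; rfl⟩

end Groth.Agent.Cyc90.Dev
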