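import Groth.Agent.Cyc90.ZeroPull
import Groth.Agent.Var76.ZeroScheme
import Groth.Agent.Div89.RegStalk
import Groth.Agent.EGA73.Invertible

/-! Every global section of an invertible module has a zero scheme. -/

set_option autoImplicit false
set_option backward.isDefEq.respectTransparency.types false
universe u

open CategoryTheory CategoryTheory.Limits AlgebraicGeometry TopologicalSpace Opposite

noncomputable section

namespace Groth.Agent.Cyc90.Dev

open Var76.LineBundle (IsFrame)

variable {X : Scheme.{u}}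

theorem exists_isZeroSchemeOf {L : X.Modules} (hL : PicF.IsInvertible L) (s : Γ(L, ⊤)) :
    ∃ (D : Scheme.{u}) (i : D ⟶ X), IsClosedImmersion i ∧ Cyc.IsZeroSchemeOf i L s := by
  let I := PicF2.zeroScheme L (EGA73.unitHom L s)
  refine ⟨I.subscheme, I.subschemeι, inferInstance, ?_, fun d => ?_⟩
  all_goals
    have key : ∀ x : X, ∃ (W : X.affineOpens) (e : Γ(L, W.1)) (c : Γ(X, W.1)) (hx : x ∈ W.1),
        IsFrame L W.1 e ∧ I.ideal W = Ideal.span {c} ∧
        L.presheaf.germ ⊤ x trivial s = X.presheaf.germ W.1 x hx c • L.presheaf.germ W.1 x hx e := by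
      intro x
      obtain ⟨U, hxU, e, he⟩ := Mero90.exists_frame' hL x
      obtain ⟨W, hW, hxW, hWU⟩ := exists_isAffineOpen_mem_and_subset hxU
      have hle : W ≤ U := hWU
      have he' := Var76.LineBundle.IsFrame.res he hle
      obtain ⟨c, hc⟩ := (he' W le_rfl).2 (Var76.ZeroScheme.val L (EGA73.unitHom L s) W)
      dsimp only at hc
      rw [Var76.LineBundle.res] at hc
      have hc' : c • L.presheaf.map (homOfLE hle).op e = Var76.ZeroScheme.val L (EGA73.unitHom L s) W := by
        simpa [Var76.LineBundle.res] using hc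
      refine ⟨⟨W, hW⟩, _, c, hxW, he',
        Var76.ZeroScheme.ideal_zeroScheme (s := EGA73.unitHom L s) (Mero90.isFinLocFreeOfRank_of_isInvertible hL) ⟨W, hW⟩ he' hc', ?_⟩
      have h2 : Var76.ZeroScheme.val L (EGA73.unitHom L s) W = L.presheaf.map (homOfLE le_top).op s := by
        refine (EGA73.unitHom_app L s W (1 : Γ(X, W))).trans ?_
        rw [one_smul]
      have := congrArg (L.presheaf.germ W x hxW) (hc'.trans h2)
      rw [Mero.germ_smul, TopCat.Presheaf.germ_res_apply] at this
      exact (this.trans (TopCat.Presheaf.germ_res_apply _ _ _ _ _)).symm.trans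
        (congrArg _ (TopCat.Presheaf.germ_res_apply _ _ _ _ _).symm)
  · rw [Scheme.IdealSheafData.range_subschemeι]
    ext x
    obtain ⟨W, e, c, hx, he, hI, hg⟩ := key x
    rw [Set.mem_setOf_eq, hg, mk_smul_frame_eq_zero_iff he hx, SetLike.mem_coe,
      Scheme.IdealSheafData.mem_support_iff_of_mem hx, hI, Scheme.zeroLocus_span]
    simp only [Scheme.mem_zeroLocus_iff, Set.mem_singleton_iff, forall_eq]
    exact not_congr (X.mem_basicOpen c x hx)
  · obtain ⟨W, e, c, hx, he, hI, hg⟩ := key (I.subschemeι d)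
    refine ⟨_, _, ?_, hg, ?_⟩
    · refine Submodule.eq_top_iff'.2 fun m => ?_
      obtain ⟨a, ha⟩ := (Mero90.isGen_germ he ⟨_, hx⟩).2 m
      exact Submodule.mem_span_singleton.2 ⟨a, ha⟩
    · rw [Div89.RegStalk.ker_stalkMap_chart I.subschemeι W.2 hx,
        show RingHom.ker (I.subschemeι.app W.1).hom = I.ideal W from I.ker_subschemeι_app W, hI,
        Ideal.map_span, Set.image_singleton]

end Groth.Agent.Cyc90.Dev
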