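import Groth.Agent.Cyc90.Dev.ZeroContent
import Groth.Agent.Cyc90.Dev.ZeroSec
import Groth.Agent.Cyc90.FlatPull
import Groth.Agent.FlatMor68.FibreStalk
import Groth.Agent.Curves2.ProjLine
import Groth.Agent.EGA4Alg4.FlatReg
import Groth.Agent.EGAProj74.TildeRows

/-! The section of `O(1)` given by a section of the bundle, on the fibres. -/

set_option autoImplicit false
set_option backward.isDefEq.respectTransparency.types false
set_option synthInstance.maxHeartbeats 200000
universe u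

open CategoryTheory CategoryTheory.Limits AlgebraicGeometry TopologicalSpace Opposite IsLocalRing

noncomputable section

namespace Groth.Agent.Cyc90.Dev

open QC70 Props58.LocFree

variable {X P : Scheme.{u}} {E : X.Modules} {m : ℕ} {p : P ⟶ X} {O1 : P.Modules}
  {q : (Scheme.Modules.pullback p).obj E ⟶ O1}

/-- The section of `O(1)` given by a section of `E`. -/
def secOne (q : (Scheme.Modules.pullback p).obj E ⟶ O1) (s : Γ(E, ⊤)) : Γ(O1, ⊤) :=
  q.app ⊤ (Amp73.pullS p E ⊤ s)

lemma germ_secOne (q : (Scheme.Modules.pullback p).obj E ⟶ O1) (s : Γ(E, ⊤)) (x : P) :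
    O1.presheaf.germ ⊤ x trivial (secOne q s) =
      stalkLinear q x (((Scheme.Modules.pullback p).obj E).presheaf.germ ⊤ x trivial (Amp73.pullS p E ⊤ s)) :=
  (stalkMapM_germ q _ _).symm

/-- Where the section of `E` does not vanish, some point of the fibre sees it. -/
theorem exists_secOne_ne_zero (hE : FlatMod.IsFinLocFreeOfRank (m + 1) E) (hP : KRR.IsProjBundle p E O1 q)
    (s : Γ(E, ⊤)) (ξ : X) (hc : coordIdeal (X.presheaf.stalk ξ) (E.presheaf.germ ⊤ ξ trivial s) = ⊤) :
    ∃ y : P, p y = ξ ∧ O1.presheaf.germ ⊤ y trivial (secOne q s) ∉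
      maximalIdeal (P.presheaf.stalk y) • (⊤ : Submodule (P.presheaf.stalk y) (O1.presheaf.stalk y)) := by
  classical
  obtain ⟨U, e, a, hx, he, ha⟩ := exists_coords hE s ξ
  obtain ⟨i₀, hi₀⟩ : ∃ i, IsUnit (X.presheaf.germ U ξ hx (a i)) := by
    by_contra h
    push Not at h
    rw [coordIdeal_germ he ha hx] at hc
    refine (maximalIdeal.isMaximal _).ne_top (top_le_iff.1 (hc.ge.trans (Ideal.span_le.2 ?_)))
    rintro _ ⟨i, rfl⟩
    exact (mem_maximalIdeal _).2 (h i)
  let T : Scheme.{u} := Spec (X.residueField ξ)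
  obtain ⟨g, hgt⟩ : ∃ g : T ⟶ X, ∀ t : T, g t = ξ :=
    ⟨X.fromSpecResidueField ξ, fun t => Scheme.fromSpecResidueField_apply ξ t⟩
  have htop : (⊤ : T.Opens) ≤ g ⁻¹ᵁ U := fun t _ => by
    show g t ∈ U
    rw [hgt]; exact hx
  have hb := Pinch99.stalkBasis_pullS g he
  let ψ : HomOn ((Scheme.Modules.pullback g).obj E) (unitMod T) (g ⁻¹ᵁ U) :=
    HomOn.ofBasis hb fun i => toUnit (if i = i₀ then 1 else 0)
  let φ : (Scheme.Modules.pullback g).obj E ⟶ unitMod T := (ψ.mono htop).toHom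
  have hφe : ∀ (V : T.Opens) (i : Fin (m + 1)) (hV : V ≤ g ⁻¹ᵁ U),
      φ.app V (res _ hV (Amp73.pullS g E U (e i))) = toUnit (if i = i₀ then 1 else 0) := fun V i hV => by
    refine (Formal27.ofBasis_app_basis hb _ hV i).trans ?_
    rw [res_unit]
    congr 1
    split_ifs
    · exact map_one (T.presheaf.map (homOfLE hV).op).hom
    · exact map_zero (T.presheaf.map (homOfLE hV).op).hom
  haveI : Epi φ := EGAProj74.epi_of_locally_surjective φ fun V t z =>
    ⟨V, le_rfl, z.2, (show Γ(T, V) from t) • res _ ((le_top).trans htop) (Amp73.pullS g E U (e i₀)), by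
      rw [Scheme.Modules.Hom.app_smul, hφe, if_pos rfl]
      refine Eq.trans ?_ (res_self (M := unitMod T) t).symm
      exact mul_one (show Γ(T, V) from t)⟩
  obtain ⟨l, ⟨hl, ι, hι⟩, -⟩ := hP.univ T g (unitMod T)
    (Mero90.isFinLocFreeOfRank_of_isInvertible EGA73.isInvertible_structureModule) φ inferInstance
  obtain ⟨t₀⟩ : Nonempty T := inferInstance
  refine ⟨l t₀, by rw [← Scheme.Hom.comp_apply, hl]; exact hgt t₀, fun hmem => ?_⟩
  have hval : φ.app ⊤ (Amp73.pullS g E ⊤ s) = toUnit (T.presheaf.map (homOfLE htop).op (g.app U (a i₀))) := by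
    have h1 := congrArg (res _ htop) (coords_pullS g ha)
    rw [res_res, res_self, res_sum] at h1
    rw [← h1, map_sum, Finset.sum_eq_single i₀]
    · rw [res_smul, Scheme.Modules.Hom.app_smul, hφe, if_pos rfl]
      exact mul_one (T.presheaf.map (homOfLE htop).op (g.app U (a i₀)) : Γ(T, ⊤))
    · intro i _ hi
      rw [res_smul, Scheme.Modules.Hom.app_smul, hφe, if_neg hi]
      exact mul_zero (T.presheaf.map (homOfLE htop).op (g.app U (a i)) : Γ(T, ⊤))
    · simp
  have hu : IsUnit (T.presheaf.germ (g ⁻¹ᵁ U) t₀ (htop trivial) (g.app U (a i₀))) := by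
    rw [← g.germ_stalkMap_apply U t₀ (htop trivial)]
    refine IsUnit.map (g.stalkMap t₀).hom ?_
    have : ∀ y (hy : y ∈ U), y = ξ → IsUnit (X.presheaf.germ U y hy (a i₀)) := by
      rintro y hy rfl; exact hi₀
    exact this _ _ (hgt t₀)
  -- the pulled back germ lies in the maximal ideal
  subst hl
  have hq : ((Scheme.Modules.pullback l).map q ≫ ι.hom).app ⊤
      (Amp73.pullS l ((Scheme.Modules.pullback p).obj E) ⊤ (Amp73.pullS p E ⊤ s)) =
        φ.app ⊤ (Amp73.pullS (l ≫ p) E ⊤ s) := by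
    rw [← hι]
    have h1 := Props58.PullTensor.pullS_comp l p E ⊤ s
    show _ = ((Scheme.Modules.pullback l).map q ≫ ι.hom).app ⊤
      (((Scheme.Modules.pullbackComp l p).inv.app E).app ⊤
        (((Scheme.Modules.pullbackCongr (rfl : l ≫ p = l ≫ p)).inv.app E).app ⊤ (Amp73.pullS (l ≫ p) E ⊤ s)))
    refine congrArg _ (h1.symm.trans (congrArg _ ?_))
    simp [Scheme.Modules.pullbackCongr]
  have hmem' : (unitMod T).presheaf.germ ⊤ t₀ trivial (φ.app ⊤ (Amp73.pullS (l ≫ p) E ⊤ s)) ∈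
      maximalIdeal (T.presheaf.stalk t₀) • (⊤ : Submodule (T.presheaf.stalk t₀) ((unitMod T).presheaf.stalk t₀)) := by
    rw [← hq]
    show (unitMod T).presheaf.germ ⊤ t₀ trivial (ι.hom.app ⊤ (((Scheme.Modules.pullback l).map q).app ⊤
      (Amp73.pullS l ((Scheme.Modules.pullback p).obj E) ⊤ (Amp73.pullS p E ⊤ s)))) ∈ _
    rw [show ((Scheme.Modules.pullback l).map q).app ⊤
        (Amp73.pullS l ((Scheme.Modules.pullback p).obj E) ⊤ (Amp73.pullS p E ⊤ s)) =
        Amp73.pullS l O1 ⊤ (secOne q s) from Amp73.map_app_pullS l q ⊤ _]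
    have h2 := (mem_smul_top_iff_germ hP.invertible (secOne q s) (l t₀) _).1 hmem
    have h3 : coordIdeal _ (((Scheme.Modules.pullback l).obj O1).presheaf.germ ⊤ t₀ trivial
        (Amp73.pullS l O1 ⊤ (secOne q s))) ≤ maximalIdeal (T.presheaf.stalk t₀) := by
      rw [coordIdeal_pullS l hP.invertible]
      refine (Ideal.map_mono h2).trans (Ideal.map_le_iff_le_comap.2 ?_)
      exact fun r hr hu => hr ((l.toLRSHom.prop t₀).map_nonunit _ hu)
    rw [show (unitMod T).presheaf.germ ⊤ t₀ trivial (ι.hom.app ⊤ (Amp73.pullS l O1 ⊤ (secOne q s))) =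
        stalkMapM ι.hom t₀ (((Scheme.Modules.pullback l).obj O1).presheaf.germ ⊤ t₀ trivial
          (Amp73.pullS l O1 ⊤ (secOne q s))) from (stalkMapM_germ ι.hom _ _).symm]
    refine Submodule.smul_induction_on
      ((mem_smul_top_iff_germ (Grass5.QuotBC.isFinLocFreeOfRank_pullback l hP.invertible) _ t₀ _).2 h3)
      (p := fun z => stalkMapM ι.hom t₀ z ∈ _) (fun r hr z _ => ?_) fun a b ha hb => ?_
    · show stalkLinear ι.hom t₀ (r • z) ∈ _
      rw [map_smul]
      exact Submodule.smul_mem_smul hr trivial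
    · show stalkLinear ι.hom t₀ (a + b) ∈ _
      rw [map_add]
      exact add_mem ha hb
  rw [hval] at hmem'
  have hb1 := (mem_smul_top_iff_coordIdeal_le (germBasis (stalkBasis_one T) (y := t₀) trivial) _ _).1 hmem'
  rw [coordIdeal_germ (stalkBasis_one T) (a := fun _ => T.presheaf.map (homOfLE htop).op ((l ≫ p).app U (a i₀)))
    (by rw [Fin.sum_univ_one, res_self]; exact mul_one (show Γ(T, ⊤) from T.presheaf.map (homOfLE htop).op ((l ≫ p).app U (a i₀)))) trivial] at hb1
  have := hb1 (Ideal.subset_span ⟨0, rfl⟩)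
  rw [TopCat.Presheaf.germ_res_apply] at this
  exact this hu
where
  stalkBasis_one (T : Scheme.{u}) : StalkBasis (fun _ : Fin 1 => toUnit (1 : Γ(T, ⊤))) := by
    refine Formal27.stalkBasis_of_bijective fun W hW => ?_
    have h1 : ∀ c : Fin 1 → Γ(T, W), ∑ i, c i • res (unitMod T) hW (toUnit (1 : Γ(T, ⊤))) = toUnit (c 0) :=
      fun c => by rw [Fin.sum_univ_one, res_unit, resO, map_one, smul_unit, mul_one]
    refine ⟨fun c c' e => funext fun i => ?_, fun y => ⟨fun _ => y, h1 _⟩⟩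
    rw [Fin.fin_one_eq_zero i]
    exact (h1 c).symm.trans (e.trans (h1 c'))

section Fibre

variable (hE : FlatMod.IsFinLocFreeOfRank (m + 1) E) (hP : KRR.IsProjBundle p E O1 q)

include hE hP in
/-- The generic point of a fibre. -/
theorem exists_fibre_generic (ξ : X) :
    ∃ η : P, p η = ξ ∧ ∀ y : P, p y = ξ → η ⤳ y := by
  obtain ⟨hB, -, -⟩ := projFibres_of_isProjBundle hE hP
  obtain ⟨-, e, -, -, -⟩ := hB ξ
  haveI := Curves2.ProjLine.irreducibleSpace (X.residueField ξ) m
  haveI : IrreducibleSpace ↥(p.fiber ξ) := e.hom.homeomorph.surjective.irreducibleSpace e.hom.continuous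
  obtain ⟨z, hz⟩ := QuasiSober.sober (IrreducibleSpace.isIrreducible_univ ↥(p.fiber ξ)) isClosed_univ
  have hmem : ∀ z, p (p.fiberι ξ z) = ξ := fun z =>
    Set.ext_iff.1 (p.range_fiberι ξ) _ |>.1 ⟨z, rfl⟩
  refine ⟨p.fiberι ξ z, hmem z, fun y hy => ?_⟩
  obtain ⟨w, rfl⟩ := (Set.ext_iff.1 (p.range_fiberι ξ) y).2 hy
  exact (hz.specializes (Set.mem_univ w)).map (p.fiberι ξ).continuous

include hE hP in
/-- Away from the zeros of `s`, the zeros of the induced section miss the fibre generic point. -/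
theorem delta_lt_of_secOne_eq_zero {δ : X → ℤ} {δP : P → ℤ} (hPs : Cyc.IsSetup P δP)
    (hδ : Cyc.DeltaCompat p δP δ) (s : Γ(E, ⊤)) (x : P)
    (hc : coordIdeal (X.presheaf.stalk (p x)) (E.presheaf.germ ⊤ (p x) trivial s) = ⊤)
    (hx : O1.presheaf.germ ⊤ x trivial (secOne q s) ∈
      maximalIdeal (P.presheaf.stalk x) • (⊤ : Submodule (P.presheaf.stalk x) (O1.presheaf.stalk x))) :
    δP x < δ (p x) + m := by
  obtain ⟨hB, -, hinv⟩ := projFibres_of_isProjBundle hE hP
  obtain ⟨h1, h2⟩ := delta_le_of_shift p hPs.2.2 (shiftAt_of_fibres hB hδ) x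
  refine lt_of_le_of_ne h1 fun heq => ?_
  obtain ⟨η, hη, hgen⟩ := exists_fibre_generic hE hP (p x)
  have hηx : η = x := h2 heq η hη (hgen x rfl)
  obtain ⟨y, hy, hne⟩ := exists_secOne_ne_zero hE hP s (p x) hc
  refine hne ?_
  subst hηx
  obtain ⟨U, hU, e, he⟩ := Mero90.exists_frame' hinv y
  obtain ⟨c, hc'⟩ := exists_coeff he (secOne q s)
  have hηU : η ∈ U := (hgen y hy).mem_open U.2 hU
  have h3 : ¬ IsUnit (P.presheaf.germ U η hηU c) := by
    rw [← mk_smul_frame_eq_zero_iff he hηU, ← hc' η hηU]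
    exact (Submodule.Quotient.mk_eq_zero _).2 hx
  rw [← Submodule.Quotient.mk_eq_zero]
  show (Submodule.Quotient.mk _ : Cyc.secFibre O1 y) = 0
  rw [hc' y hU, mk_smul_frame_eq_zero_iff he hU]
  intro hu
  refine h3 ?_
  rw [← TopCat.Presheaf.germ_stalkSpecializes_apply P.presheaf hU (hgen y hy)]
  exact hu.map _

include hE hP in
/-- Over an Artinian base point where `s` does not vanish, the coefficient is regular. -/
theorem isSMulRegular_coeff (s : Γ(E, ⊤)) [IsLocallyNoetherian P] (x : P)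
    (hc : coordIdeal (X.presheaf.stalk (p x)) (E.presheaf.germ ⊤ (p x) trivial s) = ⊤)
    {U : P.Opens} {e : Γ(O1, U)} (he : Var76.LineBundle.IsFrame O1 U e) {c : Γ(P, U)}
    (hcs : ∀ (y : P) (hy : y ∈ U), O1.presheaf.germ ⊤ y trivial (secOne q s) =
      P.presheaf.germ U y hy c • O1.presheaf.germ U y hy e) (hxU : x ∈ U) :
    IsSMulRegular (P.presheaf.stalk x) (P.presheaf.germ U x hxU c) := by
  obtain ⟨hB, hfl, hinv⟩ := projFibres_of_isProjBundle hE hP
  letI := (p.stalkMap x).hom.toAlgebra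
  haveI : Module.Flat (X.presheaf.stalk (p x)) (P.presheaf.stalk x) := Flat.stalkMap p x
  haveI : IsLocalHom (algebraMap (X.presheaf.stalk (p x)) (P.presheaf.stalk x)) := p.toLRSHom.prop x
  set J : Ideal (P.presheaf.stalk x) := (maximalIdeal (X.presheaf.stalk (p x))).map (p.stalkMap x).hom with hJ
  refine (EGA4Alg4.FlatReg13.regular_and_flat_of_fibre (A := X.presheaf.stalk (p x)) (P.presheaf.stalk x) _ ?_).1
  obtain ⟨z, hz⟩ : x ∈ Set.range (p.fiberι (p x)) := by rw [p.range_fiberι]; rfl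
  obtain ⟨-, e', -, -, -⟩ := hB (p x)
  haveI := Curves2.ProjLine.isIntegral (X.residueField (p x)) m
  haveI := Curves2.ProjLine.irreducibleSpace (X.residueField (p x)) m
  haveI : Nonempty ↥(p.fiber (p x)) := ⟨z⟩
  haveI : IsIntegral (p.fiber (p x)) := isIntegral_of_isOpenImmersion e'.inv
  haveI hJp : J.IsPrime := by
    have key : ∀ y, p.fiberι (p x) z = y →
        ((maximalIdeal (X.presheaf.stalk (p y))).map (p.stalkMap y).hom).IsPrime := by
      rintro _ rfl
      rw [← FlatMor68.FibreStalk.ker_fiberι_stalkMap p (p x) z]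
      exact RingHom.ker_isPrime _
    exact key x hz
  have hnot : P.presheaf.germ U x hxU c ∉ J := fun hmem => by
    obtain ⟨η, hη, hgen⟩ := exists_fibre_generic hE hP (p x)
    obtain ⟨y, hy, hne⟩ := exists_secOne_ne_zero hE hP s (p x) hc
    have hηU : η ∈ U := (hgen x rfl).mem_open U.2 hxU
    have h3 : ¬ IsUnit (P.presheaf.germ U η hηU c) := by
      rw [← TopCat.Presheaf.germ_stalkSpecializes_apply P.presheaf hxU (hgen x rfl), ← mem_nonunits_iff,
        ← mem_maximalIdeal]
      refine (show J ≤ Ideal.comap (P.presheaf.stalkSpecializes (hgen x rfl)).hom (maximalIdeal _) from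
        Ideal.map_le_iff_le_comap.2 fun r hr => ?_) hmem
      show ¬ IsUnit (P.presheaf.stalkSpecializes (hgen x rfl) (p.stalkMap x r))
      rw [← Scheme.Hom.stalkSpecializes_stalkMap_apply p η x (hgen x rfl) r]
      intro hu
      have hu' := (p.toLRSHom.prop η).map_nonunit _ hu
      have : ∀ (w : X) (h : w ⤳ p x), w = p x → IsUnit (X.presheaf.stalkSpecializes h r) → IsUnit r := by
        rintro w h rfl h'
        simpa using h'
      exact hr (this _ _ hη hu')
    obtain ⟨U', hU', f, hf⟩ := Mero90.exists_frame' hinv y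
    obtain ⟨d, hd⟩ := exists_coeff hf (secOne q s)
    have hηU' : η ∈ U' := (hgen y hy).mem_open U'.2 hU'
    have h4 : IsUnit (P.presheaf.germ U' η hηU' d) := by
      rw [← TopCat.Presheaf.germ_stalkSpecializes_apply P.presheaf hU' (hgen y hy)]
      refine IsUnit.map _ (not_not.1 fun h => hne ?_)
      rw [← Submodule.Quotient.mk_eq_zero]
      show (Submodule.Quotient.mk _ : Cyc.secFibre O1 y) = 0
      rw [hd y hU', mk_smul_frame_eq_zero_iff hf hU']
      exact h
    have h5 := (mk_smul_frame_eq_zero_iff he hηU _).2 h3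
    rw [← hcs η hηU, hd η hηU', mk_smul_frame_eq_zero_iff hf hηU'] at h5
    exact h5 h4
  rw [isSMulRegular_iff_right_eq_zero_of_smul]
  intro w hw
  obtain ⟨b, rfl⟩ := Submodule.Quotient.mk_surjective _ w
  rw [← Submodule.Quotient.mk_smul, Submodule.Quotient.mk_eq_zero, smul_eq_mul, Ideal.mul_top, smul_eq_mul] at hw
  rw [Submodule.Quotient.mk_eq_zero, smul_eq_mul, Ideal.mul_top]
  exact (hJp.mem_or_mem hw).resolve_left hnot

end Fibre

end Groth.Agent.Cyc90.Dev
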