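import Groth.Agent.Cyc90.Dev.ZeroCut
import Groth.Agent.Cyc90.Dev.ZeroSec
import Groth.Agent.Cyc90.Dev.CycleSquare
import Groth.Agent.Cyc90.Fundamental
import Groth.Agent.S1924

/-! The top Chern class and the zero locus of a section. -/

set_option autoImplicit false
set_option backward.isDefEq.respectTransparency.types false
set_option synthInstance.maxHeartbeats 200000
set_option linter.style.haveILetI false
universe u

open CategoryTheory CategoryTheory.Limits AlgebraicGeometry TopologicalSpace Opposite IsLocalRing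

noncomputable section

namespace Groth.Agent.Cyc90.Dev

open QC70 Props58.LocFree

/-- The top symmetric function of the roots of a bundle of rank `r` cuts out the zeros of a section. -/
def TopProp (r : ℕ) : Prop :=
  ∀ {X : Scheme.{u}} {δ : X → ℤ} (hX : Cyc.IsSetup X δ) {E : X.Modules},
    FlatMod.IsFinLocFreeOfRank r E → ∀ (s : Γ(E, ⊤)) (n : ℤ), (∀ x : X, δ x ≤ n) →
    (∀ x : X, secIdeal E s x ≠ ⊤ → δ x ≤ n - (r : ℤ)) →
    (∀ x : X, secIdeal E s x ≠ ⊤ → δ x = n - (r : ℤ) → ∃ f : Fin r → X.presheaf.stalk x,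
      RingTheory.Sequence.IsRegular (X.presheaf.stalk x) (List.ofFn f) ∧
        Ideal.span (Set.range f) = secIdeal E s x) →
    ∀ (α ζ : AlgebraicCycle X ℤ), ⇑α = lenFun δ n (fun _ => ⊥) →
      ⇑ζ = lenFun δ (n - (r : ℤ)) (secIdeal E s) →
    ∀ {T : Scheme.{u}} (π : T ⟶ X) [Flat π] [LocallyOfFiniteType π] {δT : T → ℤ} (hT : Cyc.IsSetup T δT)
      (d : ℕ) (hc : ShiftAt π δT δ d), Cyc.DeltaCompat π δT δ → Cyc.HasRelDim π d →
    ∀ (ls : List T.Modules), HasFilt ((Scheme.Modules.pullback π).obj E) ls → ls.length = r →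
      pullAll π hT hX hc (clk hX (n - (r : ℤ)) ζ) =
        opAct hT ((rootsOp hT ls).esymm r) (pullAll π hT hX hc (clk hX n α))

lemma secIdeal_rank_zero {X : Scheme.{u}} {E : X.Modules} (hE : FlatMod.IsFinLocFreeOfRank 0 E)
    (s : Γ(E, ⊤)) (x : X) : secIdeal E s x = ⊥ := by
  obtain ⟨U, e, a, hx, he, -⟩ := exists_coords hE s x
  rw [secIdeal, coordIdeal_eq_span (germBasis he hx), Set.range_eq_empty, Ideal.span_empty]

theorem topProp_zero : TopProp.{u} 0 := by
  intro X δ hX E hE s n hn hdim hreg α ζ hα hζ T π _ _ δT hT d hc hd hπd ls hf hlen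
  have h : ζ = α := DFunLike.coe_injective (by
    rw [hα, hζ, Nat.cast_zero, sub_zero, funext fun x => secIdeal_rank_zero hE s x])
  simp only [h, Nat.cast_zero, sub_zero, Multiset.esymm, Multiset.powersetCard_zero_left,
    Multiset.map_singleton, Multiset.prod_zero, Multiset.sum_singleton, map_one]
  rfl

lemma length_quot_map {A B : Type u} [CommRing A] [CommRing B] (σ : A →+* B) (hσ : Function.Surjective σ)
    (J : Ideal A) (hJ : RingHom.ker σ ≤ J) :
    Module.length A (A ⧸ J) = Module.length B (B ⧸ J.map σ) := by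
  refine length_eq_of_semilinear σ hσ (AddEquiv.ofBijective
    (Ideal.quotientMap (J.map σ) σ Ideal.le_comap_map).toAddMonoidHom
    ⟨?_, Ideal.quotientMap_surjective (H := Ideal.le_comap_map) hσ⟩) fun a x => ?_
  · refine Ideal.quotientMap_injective' (H := Ideal.le_comap_map) ?_
    rw [Ideal.comap_map_of_surjective _ hσ, ← RingHom.ker_eq_comap_bot, sup_eq_left.2 hJ]
  · obtain ⟨x, rfl⟩ := Ideal.Quotient.mk_surjective x
    exact congrArg (Ideal.Quotient.mk (J.map σ)) (map_mul σ a x)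

lemma pullAll_pullAll {X Y Z : Scheme.{u}} {δ : X → ℤ} {δY : Y → ℤ} {δZ : Z → ℤ} (f : X ⟶ Y) (g : Y ⟶ Z)
    [Flat f] [Flat g] (hX : Cyc.IsSetup X δ) (hY : Cyc.IsSetup Y δY) (hZ : Cyc.IsSetup Z δZ) {a b c : ℤ}
    (hf : ShiftAt f δ δY a) (hg : ShiftAt g δY δZ b) (hfg : ShiftAt (f ≫ g) δ δZ c) (e : c = b + a)
    {k : ℤ} {α : AlgebraicCycle Z ℤ} (ha : α ∈ zkSub δZ k) :
    pullAll (f ≫ g) hX hZ hfg (clk hZ k α) = pullAll f hX hY hf (clk hY (k + b) (pullHom g hY hg α)) := by
  rw [pullAll_clk (f ≫ g) hX hZ hfg ha, pullAll_clk f hX hY hf (pullHom_mem g hY hg ha),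
    pullHom_comp f g hX hY hf hg hfg e]
  subst e
  rw [add_assoc]

section Step

variable {X P : Scheme.{u}} {δ : X → ℤ} {δP : P → ℤ} {E : X.Modules} {m : ℕ} {p : P ⟶ X} {O : P.Modules}
  {q : (Scheme.Modules.pullback p).obj E ⟶ O}

/-- The section of `O(1)` cuts the fundamental cycle in the cycle of its zeros. -/
theorem cap1_fundamental (hX : Cyc.IsSetup X δ) (hE : FlatMod.IsFinLocFreeOfRank (m + 1) E)
    (hP : KRR.IsProjBundle p E O q) [Flat p] (hPs : Cyc.IsSetup P δP) (hδ : Cyc.DeltaCompat p δP δ)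
    (s : Γ(E, ⊤)) (n : ℤ) (hn : ∀ x : X, δ x ≤ n)
    (hdim : ∀ x : X, secIdeal E s x ≠ ⊤ → δ x ≤ n - ((m + 1 : ℕ) : ℤ))
    (hreg : ∀ x : X, secIdeal E s x ≠ ⊤ → δ x = n - ((m + 1 : ℕ) : ℤ) →
      ∃ f : Fin (m + 1) → X.presheaf.stalk x,
      RingTheory.Sequence.IsRegular (X.presheaf.stalk x) (List.ofFn f) ∧
        Ideal.span (Set.range f) = secIdeal E s x)
    (v : (ξ : P) → Cyc.secFibre O ξ) (hv : ∀ ξ, v ξ ≠ 0) (hinv : PicF.IsInvertible O)
    (A : AlgebraicCycle P ℤ) (hA : ⇑A = lenFun δP (n + m) fun _ => ⊥)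
    (B : AlgebraicCycle P ℤ) (hB : ⇑B = lenFun δP (n + m - 1) (secIdeal O (secOne q s))) :
    Cyc.RatEquiv δP (n + m - 1) (cap1 hPs hinv v hv A) B := by
  haveI := hX.1
  haveI := hPs.1
  obtain ⟨hBf, -, -⟩ := projFibres_of_isProjBundle hE hP
  have hle : ∀ y, δP y ≤ δ (p y) + m := fun y =>
    (delta_le_of_shift p hPs.2.2 (shiftAt_of_fibres hBf hδ) y).1
  have hrank := Grass5.QuotBC.isFinLocFreeOfRank_pullback (𝟙 P) hP.invertible
  let s₁ : Γ((Scheme.Modules.pullback (𝟙 P)).obj O, ⊤) := Amp73.pullS (𝟙 P) O ⊤ (secOne q s)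
  have hs₁ : ∀ y, secIdeal _ s₁ y = secIdeal O (secOne q s) y := fun y => by
    refine (secIdeal_pullS (𝟙 P) hP.invertible _ y).trans ?_
    rw [Scheme.Hom.stalkMap_id]
    exact Ideal.map_id _
  have hlt : ∀ y : P, secIdeal O (secOne q s) y ≠ ⊤ → secIdeal E s (p y) = ⊤ → δP y < δ (p y) + m :=
    fun y h1 h2 => delta_lt_of_secOne_eq_zero hE hP hPs hδ s y h2
      ((mem_smul_top_iff_germ hP.invertible _ y _).2 (le_maximalIdeal h1))
  have h := S1924.result P P δP hPs O hinv (𝟙 P) (n + m - 1)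
    (fun y => by
      show δP y ≤ _
      have := hle y
      have := hn (p y)
      omega)
    s₁ (fun y hy => ?_) (fun y hy => ?_) v hv (cap1 hPs hinv v hv A) ?_ B ?_
  · have hB' : AlgebraicCycle.map (𝟙 P) (fun y => δP ((𝟙 P : P ⟶ P) y)) δP B = B := mapHom_id B
    rwa [hB'] at h
  · show δP y ≤ _
    have h1 : secIdeal O (secOne q s) y ≠ ⊤ := by
      intro h1
      have h2 := (mem_smul_top_iff_germ hrank s₁ y _).1 hy
      exact (maximalIdeal.isMaximal _).ne_top (top_le_iff.1 (((hs₁ y).trans h1).ge.trans h2))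
    by_cases h2 : secIdeal E s (p y) = ⊤
    · have := hlt y h1 h2
      have := hn (p y)
      omega
    · have := hdim _ h2
      have := hle y
      omega
  · replace hy : δP y = n + m - 1 := hy
    obtain ⟨c, hc1, hc2⟩ : ∃ c ∈ secIdeal _ s₁ y, IsSMulRegular (P.presheaf.stalk y) c := by
      simp only [hs₁]
      by_cases h2 : secIdeal E s (p y) = ⊤
      · obtain ⟨U, hU, e, he⟩ := Mero90.exists_frame' hinv y
        obtain ⟨c, hc⟩ := exists_coeff he (secOne q s)
        refine ⟨P.presheaf.germ U y hU c, ?_, isSMulRegular_coeff hE hP s y h2 he hc hU⟩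
        obtain ⟨W, f, -, hyW, hf, -⟩ := exists_coords hP.invertible (secOne q s) y
        unfold secIdeal
        rw [hc y hU, coordIdeal_smul_generator (germBasis hf hyW)
          (eq_top_iff.2 fun z _ => Submodule.mem_span_singleton.2 ((Mero90.isGen_germ he ⟨y, hU⟩).2 z))]
        exact Ideal.mem_span_singleton_self _
      · obtain ⟨f, hf, hfs⟩ := hreg _ h2 (by
          have := hdim _ h2
          have := hle y
          omega)
        obtain ⟨c, hc, hcr, -⟩ := exists_cut hE hP s y f hf hfs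
        exact ⟨c, hc.ge (Ideal.mem_span_singleton_self c), hcr⟩
    exact injective_smul_of_regular hc1 hc2
  · rw [coe_cap1, hA, show n + (m : ℤ) - 1 + 1 = n + m by ring, subschemeFun_id_eq_lenFun]
  · rw [hB, zeroSectionFun_eq_lenFun hrank]
    exact congrArg (lenFun δP (n + m - 1)) (funext fun y => (hs₁ y).symm)

end Step

theorem topProp_succ (m : ℕ) (IH : TopProp.{u} m) : TopProp.{u} (m + 1) := by
  intro X δ hX E hE s n hn hdim hreg α ζ hα hζ T π _ _ δT hT d hc hd hπd ls hf hlen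
  classical
  haveI := hX.1
  obtain ⟨P, p, O, q, hP, hp⟩ := exists_splitMap_step hE
  haveI := hp.proper
  haveI := hp.flat
  let δP := upDelta p δ
  have hPs : Cyc.IsSetup P δP := isSetup_upDelta p hX
  haveI := hPs.1
  have hδ : Cyc.DeltaCompat p δP δ := deltaCompat_upDelta p δ
  obtain ⟨hBf, -, hinv⟩ := projFibres_of_isProjBundle hE hP
  have hcp : ShiftAt p δP δ m := shiftAt_of_fibres hBf hδ
  have hle : ∀ y, δP y ≤ δ (p y) + m := fun y => (delta_le_of_shift p hPs.2.2 hcp y).1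
  have hαz := mem_zkSub_of_coe_eq_lenFun hα
  have hζz := mem_zkSub_of_coe_eq_lenFun hζ
  obtain ⟨γ, hγ⟩ := exists_chernCap hX hBf hinv hPs hδ hαz
  suffices hrat : Cyc.RatEquiv δ (n - ((m + 1 : ℕ) : ℤ)) (γ (Fin.last (m + 1))) ζ by
    have h := pullAll_chernCap hX hT hc hd hπd hE hP hPs hδ hf hlen hαz hγ (Fin.last (m + 1))
    simp only [Fin.val_last] at h
    rw [← h]
    congr 1
    exact ((clk_eq_iff hX (hγ.2.1 (Fin.last (m + 1))) hζz).2 hrat).symm
  -- the bundle upstairs
  haveI := hP.epi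
  let F := (Scheme.Modules.pullback p).obj E
  have hF : FlatMod.IsFinLocFreeOfRank (m + 1) F := Grass5.QuotBC.isFinLocFreeOfRank_pullback p hE
  let K := kernel q
  have hK : FlatMod.IsFinLocFreeOfRank m K := isFinLocFreeOfRank_kernel hF hinv q
  have hse : (ShortComplex.mk (kernel.ι q) q (kernel.condition q)).ShortExact :=
    { exact := ShortComplex.exact_of_f_is_kernel _ (kernelIsKernel q) }
  obtain ⟨T', τ, d', δT', hτ, hfl, hlft, hT', hdτ, hcτ, hall⟩ :=
    exists_split hPs 1 ![K] ![m] (fun i => by fin_cases i; exact hK)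
  haveI := hfl
  haveI := hlft
  haveI := hT'.1
  obtain ⟨ks, hks, hklen⟩ := hall 0
  simp only [Matrix.cons_val_zero] at hks hklen
  have hρ := hτ.comp hp
  have hdρ : Cyc.DeltaCompat (τ ≫ p) δT' δ := IntMult12.deltaCompat_trans hdτ hδ
  have hcρ : ShiftAt (τ ≫ p) δT' δ ((d' + m : ℕ) : ℤ) := shiftAt_of_hasRelDim _ hρ.relDim hdρ
  have hfρ : HasFilt ((Scheme.Modules.pullback (τ ≫ p)).obj E) ((Scheme.Modules.pullback τ).obj O :: ks) :=
    (HasFilt.step _ _ ((ShortComplex.mk _ _ (kernel.condition q)).map (Scheme.Modules.pullback τ)).zero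
      (KRR40.shortExact_pullback τ hse (HasFilt.isFinLocFree_of_isInvertible hinv))
      (Amp73.isInvertible_pullback τ hinv) hks).of_iso ((Scheme.Modules.pullbackComp τ p).app E)
  refine ratEquiv_of_pullAll hX hT' hcρ hdρ hρ (hγ.2.1 (Fin.last (m + 1))) hζz ?_
  have hroots := pullAll_chernCap hX hT' hcρ hdρ hρ.relDim hE hP hPs hδ hfρ (by simp [hklen]) hαz hγ
    (Fin.last (m + 1))
  simp only [Fin.val_last] at hroots
  rw [hroots]
  have hcons : rootsOp hT' ((Scheme.Modules.pullback τ).obj O :: ks) =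
      lc1 hT' ((Scheme.Modules.pullback τ).obj O) ::ₘ rootsOp hT' ks := rfl
  rw [hcons, esymm_cons_succ, esymm_eq_zero_of_card_lt (s := rootsOp hT' ks)
    (by rw [card_rootsOp, hklen]; omega), zero_add, mul_comm, map_mul]
  show opAct hT' ((rootsOp hT' ks).esymm m) (opAct hT' (lc1 hT' _) _) = _
  have ecρ : ((d' + m : ℕ) : ℤ) = (m : ℤ) + d' := by push_cast; ring
  rw [pullAll_pullAll τ p hT' hPs hX hcτ hcp hcρ ecρ hαz, pullAll_pullAll τ p hT' hPs hX hcτ hcp hcρ ecρ hζz,
    ← pullAll_lc1 τ hT' hPs hcτ hinv]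
  -- cutting by the section of O(1)
  obtain ⟨v, hv⟩ := c1End.exists_secFibre_family' hinv
  have hA0 : pullHom p hPs hcp α ∈ zkSub δP (n + m) := pullHom_mem p hPs hcp hαz
  rw [opAct_lc1, c1End_clk hPs hinv v hv hA0]
  obtain ⟨D, j, hj, hD⟩ := exists_isZeroSchemeOf hinv (secOne q s)
  haveI := hj
  let δD : D → ℤ := fun z => δP (j z)
  have hDs : Cyc.IsSetup D δD := isSetup_closedImmersion j hPs
  have hjd : Cyc.DeltaCompat j δD δP := deltaCompat_preimmersion j δP
  have hkD : ∀ z, RingHom.ker (j.stalkMap z).hom = secIdeal O (secOne q s) (j z) :=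
    fun z => ker_zeroScheme hP.invertible hD z
  have hne : ∀ z, secIdeal O (secOne q s) (j z) ≠ ⊤ := fun z => by
    rw [← hkD]
    exact RingHom.ker_ne_top _
  have hoff : ∀ y ∉ Set.range j, secIdeal O (secOne q s) y = ⊤ :=
    fun y hy => coordIdeal_zeroScheme_eq_top hP.invertible hD hy
  have hn' : ∀ z, δD z ≤ n + m - 1 := fun z => by
    show δP (j z) ≤ _
    by_cases h2 : secIdeal E s (p (j z)) = ⊤
    · have := delta_lt_of_secOne_eq_zero hE hP hPs hδ s (j z) h2
        ((mem_smul_top_iff_germ hP.invertible _ (j z) _).2 (le_maximalIdeal (hne z)))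
      have := hn (p (j z))
      omega
    · have := hdim _ h2
      have := hle (j z)
      omega
  obtain ⟨αD, hαD, hαDz⟩ := exists_fundamentalCycle hDs (n + m - 1) hn'
  have hcut : Cyc.RatEquiv δP (n + m - 1) (cap1 hPs hinv v hv (pullHom p hPs hcp α))
      (mapHom j δD δP αD) := by
    refine cap1_fundamental hX hE hP hPs hδ s n hn hdim hreg v hv hinv _ ?_ _ ?_
    · rw [pullHom_lenFun p hPs hcp (fun y _ => hn y) hα]
      exact congrArg (lenFun δP (n + m)) (funext fun y => Ideal.map_bot)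
    · exact (map_fundamental j δP (n + m - 1) αD hαD).trans (subschemeFun_eq_lenFun j δP _ _ hkD hoff)
  rw [(clk_eq_iff hPs (cap1_mem_pred hPs hinv v hv hA0) (mapHom_mem j hαDz)).2 hcut]
  -- the section on the zero scheme
  let K' := (Scheme.Modules.pullback j).obj K
  have hse' := shortExact_pullback_bundle j hse hP.invertible
  have hzero : ((Scheme.Modules.pullback j).map q).app ⊤
      (Amp73.pullS j F ⊤ (Amp73.pullS p E ⊤ s)) = 0 := by
    rw [show ((Scheme.Modules.pullback j).map q).app ⊤ (Amp73.pullS j F ⊤ (Amp73.pullS p E ⊤ s)) =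
      Amp73.pullS j O ⊤ (secOne q s) from Amp73.map_app_pullS j q ⊤ _]
    refine eq_zero_of_secIdeal (Grass5.QuotBC.isFinLocFreeOfRank_pullback j hP.invertible) _ fun z => ?_
    rw [secIdeal_pullS j hP.invertible, ← hkD]
    exact eq_bot_iff.2 (Ideal.map_le_iff_le_comap.2 le_rfl)
  haveI := hse'.mono_f
  obtain ⟨s', hs'⟩ := exists_app_eq_of_exact _ hse'.exact ⊤ _ hzero
  have hK' : FlatMod.IsFinLocFreeOfRank m K' := Grass5.QuotBC.isFinLocFreeOfRank_pullback j hK
  have hI : ∀ z, secIdeal K' s' z =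
      ((secIdeal E s (p (j z))).map (p.stalkMap (j z)).hom).map (j.stalkMap z).hom := fun z => by
    have h := coordIdeal_sub hse' (Amp73.isInvertible_pullback j hinv) hK' s' z
    erw [hs'] at h
    rw [← secIdeal_pullS p hE, ← secIdeal_pullS j hF]
    exact h.symm
  have hI' : ∀ z, secIdeal K' s' z ≠ ⊤ → secIdeal E s (p (j z)) ≠ ⊤ := fun z h h' =>
    h (by rw [hI, h', Ideal.map_top, Ideal.map_top])
  let ζD := restrictClosed j (pullHom p hPs hcp ζ)
  have hζP := pullHom_lenFun p hPs hcp (k := n - ((m + 1 : ℕ) : ℤ)) hdim hζ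
  have hζoff : ∀ y ∉ Set.range j, pullHom p hPs hcp ζ y = 0 := fun y hy => by
    rw [hζP]
    refine lenFun_eq_zero (Or.inr (top_le_iff.1 ?_))
    rw [← hoff y hy]
    exact secIdeal_secOne_le hE s y
  have hζD : ⇑ζD = lenFun δD (n + m - 1 - m) (secIdeal K' s') := funext fun z => by
    rw [restrictClosed_apply, hζP]
    unfold lenFun
    rw [show n - ((m + 1 : ℕ) : ℤ) + m = n + m - 1 - m by push_cast; ring]
    refine if_congr Iff.rfl ?_ rfl
    rw [hI]
    congr 2
    exact length_quot_map _ (j.stalkMap_surjective z) _ ((hkD z).le.trans (secIdeal_secOne_le hE s (j z)))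
  -- the splitting over the zero scheme
  have hsq := IsPullback.of_hasPullback τ j
  let j' := pullback.fst τ j
  let τD := pullback.snd τ j
  let δTD : ↑(pullback τ j) → ℤ := fun z => δT' (j' z)
  have hTD : Cyc.IsSetup _ δTD := isSetup_closedImmersion j' hT'
  have hj' : Cyc.DeltaCompat j' δTD δT' := deltaCompat_preimmersion j' δT'
  have hdD : Cyc.DeltaCompat τD δTD δD := deltaCompat_square j' j τD τ pullback.condition.symm hdτ
  have hπD : Cyc.HasRelDim τD d' := FibDim94.hasRelDim_of_isPullback hsq hτ.relDim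
  haveI : Flat τD := MorphismProperty.of_isPullback hsq inferInstance
  haveI : LocallyOfFiniteType τD := MorphismProperty.of_isPullback hsq inferInstance
  have hcD : ShiftAt τD δTD δD d' := shiftAt_of_hasRelDim τD hπD hdD
  have hfD : HasFilt ((Scheme.Modules.pullback τD).obj K') (ks.map (Scheme.Modules.pullback j').obj) :=
    (hks.pullback j').of_iso ((Scheme.Modules.pullbackComp j' τ).app K ≪≫
      (Scheme.Modules.pullbackCongr pullback.condition).app K ≪≫
      ((Scheme.Modules.pullbackComp τD j).app K).symm)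
  have hih := IH hDs hK' s' (n + m - 1) hn' (fun z hz => ?_) (fun z hz hz' => ?_) αD ζD
    (hαD.trans (subschemeFun_id_eq_lenFun δD _)) hζD τD hTD d' hcD hdD hπD _ hfD (by simp [hklen])
  rotate_left
  · show δP (j z) ≤ _
    have := hdim _ (hI' z hz)
    have := hle (j z)
    omega
  · replace hz' : δP (j z) = n + m - 1 - m := hz'
    obtain ⟨f, hf, hfs⟩ := hreg _ (hI' z hz) (by
      have := hdim _ (hI' z hz)
      have := hle (j z)
      omega)
    obtain ⟨c, hc, -, hh⟩ := exists_cut hE hP s (j z) f hf hfs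
    obtain ⟨h, hh1, hh2⟩ := hh (j.stalkMap z).hom (j.stalkMap_surjective z) ((hkD z).trans hc)
    exact ⟨h, hh1, hh2.trans (hI z).symm⟩
  have hζDz := mem_zkSub_of_coe_eq_lenFun hζD
  have hpush := congrArg (mapAll j' hTD hT' hj') hih
  rw [mapAll_esymm j' hTD hT' hj' hks.isInvertible, pullAll_clk τD hTD hDs hcD hζDz,
    pullAll_clk τD hTD hDs hcD hαDz, mapAll_clk j' hTD hT' hj' (pullHom_mem τD hTD hcD hζDz),
    mapAll_clk j' hTD hT' hj' (pullHom_mem τD hTD hcD hαDz),
    ← pull_map_square hsq hT' hTD hjd hj' hcτ hcD, ← pull_map_square hsq hT' hTD hjd hj' hcτ hcD] at hpush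
  rw [show n + (m : ℤ) - 1 = n + m - 1 from rfl, pullAll_clk τ hT' hPs hcτ (mapHom_mem j hαDz),
    pullAll_clk τ hT' hPs hcτ (pullHom_mem p hPs hcp hζz)]
  rw [show mapHom j δD δP ζD = pullHom p hPs hcp ζ from mapHom_restrictClosed j _ hζoff,
    show n + (m : ℤ) - 1 - m + d' = n - ((m + 1 : ℕ) : ℤ) + m + d' by push_cast; ring] at hpush
  exact hpush.symm

theorem topProp : ∀ r : ℕ, TopProp.{u} r
  | 0 => topProp_zero
  | r + 1 => topProp_succ r (topProp r)

end Groth.Agent.Cyc90.Dev
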